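import Cfsg.Agent.Lib.MaxSub.SymEight.Frame
import Cfsg.Agent.Lib.MaxSub.DecompTransport

/-!
Coordinates adapted to two anticommuting involutions of a frame: the algebra becomes two by two matrices
over the algebra of a frame of half the degree.
-/

set_option autoImplicit false
set_option linter.unusedSectionVars false
set_option linter.style.haveILetI false

namespace CfsgLib.MaxSub.SymEight

open scoped MatrixGroups
open Cfsg.Geo Matrix CfsgLib.MaxSub.DecompMax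

variable {ι κ : Type} [Fintype ι] [DecidableEq ι] [Fintype κ] [DecidableEq κ] {F : Type*} [Field F]

local notation "Mι" => Matrix ι ι F
local notation "Mκ" => Matrix κ κ F

/-- Change of coordinates on matrices. -/
noncomputable def cA (Φ : (ι → F) ≃ₗ[F] (κ → F)) : Matrix ι ι F ≃ₐ[F] Matrix κ κ F :=
  (Matrix.toLinAlgEquiv' (R := F) (n := ι)).trans
    ((Φ.conjAlgEquiv F).trans (LinearMap.toMatrixAlgEquiv' (R := F) (n := κ)))

theorem coe_coordGL (Φ : (ι → F) ≃ₗ[F] (κ → F)) (g : GL ι F) :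
    (coordGL Φ g : Mκ) = cA Φ (g : Mι) := rfl

theorem cA_mulVec (Φ : (ι → F) ≃ₗ[F] (κ → F)) (A : Mι) (v : ι → F) : cA Φ A *ᵥ Φ v = Φ (A *ᵥ v) := by
  show (LinearMap.toMatrixAlgEquiv' (Φ.conjAlgEquiv F (Matrix.toLinAlgEquiv' A))) *ᵥ Φ v = _
  rw [← Matrix.toLinAlgEquiv'_apply, Matrix.toLinAlgEquiv'_toMatrixAlgEquiv']
  simp

theorem cA_ext (Φ : (ι → F) ≃ₗ[F] (κ → F)) {B C : Mκ} (h : ∀ v, B *ᵥ Φ v = C *ᵥ Φ v) : B = C := by
  apply Matrix.toLin'.injective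
  refine LinearMap.ext fun w => ?_
  obtain ⟨v, rfl⟩ := Φ.surjective w
  simpa [Matrix.toLin'_apply] using h v

theorem Frame.map {R : Subgroup (GL ι F)} {I : F} (hR : Frame R I) (Φ : (ι → F) ≃ₗ[F] (κ → F)) :
    Frame (R.map (coordGL Φ).toMonoidHom) I := by
  have hcard : Fintype.card κ = Fintype.card ι := by
    have := Φ.finrank_eq
    rw [Module.finrank_fintype_fun_eq_card, Module.finrank_fintype_fun_eq_card] at this
    exact this.symm
  have hneg : ∀ g : GL ι F, coordGL Φ (-g) = -coordGL Φ g := fun g =>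
    Units.ext (by rw [coe_coordGL, Units.val_neg, Units.val_neg, coe_coordGL, map_neg])
  refine ⟨hR.two, hcard ▸ hR.dim_ne, hR.I_sq, fun z hz => ?_, ?_, ?_, ?_⟩
  · refine ⟨(coordGL Φ).symm z, hR.scalar_mem _ ((cA Φ).injective ?_), MulEquiv.apply_symm_apply _ _⟩
    rw [← coe_coordGL, MulEquiv.apply_symm_apply, hz, map_smul, map_one]
  · rintro _ ⟨y, hy, rfl⟩
    rcases hR.sq y hy with h | h
    · left; rw [MulEquiv.coe_toMonoidHom, ← map_mul, h, map_one]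
    · right; rw [MulEquiv.coe_toMonoidHom, ← map_mul, h, hneg, map_one]
  · rintro _ ⟨x, hx, rfl⟩ _ ⟨y, hy, rfl⟩
    rcases hR.comm x hx y hy with h | h
    · left; rw [MulEquiv.coe_toMonoidHom, ← map_mul, h, map_mul]
    · right; rw [MulEquiv.coe_toMonoidHom, ← map_mul, h, hneg, map_mul]
  · have hs : matrixSet (R.map (coordGL Φ).toMonoidHom) = (cA Φ : Mι → Mκ) '' matrixSet R := by
      ext X
      constructor
      · rintro ⟨_, ⟨y, hy, rfl⟩, rfl⟩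
        exact ⟨(y : Mι), ⟨y, hy, rfl⟩, (coe_coordGL Φ y).symm⟩
      · rintro ⟨_, ⟨y, hy, rfl⟩, rfl⟩
        exact ⟨coordGL Φ y, ⟨y, hy, rfl⟩, coe_coordGL Φ y⟩
    rw [CfsgLib.Aschbacher.alg, hs]
    show Algebra.adjoin F (((cA Φ).toAlgHom : Mι →ₐ[F] Mκ) '' matrixSet R) = ⊤
    rw [← AlgHom.map_adjoin, show Algebra.adjoin F (matrixSet R) = ⊤ from hR.alg, Algebra.map_top,
      AlgHom.range_eq_top]
    exact (cA Φ).surjective

/-- The block diagonal matrix. -/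
def bd (A B : Mκ) : Matrix (κ ⊕ κ) (κ ⊕ κ) F := Matrix.fromBlocks A 0 0 B

/-- The block antidiagonal matrix. -/
def od (A B : Mκ) : Matrix (κ ⊕ κ) (κ ⊕ κ) F := Matrix.fromBlocks 0 A B 0

theorem bd_mul (A B C D : Mκ) : bd A B * bd C D = bd (A * C) (B * D) := by
  simp [bd, Matrix.fromBlocks_multiply]

theorem bd_mul_od (A B C D : Mκ) : bd A B * od C D = od (A * C) (B * D) := by
  simp [bd, od, Matrix.fromBlocks_multiply]

theorem od_mul_bd (A B C D : Mκ) : od A B * bd C D = od (A * D) (B * C) := by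
  simp [bd, od, Matrix.fromBlocks_multiply]

theorem od_mul (A B C D : Mκ) : od A B * od C D = bd (A * D) (B * C) := by
  simp [bd, od, Matrix.fromBlocks_multiply]

theorem bd_one : bd (1 : Mκ) 1 = 1 := Matrix.fromBlocks_one

theorem bd_neg (A B : Mκ) : -bd A B = bd (-A) (-B) := by simp [bd, Matrix.fromBlocks_neg]

theorem bd_smul (c : F) (A B : Mκ) : c • bd A B = bd (c • A) (c • B) := by
  simp [bd, Matrix.fromBlocks_smul]

theorem od_smul (c : F) (A B : Mκ) : c • od A B = od (c • A) (c • B) := by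
  simp [od, Matrix.fromBlocks_smul]

theorem bd_inj {A B C D : Mκ} (h : bd A B = bd C D) : A = C ∧ B = D := by
  have := (Matrix.fromBlocks_inj).1 h
  exact ⟨this.1, this.2.2.2⟩

theorem od_inj {A B C D : Mκ} (h : od A B = od C D) : A = C ∧ B = D := by
  have := (Matrix.fromBlocks_inj).1 h
  exact ⟨this.2.1, this.2.2.1⟩

/-- The block diagonal element. -/
def pairGL : GL κ F × GL κ F →* GL (κ ⊕ κ) F where
  toFun a :=
    ⟨bd (a.1 : Mκ) (a.2 : Mκ), bd ((a.1⁻¹ : GL κ F) : Mκ) ((a.2⁻¹ : GL κ F) : Mκ),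
      by rw [bd_mul, ← Units.val_mul, ← Units.val_mul, mul_inv_cancel, mul_inv_cancel, Units.val_one, bd_one],
      by rw [bd_mul, ← Units.val_mul, ← Units.val_mul, inv_mul_cancel, inv_mul_cancel, Units.val_one, bd_one]⟩
  map_one' := Units.ext bd_one
  map_mul' a b := Units.ext (by
    show bd ((a.1 * b.1 : GL κ F) : Mκ) ((a.2 * b.2 : GL κ F) : Mκ) = bd _ _ * bd _ _
    rw [Units.val_mul, Units.val_mul, bd_mul])

theorem coe_pairGL (a b : GL κ F) :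
    (pairGL (a, b) : Matrix (κ ⊕ κ) (κ ⊕ κ) F) = bd (a : Mκ) (b : Mκ) := rfl

/-- Two equal blocks. -/
def dup : GL κ F →* GL (κ ⊕ κ) F := pairGL.comp ((MonoidHom.id _).prod (MonoidHom.id _))

theorem coe_dup (a : GL κ F) : (dup a : Matrix (κ ⊕ κ) (κ ⊕ κ) F) = bd (a : Mκ) (a : Mκ) := rfl

theorem dup_injective : Function.Injective (dup : GL κ F → GL (κ ⊕ κ) F) := fun a b h =>
  Units.ext (bd_inj (congrArg Units.val h)).1

theorem det_pairGL (a b : GL κ F) :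
    (pairGL (a, b) : Matrix (κ ⊕ κ) (κ ⊕ κ) F).det = (a : Mκ).det * (b : Mκ).det := by
  rw [coe_pairGL, bd, Matrix.det_fromBlocks_zero₁₂]

/-- Coordinates adapted to two anticommuting involutions. -/
theorem exists_coord (h2 : (2 : F) ≠ 0) {r x : Mι} (hr : r * r = 1) (hx : x * x = 1) (hrx : r * x = -(x * r)) :
    ∃ (d : ℕ) (Φ : (ι → F) ≃ₗ[F] (Fin d ⊕ Fin d → F)), Fintype.card ι = 2 * d ∧
      cA Φ r = bd 1 (-1) ∧ cA Φ x = od 1 1 := by
  classical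
  obtain ⟨W, hW⟩ : ∃ W : Submodule F (ι → F), W = LinearMap.ker (Matrix.toLin' r - LinearMap.id) := ⟨_, rfl⟩
  have hmem : ∀ w, w ∈ W ↔ r *ᵥ w = w := fun w => by
    rw [hW, LinearMap.mem_ker, LinearMap.sub_apply, sub_eq_zero]; rfl
  let P : (ι → F) →ₗ[F] W :=
    LinearMap.codRestrict W ((2 : F)⁻¹ • (LinearMap.id + Matrix.toLin' r)) fun v => by
      rw [hmem]
      show r *ᵥ ((2 : F)⁻¹ • (v + r *ᵥ v)) = (2 : F)⁻¹ • (v + r *ᵥ v)
      rw [mulVec_smul, mulVec_add, mulVec_mulVec, hr, one_mulVec, add_comm]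
  have hP : ∀ v, (P v : ι → F) = (2 : F)⁻¹ • (v + r *ᵥ v) := fun v => rfl
  obtain ⟨d, hd⟩ : ∃ d, d = Module.finrank F W := ⟨_, rfl⟩
  let b : W ≃ₗ[F] (Fin d → F) := (Module.finBasisOfFinrankEq F W hd.symm).equivFun
  have hxr : ∀ v, r *ᵥ (x *ᵥ v) = -(x *ᵥ (r *ᵥ v)) := fun v => by
    rw [mulVec_mulVec, hrx, neg_mulVec, ← mulVec_mulVec]
  have hdec : ∀ v, (P v : ι → F) + x *ᵥ (P (x *ᵥ v) : ι → F) = v := fun v => by
    rw [hP, hP, mulVec_smul, mulVec_add, hxr, mulVec_neg, mulVec_mulVec v x x, hx, one_mulVec,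
      mulVec_mulVec (r *ᵥ v) x x, hx, one_mulVec, ← smul_add,
      show v + r *ᵥ v + (v + -(r *ᵥ v)) = (2 : F) • v by rw [two_smul]; abel, smul_smul,
      inv_mul_cancel₀ h2, one_smul]
  have hPW : ∀ w : W, P (w : ι → F) = w ∧ P (x *ᵥ (w : ι → F)) = 0 := fun w => by
    have hw := (hmem _).1 w.2
    refine ⟨Subtype.ext ?_, Subtype.ext ?_⟩
    · rw [hP, hw, ← two_smul F (w : ι → F), smul_smul, inv_mul_cancel₀ h2, one_smul]
    · rw [hP, hxr, hw, add_neg_cancel, smul_zero]; rfl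
  let Φ : (ι → F) ≃ₗ[F] (Fin d ⊕ Fin d → F) :=
    { toFun := fun v => Sum.elim (b (P v)) (b (P (x *ᵥ v)))
      map_add' := fun u v => by
        funext i; cases i <;> simp [mulVec_add]
      map_smul' := fun c v => by
        funext i; cases i <;> simp [mulVec_smul]
      invFun := fun f => (b.symm (f ∘ Sum.inl) : ι → F) + x *ᵥ (b.symm (f ∘ Sum.inr) : ι → F)
      left_inv := fun v => by
        simp only [Sum.elim_comp_inl, Sum.elim_comp_inr, LinearEquiv.symm_apply_apply]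
        exact hdec v
      right_inv := fun f => by
        obtain ⟨h1, h1'⟩ := hPW (b.symm (f ∘ Sum.inl))
        obtain ⟨h2', h2''⟩ := hPW (b.symm (f ∘ Sum.inr))
        funext i
        cases i with
        | inl i => simp [map_add, h1, h2'']
        | inr i => simp [mulVec_add, map_add, h1', mulVec_mulVec, hx, h2'] }
  have hΦ : ∀ v, Φ v = Sum.elim (b (P v)) (b (P (x *ᵥ v))) := fun v => rfl
  refine ⟨d, Φ, ?_, cA_ext Φ fun v => ?_, cA_ext Φ fun v => ?_⟩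
  · have := Φ.finrank_eq
    rw [Module.finrank_fintype_fun_eq_card, Module.finrank_fintype_fun_eq_card, Fintype.card_sum,
      Fintype.card_fin] at this
    omega
  · rw [cA_mulVec, hΦ, hΦ, bd, Matrix.fromBlocks_mulVec]
    have e1 : P (r *ᵥ v) = P v := Subtype.ext (by
      rw [hP, hP, mulVec_mulVec, hr, one_mulVec, add_comm])
    have e2 : P (x *ᵥ (r *ᵥ v)) = -P (x *ᵥ v) := Subtype.ext (by
      show (P (x *ᵥ (r *ᵥ v)) : ι → F) = -(P (x *ᵥ v) : ι → F)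
      rw [hP, hP, hxr, hxr, mulVec_mulVec v r r, hr, one_mulVec, ← smul_neg]
      congr 1
      abel)
    rw [e1, e2, map_neg]
    simp [neg_mulVec]
  · rw [cA_mulVec, hΦ, hΦ, od, Matrix.fromBlocks_mulVec]
    simp [mulVec_mulVec, hx]

/-- A matrix commuting with `bd 1 (-1)` is block diagonal. -/
theorem eq_bd_of_comm (h2 : (2 : F) ≠ 0) {g : Matrix (κ ⊕ κ) (κ ⊕ κ) F}
    (h : g * bd 1 (-1) = bd 1 (-1) * g) : ∃ A B, g = bd A B := by
  rw [← Matrix.fromBlocks_toBlocks g, bd, Matrix.fromBlocks_multiply, Matrix.fromBlocks_multiply] at h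
  simp only [Matrix.mul_one, Matrix.one_mul, Matrix.mul_zero, Matrix.zero_mul, add_zero, zero_add,
    Matrix.mul_neg, Matrix.neg_mul] at h
  obtain ⟨-, hb, hc, -⟩ := Matrix.fromBlocks_inj.1 h
  have hz : ∀ X : Mκ, -X = X → X = 0 := fun X e => by
    have : (2 : F) • X = 0 := by rw [two_smul]; nth_rewrite 1 [← e]; exact neg_add_cancel _
    exact (smul_eq_zero.1 this).resolve_left h2
  refine ⟨g.toBlocks₁₁, g.toBlocks₂₂, ?_⟩
  conv_lhs => rw [← Matrix.fromBlocks_toBlocks g]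
  rw [bd, hz _ hb, hz _ hc.symm]

/-- An element commuting with `bd 1 (-1)` is a pair of blocks. -/
theorem exists_pairGL_of_comm (h2 : (2 : F) ≠ 0) {g : GL (κ ⊕ κ) F}
    (h : (g : Matrix (κ ⊕ κ) (κ ⊕ κ) F) * bd 1 (-1) = bd 1 (-1) * (g : Matrix (κ ⊕ κ) (κ ⊕ κ) F)) :
    ∃ a b : GL κ F, g = pairGL (a, b) := by
  obtain ⟨A, B, hAB⟩ := eq_bd_of_comm h2 h
  obtain ⟨A', B', hAB'⟩ := eq_bd_of_comm h2
    (((show Commute (g : Matrix (κ ⊕ κ) (κ ⊕ κ) F) (bd 1 (-1)) from h).units_inv_left).eq)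
  have e1 := g.mul_inv
  have e2 := g.inv_mul
  rw [hAB, hAB', bd_mul, ← bd_one] at e1 e2
  exact ⟨⟨A, A', (bd_inj e1).1, (bd_inj e2).1⟩, ⟨B, B', (bd_inj e1).2, (bd_inj e2).2⟩,
    Units.ext (by rw [coe_pairGL, hAB])⟩

/-- A matrix commuting with both coordinate involutions has two equal blocks. -/
theorem eq_dup_of_comm (h2 : (2 : F) ≠ 0) {g : Matrix (κ ⊕ κ) (κ ⊕ κ) F}
    (h : g * bd 1 (-1) = bd 1 (-1) * g) (h' : g * od 1 1 = od 1 1 * g) : ∃ A, g = bd A A := by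
  obtain ⟨A, B, rfl⟩ := eq_bd_of_comm h2 h
  rw [bd_mul_od, od_mul_bd] at h'
  simp only [Matrix.one_mul, Matrix.mul_one] at h'
  exact ⟨A, by rw [(od_inj h').1]⟩

/-- A frame in adapted coordinates. -/
structure BlockFrame (R : Subgroup (GL (κ ⊕ κ) F)) (I : F) : Prop where
  frame : Frame R I
  memZ : ∃ z ∈ R, (z : Matrix (κ ⊕ κ) (κ ⊕ κ) F) = bd 1 (-1)
  memX : ∃ x ∈ R, (x : Matrix (κ ⊕ κ) (κ ⊕ κ) F) = od 1 1

/-- The group of the equal blocks. -/
def half (R : Subgroup (GL (κ ⊕ κ) F)) : Subgroup (GL κ F) := R.comap dup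

namespace BlockFrame

variable {R : Subgroup (GL (κ ⊕ κ) F)} {I : F} (hR : BlockFrame R I)
include hR

/-- Every element is a coordinate monomial times an element with equal blocks. -/
theorem decomp {y : GL (κ ⊕ κ) F} (hy : y ∈ R) : ∃ a ∈ half R,
    (y : Matrix (κ ⊕ κ) (κ ⊕ κ) F) = bd (a : Mκ) a ∨ (y : Matrix (κ ⊕ κ) (κ ⊕ κ) F) = bd (a : Mκ) (-a) ∨
      (y : Matrix (κ ⊕ κ) (κ ⊕ κ) F) = od (a : Mκ) a ∨ (y : Matrix (κ ⊕ κ) (κ ⊕ κ) F) = od (a : Mκ) (-a) := by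
  obtain ⟨z, hz, hzm⟩ := hR.memZ
  obtain ⟨x, hx, hxm⟩ := hR.memX
  have h2 := hR.frame.two
  have hzz : (z : Matrix (κ ⊕ κ) (κ ⊕ κ) F) * z = 1 := by
    rw [hzm, bd_mul, neg_mul_neg, Matrix.one_mul, bd_one]
  have hxx : (x : Matrix (κ ⊕ κ) (κ ⊕ κ) F) * x = 1 := by
    rw [hxm, od_mul, Matrix.one_mul, bd_one]
  have hzx : (z : Matrix (κ ⊕ κ) (κ ⊕ κ) F) * x = -((x : Matrix (κ ⊕ κ) (κ ⊕ κ) F) * z) := by
    rw [hzm, hxm, bd_mul_od, od_mul_bd]
    simp [od, Matrix.fromBlocks_neg]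
  have key : ∀ w : GL (κ ⊕ κ) F, w ∈ R → (w : Matrix (κ ⊕ κ) (κ ⊕ κ) F) * z = z * w →
      (w : Matrix (κ ⊕ κ) (κ ⊕ κ) F) * x = x * w →
      ∃ a ∈ half R, (w : Matrix (κ ⊕ κ) (κ ⊕ κ) F) = bd (a : Mκ) a := by
    intro w hw h1 h1'
    rw [hzm] at h1; rw [hxm] at h1'
    obtain ⟨A, hA⟩ := eq_dup_of_comm h2 h1 h1'
    have h3 : ((w⁻¹ : GL (κ ⊕ κ) F) : Matrix (κ ⊕ κ) (κ ⊕ κ) F) * bd 1 (-1) =
        bd 1 (-1) * ((w⁻¹ : GL (κ ⊕ κ) F) : Matrix (κ ⊕ κ) (κ ⊕ κ) F) := by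
      have e : Commute (w : Matrix (κ ⊕ κ) (κ ⊕ κ) F) (bd 1 (-1)) := h1
      exact (e.units_inv_left).eq
    have h4 : ((w⁻¹ : GL (κ ⊕ κ) F) : Matrix (κ ⊕ κ) (κ ⊕ κ) F) * od 1 1 =
        od 1 1 * ((w⁻¹ : GL (κ ⊕ κ) F) : Matrix (κ ⊕ κ) (κ ⊕ κ) F) := by
      have e : Commute (w : Matrix (κ ⊕ κ) (κ ⊕ κ) F) (od 1 1) := h1'
      exact (e.units_inv_left).eq
    obtain ⟨B, hB⟩ := eq_dup_of_comm h2 h3 h4
    have e1 : A * B = 1 := by
      have := w.mul_inv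
      rw [hA, hB, bd_mul, ← bd_one] at this
      exact (bd_inj this).1
    have e2 : B * A = 1 := by
      have := w.inv_mul
      rw [hA, hB, bd_mul, ← bd_one] at this
      exact (bd_inj this).1
    refine ⟨⟨A, B, e1, e2⟩, ?_, hA⟩
    show dup _ ∈ R
    rwa [show dup ⟨A, B, e1, e2⟩ = w from Units.ext (by rw [coe_dup, hA])]
  rcases hR.frame.mat_comm hy hz with h | h <;> rcases hR.frame.mat_comm hy hx with h' | h'
  · obtain ⟨a, ha, e⟩ := key y hy h h'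
    exact ⟨a, ha, Or.inl e⟩
  · obtain ⟨a, ha, e⟩ := key (z * y) (R.mul_mem hz hy) (by rw [Units.val_mul, mul_assoc, h])
      (by rw [Units.val_mul, mul_assoc, h', mul_neg, ← mul_assoc, hzx, neg_mul, neg_neg, mul_assoc])
    refine ⟨a, ha, Or.inr (Or.inl ?_)⟩
    calc (y : Matrix (κ ⊕ κ) (κ ⊕ κ) F) = z * ((z * y : GL (κ ⊕ κ) F) : Matrix (κ ⊕ κ) (κ ⊕ κ) F) := by
          rw [Units.val_mul, ← mul_assoc, hzz, Matrix.one_mul]
      _ = _ := by rw [e, hzm, bd_mul, Matrix.one_mul, neg_mul, Matrix.one_mul]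
  · obtain ⟨a, ha, e⟩ := key (x * y) (R.mul_mem hx hy)
      (by rw [Units.val_mul, mul_assoc, h, mul_neg, ← mul_assoc, ← mul_assoc, hzx, neg_mul])
      (by rw [Units.val_mul, mul_assoc, h'])
    refine ⟨a, ha, Or.inr (Or.inr (Or.inl ?_))⟩
    calc (y : Matrix (κ ⊕ κ) (κ ⊕ κ) F) = x * ((x * y : GL (κ ⊕ κ) F) : Matrix (κ ⊕ κ) (κ ⊕ κ) F) := by
          rw [Units.val_mul, ← mul_assoc, hxx, Matrix.one_mul]
      _ = _ := by rw [e, hxm, od_mul_bd, Matrix.one_mul]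
  · obtain ⟨a, ha, e⟩ := key (z * x * y) (R.mul_mem (R.mul_mem hz hx) hy)
      (by
        simp only [Units.val_mul]
        calc (z : Matrix (κ ⊕ κ) (κ ⊕ κ) F) * x * y * z
            = -(z * x * z * y) := by rw [mul_assoc _ (y : Matrix (κ ⊕ κ) (κ ⊕ κ) F), h, mul_neg]; simp only [mul_assoc]
          _ = z * (z * x * y) := by
              rw [hzx, neg_mul, neg_mul, neg_neg, mul_assoc (x : Matrix (κ ⊕ κ) (κ ⊕ κ) F) z z, hzz, mul_one,
                neg_mul, mul_neg, ← mul_assoc (z : Matrix (κ ⊕ κ) (κ ⊕ κ) F), ← mul_assoc (z : Matrix (κ ⊕ κ) (κ ⊕ κ) F) x,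
                hzx, neg_mul, neg_mul, neg_neg, mul_assoc (x : Matrix (κ ⊕ κ) (κ ⊕ κ) F) z z, hzz, mul_one])
      (by
        simp only [Units.val_mul]
        calc (z : Matrix (κ ⊕ κ) (κ ⊕ κ) F) * x * y * x
            = -(z * x * x * y) := by rw [mul_assoc _ (y : Matrix (κ ⊕ κ) (κ ⊕ κ) F), h', mul_neg]; simp only [mul_assoc]
          _ = x * (z * x * y) := by
              rw [mul_assoc (z : Matrix (κ ⊕ κ) (κ ⊕ κ) F) x x, hxx, mul_one,
                ← mul_assoc (x : Matrix (κ ⊕ κ) (κ ⊕ κ) F) _ (y : Matrix (κ ⊕ κ) (κ ⊕ κ) F), hzx, mul_neg,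
                ← mul_assoc (x : Matrix (κ ⊕ κ) (κ ⊕ κ) F) x z, hxx, one_mul, neg_mul])
    refine ⟨-a, ?_, Or.inr (Or.inr (Or.inr ?_))⟩
    · show dup (-a) ∈ R
      rw [show dup (-a) = -dup a from Units.ext (by rw [coe_dup, Units.val_neg, Units.val_neg, coe_dup, bd_neg])]
      exact hR.frame.neg_mem ha
    calc (y : Matrix (κ ⊕ κ) (κ ⊕ κ) F) = x * (z * ((z * x * y : GL (κ ⊕ κ) F) : Matrix (κ ⊕ κ) (κ ⊕ κ) F)) := by
          rw [Units.val_mul, Units.val_mul, ← mul_assoc (z : Matrix (κ ⊕ κ) (κ ⊕ κ) F), ← mul_assoc _ _ (x : Matrix (κ ⊕ κ) (κ ⊕ κ) F),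
            hzz, Matrix.one_mul, ← mul_assoc, hxx, Matrix.one_mul]
      _ = _ := by rw [e, hxm, hzm, bd_mul, od_mul_bd, Matrix.one_mul, Matrix.one_mul, neg_mul, Matrix.one_mul,
          Units.val_neg, neg_neg]

theorem half_frame : Frame (half R) I := by
  classical
  haveI := hR.frame.nonempty
  obtain ⟨z, hz, hzm⟩ := hR.memZ
  have hcard : (Fintype.card (κ ⊕ κ) : F) ≠ 0 := hR.frame.dim_ne
  refine ⟨hR.frame.two, fun h => hcard (by rw [Fintype.card_sum, Nat.cast_add, h, add_zero]), hR.frame.I_sq,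
    fun a ha => hR.frame.scalar_mem _ (by rw [coe_dup, ha, ← bd_smul, bd_one]), fun a ha => ?_,
    fun a ha b hb => ?_, ?_⟩
  · rcases hR.frame.sq _ ha with h | h
    · left; exact dup_injective (by rw [map_mul, h, map_one])
    · right
      refine dup_injective (Units.ext ?_)
      rw [map_mul, h, coe_dup, Units.val_neg, Units.val_neg, Units.val_one, ← bd_neg, Units.val_one, bd_one]
  · rcases hR.frame.comm _ ha _ hb with h | h
    · left; exact dup_injective (by rw [map_mul, h, map_mul])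
    · right
      refine dup_injective (Units.ext ?_)
      rw [map_mul, h, coe_dup, Units.val_neg, Units.val_neg, ← bd_neg, ← map_mul, coe_dup]
  · rw [eq_top_iff]
    intro A _
    obtain ⟨L, hL⟩ : ∃ L : Submodule F (Matrix (κ ⊕ κ) (κ ⊕ κ) F),
        ∀ X, X ∈ L ↔ X.toBlocks₁₁ ∈ CfsgLib.Aschbacher.alg (half R) :=
      ⟨(CfsgLib.Aschbacher.alg (half R)).toSubmodule.comap
        ({ toFun := Matrix.toBlocks₁₁, map_add' := fun X Y => rfl, map_smul' := fun c X => rfl } :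
          Matrix (κ ⊕ κ) (κ ⊕ κ) F →ₗ[F] Mκ),
        fun X => Iff.rfl⟩
    have hgen : ∀ y ∈ R, (y : Matrix (κ ⊕ κ) (κ ⊕ κ) F) ∈ L := fun y hy => by
      obtain ⟨a, ha, e⟩ := hR.decomp hy
      have hmem : (a : Mκ) ∈ CfsgLib.Aschbacher.alg (half R) := Algebra.subset_adjoin ⟨a, ha, rfl⟩
      rw [hL]
      rcases e with e | e | e | e <;> rw [e] <;> simp [bd, od, hmem, Subalgebra.zero_mem]
    have hle := CfsgLib.Aschbacher.span_reps (R := R) hR.frame.alg (Submodule.mem_top (x := bd A A))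
    have : bd A A ∈ L := (Submodule.span_le.2 (fun X hX => by
      obtain ⟨Q, rfl⟩ := hX; exact hgen _ (Q.out).2)) hle
    rw [hL] at this
    simpa [bd] using this

end BlockFrame

/-- Adapted coordinates for a pair of anticommuting involutions of a frame. -/
theorem Frame.exists_blockFrame {R : Subgroup (GL ι F)} {I : F} (hR : Frame R I) {r x : GL ι F}
    (hr : r ∈ R) (hx : x ∈ R) (hrr : (r : Mι) * r = 1) (hxx : (x : Mι) * x = 1)
    (hrx : (r : Mι) * x = -((x : Mι) * r)) :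
    ∃ (d : ℕ) (Φ : (ι → F) ≃ₗ[F] (Fin d ⊕ Fin d → F)), Fintype.card ι = 2 * d ∧
      cA Φ (r : Mι) = bd 1 (-1) ∧ cA Φ (x : Mι) = od 1 1 ∧
      BlockFrame (R.map (coordGL Φ).toMonoidHom) I := by
  obtain ⟨d, Φ, hd, h1, h2⟩ := exists_coord hR.two hrr hxx hrx
  exact ⟨d, Φ, hd, h1, h2, hR.map Φ, ⟨_, ⟨r, hr, rfl⟩, h1⟩, ⟨_, ⟨x, hx, rfl⟩, h2⟩⟩

/-- An anticommuting pair of involutions through a given non-scalar element. -/
theorem Frame.exists_pair {R : Subgroup (GL ι F)} {I : F} (hR : Frame R I) {r : GL ι F} (hr : r ∈ R)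
    (hns : Ns (r : Mι)) : ∃ x ∈ R, (x : Mι) * x = 1 ∧ (r : Mι) * x = -((x : Mι) * r) := by
  obtain ⟨w, hw, h⟩ := hR.exists_anti hr hns
  obtain ⟨x, hx, c, -, hxm, hxx⟩ := hR.exists_invol hw
  exact ⟨x, hx, hxx, by rw [hxm, Matrix.smul_mul, Matrix.mul_smul, h, smul_neg, neg_neg]⟩

end CfsgLib.MaxSub.SymEight
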