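import Cfsg.Agent.Lib.MaxSub.SymEight.Proj
import Cfsg.Agent.Lib.MaxSub.SlFourSympl

/-!
In an overgroup of the normaliser of a frame of degree eight not containing `SL_8`, the centraliser of an
involution of the frame normalises the frame.
-/

set_option autoImplicit false
set_option linter.unusedSectionVars false
set_option linter.style.haveILetI false

namespace CfsgLib.MaxSub.SymEight

open scoped MatrixGroups
open Cfsg.Geo Matrix CfsgLib.MaxSub.DecompMax

section

variable {ι : Type} [Fintype ι] [DecidableEq ι] {F : Type*} [Field F]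

local notation "Mι" => Matrix ι ι F

theorem Frame.exists_ns {R : Subgroup (GL ι F)} {I : F} (hR : Frame R I) (hι : 2 ≤ Fintype.card ι) :
    ∃ q ∈ R, Ns (q : Mι) := by
  obtain ⟨i, j, hij⟩ := Fintype.one_lt_card_iff.1 (by omega : 1 < Fintype.card ι)
  by_contra hcon
  push Not at hcon
  obtain ⟨c, hc⟩ := hR.irr (A := Matrix.single i j (1 : F)) fun q hq => by
    have h := hcon q hq
    simp only [Ns, not_forall, not_not] at h
    obtain ⟨d, hd⟩ := h
    simp [hd]
  have := congrFun (congrFun hc i) j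
  simp [hij] at this

/-- A non-scalar involution commuting with two anticommuting involutions. -/
theorem Frame.exists_comm_two {R : Subgroup (GL ι F)} {I : F} (hR : Frame R I) (hι : 4 ≤ Fintype.card ι)
    {a b : GL ι F} (ha : a ∈ R) (hb : b ∈ R) (haa : (a : Mι) * (a : Mι) = 1)
    (hbb : (b : Mι) * (b : Mι) = 1) (hab : (a : Mι) * (b : Mι) = -((b : Mι) * (a : Mι))) :
    ∃ r ∈ R, (r : Mι) * (r : Mι) = 1 ∧ Ns (r : Mι) ∧ (r : Mι) * (a : Mι) = (a : Mι) * (r : Mι) ∧
      (r : Mι) * (b : Mι) = (b : Mι) * (r : Mι) := by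
  obtain ⟨d, Φ, hd, h1, h2, hB⟩ := hR.exists_blockFrame ha hb haa hbb hab
  obtain ⟨q, hq, hns⟩ := hB.half_frame.exists_ns (by rw [Fintype.card_fin]; omega)
  obtain ⟨s, hs, c, hc, hsm, hss⟩ := hB.half_frame.exists_invol hq
  obtain ⟨r, hr, hrs⟩ : ∃ r ∈ R, coordGL Φ r = dup s := hs
  have e : cA Φ (r : Mι) = bd (s : Matrix (Fin d) (Fin d) F) (s : Matrix (Fin d) (Fin d) F) := by
    rw [← coe_coordGL, hrs, coe_dup]
  refine ⟨r, hr, (cA Φ).injective ?_, fun k hk => hns (c⁻¹ * k) ?_, (cA Φ).injective ?_, (cA Φ).injective ?_⟩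
  · rw [map_mul, e, bd_mul, hss, bd_one, map_one]
  · have : bd (s : Matrix (Fin d) (Fin d) F) (s : Matrix (Fin d) (Fin d) F) = k • 1 := by
      rw [← e, hk, map_smul, map_one]
    rw [← bd_one, bd_smul] at this
    rw [← smul_smul, ← (bd_inj this).1, hsm, smul_smul, inv_mul_cancel₀ hc, one_smul]
  · rw [map_mul, map_mul, e, h1, bd_mul, bd_mul, Matrix.one_mul, Matrix.mul_one, neg_mul, mul_neg,
      Matrix.one_mul, Matrix.mul_one]
  · rw [map_mul, map_mul, e, h2, bd_mul_od, od_mul_bd, Matrix.one_mul, Matrix.mul_one]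

theorem bd_add (A B C D : Mι) : bd A B + bd C D = bd (A + C) (B + D) := by
  simp [bd, Matrix.fromBlocks_add]

/-- The elements of `M'` commuting with the first coordinate involution have blocks normalising the frame
of half the degree. -/
def BlocksNormalise (R' M' : Subgroup (GL (Fin 4 ⊕ Fin 4) F)) : Prop :=
  ∀ g ∈ M', (g : Matrix (Fin 4 ⊕ Fin 4) (Fin 4 ⊕ Fin 4) F) * bd (1 : Matrix (Fin 4) (Fin 4) F) (-1) =
      bd (1 : Matrix (Fin 4) (Fin 4) F) (-1) * (g : Matrix (Fin 4 ⊕ Fin 4) (Fin 4 ⊕ Fin 4) F) →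
    ∃ A ∈ subgroupNormalizer (half R'), ∃ B ∈ subgroupNormalizer (half R'), g = pairGL (A, B)

/-- A group containing the frame and the gates of its involutions, with normalising blocks in suitable
coordinates adapted to each pair of anticommuting involutions. -/
structure Over (R M : Subgroup (GL ι F)) (I : F) : Prop where
  frame : Frame R I
  card8 : Fintype.card ι = 8
  mem_of_mem : ∀ {y : GL ι F}, y ∈ R → y ∈ M
  gate_mem : ∀ {y : GL ι F} (_ : y ∈ R) (hyy : (y : Mι) * (y : Mι) = 1), Ns (y : Mι) → frame.gate hyy ∈ M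
  coord : ∀ {r x : GL ι F}, r ∈ R → x ∈ R → (r : Mι) * (r : Mι) = 1 → (x : Mι) * (x : Mι) = 1 →
    (r : Mι) * (x : Mι) = -((x : Mι) * (r : Mι)) →
    ∃ Φ : (ι → F) ≃ₗ[F] (Fin 4 ⊕ Fin 4 → F), cA Φ (r : Mι) = bd 1 (-1) ∧ cA Φ (x : Mι) = od 1 1 ∧
      BlockFrame (R.map (coordGL Φ).toMonoidHom) I ∧
      BlocksNormalise (R.map (coordGL Φ).toMonoidHom) (M.map (coordGL Φ).toMonoidHom)

theorem coordGL_trans {κ μ : Type} [Fintype κ] [DecidableEq κ] [Fintype μ] [DecidableEq μ]
    (Φ : (ι → F) ≃ₗ[F] (κ → F)) (Ψ : (κ → F) ≃ₗ[F] (μ → F)) (g : GL ι F) :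
    coordGL (Φ.trans Ψ) g = coordGL Ψ (coordGL Φ g) :=
  Units.ext (cA_ext (Φ.trans Ψ) fun v => by
    rw [coe_coordGL, cA_mulVec, LinearEquiv.trans_apply, LinearEquiv.trans_apply, coordGL_mulVec,
      coordGL_mulVec])

theorem map_coordGL_trans {κ μ : Type} [Fintype κ] [DecidableEq κ] [Fintype μ] [DecidableEq μ]
    (Φ : (ι → F) ≃ₗ[F] (κ → F)) (Ψ : (κ → F) ≃ₗ[F] (μ → F)) (H : Subgroup (GL ι F)) :
    (H.map (coordGL Φ).toMonoidHom).map (coordGL Ψ).toMonoidHom = H.map (coordGL (Φ.trans Ψ)).toMonoidHom := by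
  rw [Subgroup.map_map]
  congr 1
  exact MonoidHom.ext fun g => (coordGL_trans Φ Ψ g).symm

theorem Over.map {κ : Type} [Fintype κ] [DecidableEq κ] {R M : Subgroup (GL ι F)} {I : F}
    (h : Over R M I) (Φ : (ι → F) ≃ₗ[F] (κ → F)) :
    Over (R.map (coordGL Φ).toMonoidHom) (M.map (coordGL Φ).toMonoidHom) I := by
  have hcard : Fintype.card κ = Fintype.card ι := by
    have := Φ.finrank_eq
    rw [Module.finrank_fintype_fun_eq_card, Module.finrank_fintype_fun_eq_card] at this
    exact this.symm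
  refine ⟨h.frame.map Φ, hcard.trans h.card8, ?_, ?_, ?_⟩
  · rintro _ ⟨y, hy, rfl⟩
    exact Subgroup.mem_map_of_mem _ (h.mem_of_mem hy)
  · rintro _ ⟨y, hy, rfl⟩ hyy hns
    have hyy' : (y : Mι) * (y : Mι) = 1 := (cA Φ).injective (by
      rw [map_mul, map_one, ← coe_coordGL]; exact hyy)
    have hns' : Ns (y : Mι) := fun c hc => hns c (by
      rw [MulEquiv.coe_toMonoidHom, coe_coordGL, hc, map_smul, map_one])
    refine ⟨_, h.gate_mem hy hyy' hns', Units.ext ?_⟩
    show (coordGL Φ (h.frame.gate hyy') : Matrix κ κ F) = _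
    rw [coe_coordGL, h.frame.coe_gate, (h.frame.map Φ).coe_gate, map_smul, map_add, map_one, map_smul]
    rfl
  · rintro _ _ ⟨r, hr, rfl⟩ ⟨x, hx, rfl⟩ hrr hxx hrx
    simp only [MulEquiv.coe_toMonoidHom, coe_coordGL] at hrr hxx hrx ⊢
    obtain ⟨Ψ, h1, h2, hB, hbl⟩ := h.coord hr hx
      ((cA Φ).injective (by rw [map_mul, map_one]; exact hrr))
      ((cA Φ).injective (by rw [map_mul, map_one]; exact hxx))
      ((cA Φ).injective (by rw [map_neg, map_mul, map_mul]; exact hrx))
    have hΨ : Φ.trans (Φ.symm.trans Ψ) = Ψ := LinearEquiv.ext fun v => by simp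
    have hc : ∀ A : Mι, cA (Φ.symm.trans Ψ) (cA Φ A) = cA Ψ A := fun A => cA_ext Ψ fun v => by
      rw [cA_mulVec, show Ψ v = (Φ.symm.trans Ψ) (Φ v) by simp, cA_mulVec, cA_mulVec]
      simp
    refine ⟨Φ.symm.trans Ψ, by rw [hc, h1], by rw [hc, h2], ?_, ?_⟩
    · rwa [map_coordGL_trans, hΨ]
    · rwa [map_coordGL_trans, map_coordGL_trans, hΨ]

end

variable {F : Type*} [Field F] [Fintype F]

local notation "M4" => Matrix (Fin 4) (Fin 4) F
local notation "M8" => Matrix (Fin 4 ⊕ Fin 4) (Fin 4 ⊕ Fin 4) F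

/-- On the eigenspace of an involution of the frame, centralising elements act by normalising elements. -/
theorem Over.pure {ι : Type} [Fintype ι] [DecidableEq ι] {R M : Subgroup (GL ι F)} {I : F} (h : Over R M I)
    {r : GL ι F} (hr : r ∈ R) (hrr : (r : Matrix ι ι F) * (r : Matrix ι ι F) = 1)
    (hns : Ns (r : Matrix ι ι F)) {g : GL ι F} (hg : g ∈ M)
    (hgr : (g : Matrix ι ι F) * (r : Matrix ι ι F) = (r : Matrix ι ι F) * (g : Matrix ι ι F))
    {q : GL ι F} (hq : q ∈ R)
    (hqr : (q : Matrix ι ι F) * (r : Matrix ι ι F) = (r : Matrix ι ι F) * (q : Matrix ι ι F)) :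
    ∃ p ∈ R, (g : Matrix ι ι F) * (q : Matrix ι ι F) * ((g⁻¹ : GL ι F) : Matrix ι ι F) *
      (1 + (r : Matrix ι ι F)) = (p : Matrix ι ι F) * (1 + (r : Matrix ι ι F)) := by
  obtain ⟨x, hx, hxx, hrx⟩ := h.frame.exists_pair hr hns
  obtain ⟨Φ, h1, -, hB, hbl⟩ := h.coord hr hx hrr hxx hrx
  have hcomm : ∀ u : GL ι F, (u : Matrix ι ι F) * (r : Matrix ι ι F) = (r : Matrix ι ι F) * (u : Matrix ι ι F) →
      (coordGL Φ u : M8) * bd 1 (-1) = bd 1 (-1) * (coordGL Φ u : M8) := fun u hu => by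
    rw [coe_coordGL, ← h1, ← map_mul, hu, map_mul]
  obtain ⟨A, hA, B, -, hAB⟩ :=
    hbl _ (Subgroup.mem_map_of_mem (coordGL Φ).toMonoidHom hg) (hcomm g hgr)
  obtain ⟨b, hb, e⟩ := hB.decomp (Subgroup.mem_map_of_mem (coordGL Φ).toMonoidHom hq)
  have hod : ∀ X Y : M4, od X Y * bd 1 (-1) = bd 1 (-1) * od X Y → X = 0 := fun X Y hc => by
    rw [od_mul_bd, bd_mul_od] at hc
    have hX := (od_inj hc).1
    rw [Matrix.one_mul, Matrix.mul_neg, Matrix.mul_one] at hX
    have : (2 : F) • X = 0 := by rw [two_smul]; nth_rewrite 1 [← hX]; exact neg_add_cancel _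
    exact (smul_eq_zero.1 this).resolve_left h.frame.two
  have hq' : ∃ t : M4, (coordGL Φ q : M8) = bd (b : M4) t := by
    rcases e with e | e | e | e
    · exact ⟨_, e⟩
    · exact ⟨_, e⟩
    · have := hcomm q hqr
      rw [show (coordGL Φ q : M8) = od (b : M4) b from e] at this
      exact absurd (hod _ _ this) b.ne_zero
    · have := hcomm q hqr
      rw [show (coordGL Φ q : M8) = od (b : M4) (-b) from e] at this
      exact absurd (hod _ _ this) b.ne_zero
  obtain ⟨t, ht⟩ := hq'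
  obtain ⟨p, hp, hpe⟩ : ∃ p ∈ R, coordGL Φ p = dup (A * b * A⁻¹) := conj_mem hA hb
  refine ⟨p, hp, (cA Φ).injective ?_⟩
  simp only [map_mul, map_add, map_one, h1, ← coe_coordGL]
  rw [hpe, ht, coe_dup, map_inv (coordGL Φ), show coordGL Φ g = pairGL (A, B) from hAB, ← map_inv pairGL,
    Prod.inv_mk, coe_pairGL, coe_pairGL, ← bd_one, bd_add, bd_mul, bd_mul, bd_mul, bd_mul]
  simp [Units.val_mul]

/-- The centraliser of the first coordinate involution normalises. -/
theorem Over.centre_block {R M : Subgroup (GL (Fin 4 ⊕ Fin 4) F)} {I : F} (h : Over R M I)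
    (hB : BlockFrame R I) (hbl : BlocksNormalise R M) {g : GL (Fin 4 ⊕ Fin 4) F} (hg : g ∈ M)
    (hc : (g : M8) * bd 1 (-1) = bd 1 (-1) * (g : M8)) : g ∈ subgroupNormalizer R := by
  classical
  obtain ⟨A, hA, B, hBn, rfl⟩ := hbl g hg hc
  have hF := hB.half_frame
  haveI := hF.nonempty
  obtain ⟨z, hz, hzm⟩ := hB.memZ
  obtain ⟨x, hx, hxm⟩ := hB.memX
  have h4 : ((Fintype.card (Fin 4) : ℕ) : F) ≠ 0 := hF.dim_ne
  have hdupns : ∀ u : GL (Fin 4) F, Ns (u : M4) → Ns (dup u : M8) := fun u hu c hc' => hu c (by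
    rw [coe_dup, ← bd_one, bd_smul] at hc'
    exact (bd_inj hc').1)
  -- the two blocks act alike on the frame
  have hsame : ∀ v ∈ half R, A * v * A⁻¹ = B * v * B⁻¹ ∨ A * v * A⁻¹ = -(B * v * B⁻¹) := by
    by_contra hcon
    push Not at hcon
    obtain ⟨v₀, hv₀, hv1, hv2⟩ := hcon
    obtain ⟨v, hv, c, hc0, hvm, hvv⟩ := hF.exists_invol hv₀
    obtain ⟨a, hadef⟩ : ∃ a, a = A * v * A⁻¹ := ⟨_, rfl⟩
    obtain ⟨b, hbdef⟩ : ∃ b, b = B * v * B⁻¹ := ⟨_, rfl⟩
    have ha : a ∈ half R := hadef ▸ conj_mem hA hv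
    have hb : b ∈ half R := hbdef ▸ conj_mem hBn hv
    have hsq : ∀ C : GL (Fin 4) F, ((C * v * C⁻¹ : GL (Fin 4) F) : M4) * ((C * v * C⁻¹ : GL (Fin 4) F) : M4) = 1 := by
      intro C
      rw [← Units.val_mul, show C * v * C⁻¹ * (C * v * C⁻¹) = C * (v * v) * C⁻¹ by group,
        Units.val_mul, Units.val_mul, Units.val_mul, hvv, Matrix.mul_one, Units.mul_inv]
    have haa : (a : M4) * (a : M4) = 1 := hadef ▸ hsq A
    have hbb : (b : M4) * (b : M4) = 1 := hbdef ▸ hsq B
    have habns : Ns ((a : M4) * (b : M4)) := by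
      intro d hd
      have hb' : (b : M4) = d • (a : M4) := by
        calc (b : M4) = (a : M4) * ((a : M4) * (b : M4)) := by rw [← mul_assoc, haa, Matrix.one_mul]
          _ = d • (a : M4) := by rw [hd, Matrix.mul_smul, Matrix.mul_one]
      have hdd : d * d = 1 := by
        have := hbb
        rw [hb', Matrix.smul_mul, Matrix.mul_smul, smul_smul, haa] at this
        exact smul_left_injective F (one_ne_zero (α := M4)) (this.trans (one_smul F _).symm)
      have e : (B : M4) * (v₀ : M4) * ((B⁻¹ : GL (Fin 4) F) : M4) =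
          d • ((A : M4) * (v₀ : M4) * ((A⁻¹ : GL (Fin 4) F) : M4)) := by
        have e3 := hb'
        rw [hadef, hbdef] at e3
        simp only [Units.val_mul, hvm, Matrix.mul_smul, Matrix.smul_mul] at e3
        rw [smul_comm] at e3
        exact smul_right_injective M4 hc0 e3
      rcases mul_self_eq_one_iff.1 hdd with rfl | rfl
      · exact hv1 (Units.ext (by simp only [Units.val_mul]; rw [e, one_smul]))
      · exact hv2 (Units.ext (by simp only [Units.val_mul, Units.val_neg]; rw [e, neg_one_smul, neg_neg]))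
    have hvns : Ns (v : M4) := fun d hd => habns (d * d) (by
      simp [hadef, hbdef, hd, smul_smul])
    have hans : Ns (a : M4) := fun d hd => hvns d (by
      have : v = A⁻¹ * a * A := by rw [hadef]; group
      simp [this, hd])
    obtain ⟨r, hr, hrr, hrns, hra, hrb, hcase⟩ : ∃ r ∈ half R, (r : M4) * (r : M4) = 1 ∧ Ns (r : M4) ∧
        (r : M4) * (a : M4) = (a : M4) * (r : M4) ∧ (r : M4) * (b : M4) = (b : M4) * (r : M4) ∧
        ((a : M4) * (b : M4) = -((b : M4) * (a : M4)) ∨
          ((a : M4) * (b : M4) = (b : M4) * (a : M4) ∧ r = a)) := by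
      rcases hF.mat_comm ha hb with hab | hab
      · exact ⟨a, ha, haa, hans, rfl, hab, Or.inr ⟨hab, rfl⟩⟩
      · obtain ⟨r, hr, h1, h2, h3, h5⟩ :=
          hF.exists_comm_two (le_of_eq (Fintype.card_fin 4).symm) ha hb haa hbb hab
        exact ⟨r, hr, h1, h2, h3, h5, Or.inl hab⟩
    -- the controlled element
    have hgate : ∀ (u : GL (Fin 4) F) (hu : (u : M4) * (u : M4) = 1), u ∈ half R → Ns (u : M4) →
        pairGL (hF.gate hu, hF.gate hu) ∈ M := by
      intro u hu huR huns
      have huu : (dup u : M8) * (dup u : M8) = 1 := by rw [coe_dup, bd_mul, hu, bd_one]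
      have e : pairGL (hF.gate hu, hF.gate hu) = h.frame.gate huu := Units.ext (by
        rw [coe_pairGL, hF.coe_gate, h.frame.coe_gate, coe_dup, bd_smul I, ← bd_one, bd_add, bd_smul])
      exact e ▸ h.gate_mem huR huu (hdupns u huns)
    obtain ⟨C, hCdef⟩ : ∃ C, C = (hF.gate haa)⁻¹ * hF.gate hbb := ⟨_, rfl⟩
    have hconj : ∀ (D : GL (Fin 4) F) (u : GL (Fin 4) F) (hu : (u : M4) * (u : M4) = 1), u = D * v * D⁻¹ →
        D * hF.gate hvv * D⁻¹ = hF.gate hu := by
      intro D u hu hue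
      refine Units.ext ?_
      rw [Units.val_mul, Units.val_mul, hF.coe_gate, hF.coe_gate, Matrix.mul_smul, Matrix.smul_mul, mul_add,
        add_mul, Matrix.mul_one, Units.mul_inv, Matrix.mul_smul, Matrix.smul_mul, hue, Units.val_mul,
        Units.val_mul]
    have hk : pairGL (1, C) ∈ M := by
      have e : (pairGL (hF.gate haa, hF.gate haa))⁻¹ *
          (pairGL (A, B) * pairGL (hF.gate hvv, hF.gate hvv) * (pairGL (A, B))⁻¹) = pairGL (1, C) := by
        rw [← map_inv, ← map_inv, ← map_mul, ← map_mul, ← map_mul]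
        congr 1
        simp only [Prod.mk_mul_mk, Prod.inv_mk]
        rw [hconj A a haa hadef, hconj B b hbb hbdef, inv_mul_cancel, hCdef]
      exact e ▸ M.mul_mem (M.inv_mem (hgate a haa ha hans))
        (M.mul_mem (M.mul_mem hg (hgate v hvv hv hvns)) (M.inv_mem hg))
    have hrC : (r : M4) * (C : M4) = (C : M4) * (r : M4) := by
      rw [hCdef, Units.val_mul, hF.coe_gate_inv, hF.coe_gate]
      simp only [Matrix.smul_mul, Matrix.mul_smul, sub_mul, mul_add, mul_sub, add_mul, Matrix.one_mul,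
        Matrix.mul_one, mul_assoc, hrb]
      rw [← mul_assoc (r : M4) (a : M4), hra]
      simp only [mul_assoc, hrb]
    have hxns : (x : M8) * (dup r : M8) = (dup r : M8) * (x : M8) := by
      rw [hxm, coe_dup, od_mul_bd, bd_mul_od]; simp
    obtain ⟨p, hp, hpe⟩ := h.pure (r := dup r) hr (by rw [coe_dup, bd_mul, hrr, bd_one]) (hdupns r hrns) hk
      (by rw [coe_pairGL, coe_dup, bd_mul, bd_mul, Units.val_one, Matrix.one_mul, Matrix.mul_one, hrC])
      hx hxns
    obtain ⟨w, hw, e⟩ := hB.decomp hp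
    rw [← map_inv, Prod.inv_mk, inv_one, coe_pairGL, coe_pairGL, hxm, coe_dup, Units.val_one, ← bd_one,
      bd_add, bd_mul_od, od_mul_bd, od_mul_bd, Matrix.one_mul, Matrix.mul_one, Matrix.mul_one, Matrix.one_mul] at hpe
    have hP : (1 : M4) + (r : M4) ≠ 0 := fun h0 =>
      hrns (-1) (by rw [neg_one_smul]; exact (eq_neg_of_add_eq_zero_right h0))
    have hsplit : ∃ s : F, (C : M4) * (C : M4) * (1 + (r : M4)) = s • (1 + (r : M4)) ∧ (s = 1 ∨ s = -1) := by
      have hzero : ∀ X : M4, od (((C⁻¹ : GL (Fin 4) F) : M4) * (1 + (r : M4))) ((C : M4) * (1 + (r : M4))) =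
          bd ((w : M4) * (1 + (r : M4))) X → False := fun X h0 => hP (by
        have := ((Matrix.fromBlocks_inj).1 h0).2.2.1
        calc (1 : M4) + (r : M4) = ((C⁻¹ : GL (Fin 4) F) : M4) * ((C : M4) * (1 + (r : M4))) := by
              rw [← mul_assoc, Units.inv_mul, Matrix.one_mul]
          _ = 0 := by rw [this, Matrix.mul_zero])
      have hCC : ∀ Y : M4, (C : M4) * (((C⁻¹ : GL (Fin 4) F) : M4) * Y) = Y := fun Y => by
        rw [← mul_assoc, Units.mul_inv, Matrix.one_mul]
      rcases e with e | e | e | e <;> rw [e] at hpe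
      · rw [bd_mul] at hpe; exact (hzero _ hpe).elim
      · rw [bd_mul] at hpe; exact (hzero _ hpe).elim
      · rw [od_mul_bd] at hpe
        obtain ⟨h1, h2⟩ := od_inj hpe
        exact ⟨1, by rw [mul_assoc, h2, ← h1, hCC, one_smul], Or.inl rfl⟩
      · rw [od_mul_bd] at hpe
        obtain ⟨h1, h2⟩ := od_inj hpe
        exact ⟨-1, by rw [mul_assoc, h2, neg_mul, ← h1, mul_neg, hCC, neg_one_smul], Or.inr rfl⟩
    obtain ⟨s, hs, hs1⟩ := hsplit
    have hC : (C : M4) = (2 : F)⁻¹ • (1 - I • (a : M4) + I • (b : M4) + (a : M4) * (b : M4)) := by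
      rw [hCdef, Units.val_mul, hF.coe_gate_inv, hF.coe_gate, Matrix.smul_mul, Matrix.mul_smul, smul_smul]
      have e1 : ((1 - I) / 2) * ((1 + I) / 2) = (2 : F)⁻¹ := by
        rw [mul_comm]
        exact eq_inv_of_mul_eq_one_left hF.coeff
      rw [e1]
      congr 1
      rw [sub_mul, mul_add, mul_add, Matrix.one_mul, Matrix.one_mul, Matrix.mul_one, Matrix.smul_mul,
        Matrix.mul_smul, smul_smul, hF.I_sq, neg_one_smul]
      abel
    have tmul : ∀ (u : GL (Fin 4) F) (X : M4), (u : M4) * X = -(X * (u : M4)) → X.trace = 0 := fun u X hX =>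
      hF.trace_of_anti hX
    rcases hcase with hab | ⟨hab, rfl⟩
    · -- anticommuting
      have hba : (b : M4) * (a : M4) = -((a : M4) * (b : M4)) := by rw [hab, neg_neg]
      have haba : ∀ X : M4, (a : M4) * ((a : M4) * X) = X := fun X => by rw [← mul_assoc, haa, Matrix.one_mul]
      have hbbb : ∀ X : M4, (b : M4) * ((b : M4) * X) = X := fun X => by rw [← mul_assoc, hbb, Matrix.one_mul]
      have hbax : ∀ X : M4, (b : M4) * ((a : M4) * X) = -((a : M4) * ((b : M4) * X)) := fun X => by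
        rw [← mul_assoc, hba, neg_mul, mul_assoc]
      have hCC : (C : M4) * (C : M4) =
          (2 : F)⁻¹ • (-1 - I • (a : M4) + I • (b : M4) + (a : M4) * (b : M4)) := by
        rw [hC, Matrix.smul_mul, Matrix.mul_smul]
        have e2 : (1 - I • (a : M4) + I • (b : M4) + (a : M4) * (b : M4)) *
            (1 - I • (a : M4) + I • (b : M4) + (a : M4) * (b : M4)) =
            (2 : F) • (-1 - I • (a : M4) + I • (b : M4) + (a : M4) * (b : M4)) := by
          simp only [add_mul, mul_add, sub_mul, mul_sub, Matrix.one_mul, Matrix.mul_one, Matrix.smul_mul,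
            Matrix.mul_smul, smul_smul, hF.I_sq, haa, hbb, mul_assoc, haba, hbax, hbbb, hba, smul_neg,
            neg_smul, one_smul, mul_neg, two_smul]
          abel
        rw [e2, smul_smul (2 : F)⁻¹ (2 : F), inv_mul_cancel₀ hF.two, one_smul]
      have hbr : (b : M4) * (r : M4) = (r : M4) * (b : M4) := hrb.symm
      have har : (a : M4) * (r : M4) = (r : M4) * (a : M4) := hra.symm
      have k := congrArg (fun X : M4 => ((a : M4) * X).trace) hs
      simp only [hCC, mul_add, add_mul, sub_mul, mul_sub, Matrix.smul_mul, Matrix.mul_smul, Matrix.one_mul,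
        Matrix.mul_one, mul_assoc, haba, haa, mul_neg, neg_mul, Matrix.trace_add, Matrix.trace_sub,
        Matrix.trace_smul, Matrix.trace_neg, smul_add] at k
      have t1 : (a : M4).trace = 0 := tmul b _ (by rw [hba])
      have t2 : ((a : M4) * (r : M4)).trace = 0 :=
        tmul b _ (by rw [hbax, mul_assoc (a : M4) (r : M4), hbr])
      have t3 : ((a : M4) * (b : M4)).trace = 0 := tmul a _ (by rw [haba, mul_assoc, hba, mul_neg, haba, neg_neg])
      have t4 : ((a : M4) * ((b : M4) * (r : M4))).trace = 0 := tmul a _ (by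
        rw [haba, mul_assoc, mul_assoc, ← har, hbax, mul_neg, haba, neg_neg])
      have t5 : (b : M4).trace = 0 := tmul a _ (by rw [hab])
      have t6 : ((b : M4) * (r : M4)).trace = 0 := tmul a _ (by
        rw [mul_assoc, ← har, hbax, neg_neg])
      have t7 : (r : M4).trace = 0 := hF.trace_zero hr hrns
      simp only [t1, t2, t3, t4, t5, t6, t7, Matrix.trace_one, smul_eq_mul, mul_zero, add_zero, zero_add,
        sub_zero, zero_sub, neg_zero] at k
      exact mul_ne_zero (mul_ne_zero (inv_ne_zero hF.two) hF.I_ne) h4 (by linear_combination -k)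
    · -- commuting, `r = a`
      have hra' : ∀ X : M4, (r : M4) * ((r : M4) * X) = X := fun X => by rw [← mul_assoc, haa, Matrix.one_mul]
      have e1 : (C : M4) * (1 + (r : M4)) = ((1 - I) / 2) • ((1 + I • (b : M4)) * (1 + (r : M4))) := by
        rw [hC, ← sub_eq_zero]
        simp only [Matrix.smul_mul, add_mul, sub_mul, mul_add, Matrix.one_mul, Matrix.mul_one, Matrix.smul_mul,
          mul_assoc, haa, hra', ← hab, smul_add, smul_sub, smul_smul]
        match_scalars <;> field_simp <;> first | ring1 | linear_combination hF.I_sq | linear_combination -hF.I_sq | linear_combination (2 : F)⁻¹ * hF.I_sq | linear_combination -((2 : F)⁻¹) * hF.I_sq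
      have e2 : (C : M4) * (C : M4) * (1 + (r : M4)) = (b : M4) * (1 + (r : M4)) := by
        have hcb : (1 + (r : M4)) * (1 + I • (b : M4)) = (1 + I • (b : M4)) * (1 + (r : M4)) := by
          simp only [add_mul, mul_add, Matrix.one_mul, Matrix.mul_one, Matrix.smul_mul, Matrix.mul_smul, hab]
          abel
        have hsq2 : (1 + I • (b : M4)) * (1 + I • (b : M4)) = (2 * I) • (b : M4) := by
          rw [add_mul, mul_add, mul_add, Matrix.one_mul, Matrix.one_mul, Matrix.mul_one, Matrix.smul_mul,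
            Matrix.mul_smul, smul_smul, hF.I_sq, hbb, neg_one_smul, two_mul, add_smul]
          abel
        have hk2 : ((1 - I) / 2) * ((1 - I) / 2) * (2 * I) = 1 := by
          have h2 := hF.two
          field_simp
          linear_combination (I - 2) * hF.I_sq
        rw [mul_assoc, e1, Matrix.mul_smul, ← hcb, ← mul_assoc, e1, Matrix.smul_mul,
          mul_assoc (1 + I • (b : M4)), hcb, ← mul_assoc, smul_smul, hsq2, Matrix.smul_mul, smul_smul, hk2,
          one_smul]
      rw [e2] at hs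
      have hs0 : s ≠ 0 := by rcases hs1 with rfl | rfl <;> simp [hF.two]
      have k := congrArg Matrix.trace hs
      rw [mul_add, Matrix.mul_one, Matrix.trace_add, Matrix.trace_smul, Matrix.trace_add, Matrix.trace_one,
        hF.trace_zero hr hrns, add_zero, smul_eq_mul,
        show (b : M4) * (r : M4) = ((b * r : GL (Fin 4) F) : M4) from rfl] at k
      have t1 : (b : M4).trace = 0 := hF.trace_zero hb fun d hd => hvns d (by
        have : v = B⁻¹ * b * B := by rw [hbdef]; group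
        simp [this, hd])
      rw [t1, hF.trace_zero ((half R).mul_mem hb hr) (by rw [Units.val_mul, ← hab]; exact habns), add_zero] at k
      exact mul_ne_zero hs0 h4 k.symm
  -- the blocks differ by an element of the frame
  obtain ⟨p, hp, l, hl, hcp⟩ := hF.eq_smul_of_sign (A := ((A⁻¹ * B : GL (Fin 4) F) : M4))
    (Units.ne_zero _) fun v hv => by
      have hd : (A⁻¹ * B) * v = v * (A⁻¹ * B) ∨ (A⁻¹ * B) * v = -(v * (A⁻¹ * B)) := by
        rcases hsame v hv with e | e
        · left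
          calc A⁻¹ * B * v = A⁻¹ * (B * v * B⁻¹) * B := by group
            _ = A⁻¹ * (A * v * A⁻¹) * B := by rw [e]
            _ = v * (A⁻¹ * B) := by group
        · right
          have e' : B * v * B⁻¹ = -(A * v * A⁻¹) := by rw [e, neg_neg]
          calc A⁻¹ * B * v = A⁻¹ * (B * v * B⁻¹) * B := by group
            _ = -(A⁻¹ * (A * v * A⁻¹) * B) := by rw [e', mul_neg, neg_mul]
            _ = -(v * (A⁻¹ * B)) := by group
      rcases hd with e | e
      · exact Or.inl (by rw [← Units.val_mul, e, Units.val_mul])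
      · exact Or.inr (by rw [← Units.val_mul, e, Units.val_neg, Units.val_mul])
  obtain ⟨p', hp'def⟩ : ∃ p', p' = A * p * A⁻¹ := ⟨_, rfl⟩
  have hp' : p' ∈ half R := hp'def ▸ conj_mem hA hp
  have hBA : ((B * A⁻¹ : GL (Fin 4) F) : M4) = l • (p' : M4) := by
    have : B * A⁻¹ = A * (A⁻¹ * B) * A⁻¹ := by group
    rw [this, Units.val_mul, Units.val_mul, hcp, hp'def, Units.val_mul, Units.val_mul, Matrix.mul_smul,
      Matrix.smul_mul]
  -- `l` is a fourth root of unity
  have hl4 : l * l = 1 ∨ l * l = -1 := by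
    obtain ⟨r, hr, hrr, hrns, hrp⟩ : ∃ r ∈ half R, (r : M4) * (r : M4) = 1 ∧ Ns (r : M4) ∧
        (r : M4) * (p' : M4) = (p' : M4) * (r : M4) := by
      obtain ⟨q, hq, hqns, hqp⟩ : ∃ q ∈ half R, Ns (q : M4) ∧ (q : M4) * (p' : M4) = (p' : M4) * (q : M4) := by
        by_cases hs : Ns (p' : M4)
        · exact ⟨p', hp', hs, rfl⟩
        · obtain ⟨q, hq, hqns⟩ := hF.exists_ns (by simp)
          simp only [Ns, not_forall, not_not] at hs
          obtain ⟨d, hd⟩ := hs
          exact ⟨q, hq, hqns, by simp [hd]⟩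
      obtain ⟨r, hr, c, hc0, hrm, hrr⟩ := hF.exists_invol hq
      exact ⟨r, hr, hrr, fun d hd => hqns (c⁻¹ * d) (by
        rw [← smul_smul, ← hd, hrm, smul_smul, inv_mul_cancel₀ hc0, one_smul]),
        by rw [hrm, Matrix.smul_mul, Matrix.mul_smul, hqp]⟩
    obtain ⟨y, hydef⟩ : ∃ y, y = pairGL (A, B) * x * (pairGL (A, B))⁻¹ := ⟨_, rfl⟩
    have hxx : (x : M8) * (x : M8) = 1 := by rw [hxm, od_mul, Matrix.mul_one, bd_one]
    have hym : (y : M8) = od ((A * B⁻¹ : GL (Fin 4) F) : M4) ((B * A⁻¹ : GL (Fin 4) F) : M4) := by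
      rw [hydef, Units.val_mul, Units.val_mul, ← map_inv, Prod.inv_mk, coe_pairGL, coe_pairGL, hxm,
        bd_mul_od, od_mul_bd, Matrix.mul_one, Matrix.mul_one, ← Units.val_mul, ← Units.val_mul]
    have hyy : (y : M8) * (y : M8) = 1 := by
      rw [← Units.val_mul, hydef, show pairGL (A, B) * x * (pairGL (A, B))⁻¹ * (pairGL (A, B) * x *
        (pairGL (A, B))⁻¹) = pairGL (A, B) * (x * x) * (pairGL (A, B))⁻¹ by group, Units.val_mul,
        Units.val_mul, Units.val_mul, hxx, Matrix.mul_one, Units.mul_inv]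
    have hxns : Ns (x : M8) := fun c hc' => by
      have := congrFun (congrFun (hxm.symm.trans hc') (Sum.inl 0)) (Sum.inr 0)
      simp [od] at this
    have hT : h.frame.gate hyy ∈ M := by
      have e : h.frame.gate hyy = pairGL (A, B) * h.frame.gate hxx * (pairGL (A, B))⁻¹ := Units.ext (by
        rw [Units.val_mul, Units.val_mul, h.frame.coe_gate, h.frame.coe_gate, Matrix.mul_smul, Matrix.smul_mul,
          mul_add, add_mul, Matrix.mul_one, Units.mul_inv, Matrix.mul_smul, Matrix.smul_mul, hydef,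
          Units.val_mul, Units.val_mul])
      exact e ▸ M.mul_mem (M.mul_mem hg (h.gate_mem hx hxx hxns)) (M.inv_mem hg)
    have hAB : ((A * B⁻¹ : GL (Fin 4) F) : M4) = l⁻¹ • ((p'⁻¹ : GL (Fin 4) F) : M4) := by
      have h1 : ((B * A⁻¹ : GL (Fin 4) F) : M4) * (l⁻¹ • ((p'⁻¹ : GL (Fin 4) F) : M4)) = 1 := by
        rw [hBA, Matrix.smul_mul, Matrix.mul_smul, smul_smul, mul_inv_cancel₀ hl, one_smul, Units.mul_inv]
      calc ((A * B⁻¹ : GL (Fin 4) F) : M4)
          = ((A * B⁻¹ : GL (Fin 4) F) : M4) * (((B * A⁻¹ : GL (Fin 4) F) : M4) *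
              (l⁻¹ • ((p'⁻¹ : GL (Fin 4) F) : M4))) := by rw [h1, Matrix.mul_one]
        _ = _ := by
            rw [← mul_assoc, ← Units.val_mul, show A * B⁻¹ * (B * A⁻¹) = 1 by group, Units.val_one,
              Matrix.one_mul]
    have hrp' : (r : M4) * ((p'⁻¹ : GL (Fin 4) F) : M4) = ((p'⁻¹ : GL (Fin 4) F) : M4) * (r : M4) :=
      ((show Commute (p' : M4) (r : M4) from hrp.symm).units_inv_left).eq.symm
    have hyr : (dup r : M8) * (y : M8) = (y : M8) * (dup r : M8) := by
      rw [hym, hAB, hBA, coe_dup, bd_mul_od, od_mul_bd, Matrix.mul_smul, Matrix.mul_smul, Matrix.smul_mul,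
        Matrix.smul_mul, hrp, hrp']
    have hTr : (h.frame.gate hyy : M8) * (dup r : M8) = (dup r : M8) * (h.frame.gate hyy : M8) := by
      rw [h.frame.coe_gate, Matrix.smul_mul, Matrix.mul_smul, add_mul, mul_add, Matrix.one_mul, Matrix.mul_one,
        Matrix.smul_mul, Matrix.mul_smul, hyr]
    obtain ⟨q, hq, hqe⟩ := h.pure (r := dup r) hr (by rw [coe_dup, bd_mul, hrr, bd_one]) (hdupns r hrns) hT hTr
      hz (by rw [hzm, coe_dup, bd_mul, bd_mul]; simp)
    have hanti : (y : M8) * bd (1 : M4) (-1) = -(bd (1 : M4) (-1) * (y : M8)) := by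
      rw [hym, od_mul_bd, bd_mul_od]; simp [od, Matrix.fromBlocks_neg]
    rw [hzm, h.frame.gate_conj_anti hyy hanti, hym, od_mul_bd, hAB, hBA, Matrix.mul_one, mul_neg,
      Matrix.mul_one, od_smul, coe_dup, ← bd_one,
      bd_add, od_mul_bd] at hqe
    have hP : (1 : M4) + (r : M4) ≠ 0 := fun h0 =>
      hrns (-1) (by rw [neg_one_smul]; exact (eq_neg_of_add_eq_zero_right h0))
    have hp'P : (p' : M4) * (1 + (r : M4)) ≠ 0 := fun h0 => hP (by
      calc (1 : M4) + (r : M4) = ((p'⁻¹ : GL (Fin 4) F) : M4) * ((p' : M4) * (1 + (r : M4))) := by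
            rw [← mul_assoc, Units.inv_mul, Matrix.one_mul]
        _ = 0 := by rw [h0, Matrix.mul_zero])
    obtain ⟨s', hs', hpi⟩ : ∃ s' : F, (s' = 1 ∨ s' = -1) ∧ ((p'⁻¹ : GL (Fin 4) F) : M4) = s' • (p' : M4) := by
      rcases hF.sq p' hp' with e | e
      · exact ⟨1, Or.inl rfl, by rw [inv_eq_of_mul_eq_one_left e, one_smul]⟩
      · exact ⟨-1, Or.inr rfl, by
          rw [inv_eq_of_mul_eq_one_left (a := -p') (b := p') (by rw [neg_mul, e, neg_neg]), Units.val_neg,
            neg_one_smul]⟩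
    obtain ⟨w, hw, e⟩ := hB.decomp hq
    have hzero : ∀ X Y Z : M4, od X Y = bd Z ((w : M4) * (1 + (r : M4))) → False ∨
        (w : M4) * (1 + (r : M4)) = 0 := fun X Y Z h0 => Or.inr ((Matrix.fromBlocks_inj).1 h0).2.2.2.symm
    have hwP : (w : M4) * (1 + (r : M4)) ≠ 0 := fun h0 => hP (by
      calc (1 : M4) + (r : M4) = ((w⁻¹ : GL (Fin 4) F) : M4) * ((w : M4) * (1 + (r : M4))) := by
            rw [← mul_assoc, Units.inv_mul, Matrix.one_mul]
        _ = 0 := by rw [h0, Matrix.mul_zero])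
    have key : ∀ s : F, (s = 1 ∨ s = -1) → (I • l • (p' : M4)) * (1 + (r : M4)) =
        s • ((I • (-(l⁻¹ • (s' • (p' : M4))))) * (1 + (r : M4))) → l * l = 1 ∨ l * l = -1 := by
      intro s hs h0
      simp only [Matrix.smul_mul, neg_mul, smul_neg, smul_smul, ← neg_smul] at h0
      have := smul_left_injective F hp'P h0
      have e2 : I * (l * l) = I * (-(s * s')) := by
        calc I * (l * l) = (I * l) * l := by ring
          _ = _ := by rw [this]; field_simp
      have e3 := mul_left_cancel₀ hF.I_ne e2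
      rcases hs with rfl | rfl <;> rcases hs' with rfl | rfl <;> simp at e3 <;>
        first | exact Or.inl e3 | exact Or.inr e3
    rcases e with e | e | e | e <;> rw [e] at hqe
    · rw [bd_mul] at hqe
      exact absurd ((hzero _ _ _ hqe).resolve_left id) hwP
    · rw [bd_mul] at hqe
      exact absurd (neg_eq_zero.1 (((Matrix.fromBlocks_inj).1 hqe).2.2.2.symm.trans rfl |> fun h0 => by
        rwa [neg_mul] at h0)) hwP
    · rw [od_mul_bd] at hqe
      obtain ⟨h1, h2⟩ := od_inj hqe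
      rw [hpi] at h1
      exact key 1 (Or.inl rfl) (by rw [h2, ← h1, one_smul])
    · rw [od_mul_bd] at hqe
      obtain ⟨h1, h2⟩ := od_inj hqe
      rw [hpi] at h1
      exact key (-1) (Or.inr rfl) (by rw [h2, neg_mul, ← h1, neg_one_smul])
  -- conclusion
  have hc' : A⁻¹ * B ∈ half R := by
    obtain ⟨z', hz', hzm'⟩ := hF.smulI_mem hp
    rcases hl4 with e | e
    · rcases mul_self_eq_one_iff.1 e with rfl | rfl
      · rwa [show A⁻¹ * B = p from Units.ext (by rw [hcp, one_smul])]
      · rw [show A⁻¹ * B = -p from Units.ext (by rw [hcp, neg_one_smul, Units.val_neg])]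
        exact hF.neg_mem hp
    · have h0 : (l - I) * (l + I) = 0 := by linear_combination e - hF.I_sq
      rcases mul_eq_zero.1 h0 with h1 | h1
      · obtain rfl := sub_eq_zero.1 h1
        rwa [show A⁻¹ * B = z' from Units.ext (by rw [hcp, hzm'])]
      · obtain rfl := eq_neg_of_add_eq_zero_left h1
        rw [show A⁻¹ * B = -z' from Units.ext (by rw [hcp, neg_smul, Units.val_neg, hzm'])]
        exact hF.neg_mem hz'
  have e : pairGL (A, B) = dup A * pairGL (1, A⁻¹ * B) := by
    rw [show dup A = pairGL (A, A) from rfl, ← map_mul, Prod.mk_mul_mk, mul_one, mul_inv_cancel_left]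
  rw [e]
  exact Subgroup.mul_mem _ (hB.dup_mem_normalizer hA) (hB.controlled_mem_normalizer hc')

end CfsgLib.MaxSub.SymEight
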