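import Cfsg.Agent.Lib.MaxSub.SymEight.Centre

/-!
A chain of commuting pairs of a frame whose transvection lifts have a commutative common centraliser.
-/

set_option autoImplicit false
set_option linter.unusedSectionVars false
set_option linter.style.haveILetI false

namespace CfsgLib.MaxSub.SymEight

open scoped MatrixGroups
open Cfsg.Geo Matrix CfsgLib.MaxSub.DecompMax

variable {F : Type*} [Field F]

/-- Pairs of anticommuting involutions, commuting with each other, with the commutative centraliser of the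
matrices `(1 + i z) x`. -/
structure Chain {ι : Type} [Fintype ι] [DecidableEq ι] (R : Subgroup (GL ι F)) (I : F) (n : ℕ)
    (z x : Fin n → GL ι F) : Prop where
  memZ : ∀ j, z j ∈ R
  memX : ∀ j, x j ∈ R
  sqZ : ∀ j, (z j : Matrix ι ι F) * (z j : Matrix ι ι F) = 1
  sqX : ∀ j, (x j : Matrix ι ι F) * (x j : Matrix ι ι F) = 1
  anti : ∀ j, (z j : Matrix ι ι F) * (x j : Matrix ι ι F) = -((x j : Matrix ι ι F) * (z j : Matrix ι ι F))
  zz : ∀ i j, (z i : Matrix ι ι F) * (z j : Matrix ι ι F) = (z j : Matrix ι ι F) * (z i : Matrix ι ι F)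
  xx : ∀ i j, (x i : Matrix ι ι F) * (x j : Matrix ι ι F) = (x j : Matrix ι ι F) * (x i : Matrix ι ι F)
  zx : ∀ i j, i ≠ j →
    (z i : Matrix ι ι F) * (x j : Matrix ι ι F) = (x j : Matrix ι ι F) * (z i : Matrix ι ι F)
  comm : ∀ A B : Matrix ι ι F,
    (∀ j, A * ((1 + I • (z j : Matrix ι ι F)) * (x j : Matrix ι ι F)) =
      (1 + I • (z j : Matrix ι ι F)) * (x j : Matrix ι ι F) * A) →
    (∀ j, B * ((1 + I • (z j : Matrix ι ι F)) * (x j : Matrix ι ι F)) =
      (1 + I • (z j : Matrix ι ι F)) * (x j : Matrix ι ι F) * B) → A * B = B * A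

theorem Frame.exists_chain : ∀ (n : ℕ) {ι : Type} [Fintype ι] [DecidableEq ι] {R : Subgroup (GL ι F)} {I : F},
    Frame R I → Fintype.card ι = 2 ^ n → ∃ z x : Fin n → GL ι F, Chain R I n z x := by
  intro n
  induction n with
  | zero =>
    intro ι _ _ R I _ hcard
    refine ⟨Fin.elim0, Fin.elim0, ⟨fun j => j.elim0, fun j => j.elim0, fun j => j.elim0, fun j => j.elim0,
      fun j => j.elim0, fun j => j.elim0, fun j => j.elim0, fun j => j.elim0, fun A B _ _ => ?_⟩⟩
    obtain ⟨i₀, hi₀⟩ := Fintype.card_eq_one_iff.1 (by simpa using hcard)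
    ext i j
    rw [hi₀ i, hi₀ j, Matrix.mul_apply, Matrix.mul_apply]
    refine Finset.sum_congr rfl fun k _ => ?_
    rw [hi₀ k, mul_comm]
  | succ n ih =>
    intro ι _ _ R I hR hcard
    haveI := hR.nonempty
    have h2 := hR.two
    have hι : 2 ≤ Fintype.card ι := by rw [hcard, pow_succ]; have := Nat.one_le_two_pow (n := n); omega
    obtain ⟨q, hq, hqns⟩ := hR.exists_ns hι
    obtain ⟨r, hr, c, hc, hrm, hrr⟩ := hR.exists_invol hq
    have hrns : Ns (r : Matrix ι ι F) := fun e he => hqns (c⁻¹ * e) (by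
      rw [← smul_smul, ← he, hrm, smul_smul, inv_mul_cancel₀ hc, one_smul])
    obtain ⟨w, hw, hww, hrw⟩ := hR.exists_pair hr hrns
    obtain ⟨d, Φ, hd, h1, h1', hB⟩ := hR.exists_blockFrame hr hw hrr hww hrw
    obtain ⟨z, x, hch⟩ := ih hB.half_frame (by rw [Fintype.card_fin]; rw [hcard, pow_succ] at hd; omega)
    obtain ⟨L, hL⟩ : ∃ L : GL (Fin d) F → GL ι F, L = fun u => (coordGL Φ).symm (dup u) := ⟨_, rfl⟩
    have hLm : ∀ u, cA Φ (L u : Matrix ι ι F) = bd (u : Matrix (Fin d) (Fin d) F) (u : Matrix (Fin d) (Fin d) F) :=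
      fun u => by rw [hL, ← coe_coordGL, MulEquiv.apply_symm_apply, coe_dup]
    have hLR : ∀ u, u ∈ half (R.map (coordGL Φ).toMonoidHom) → L u ∈ R := fun u hu => by
      obtain ⟨v, hv, hvu⟩ := hu
      rw [hL]
      show (coordGL Φ).symm (dup u) ∈ R
      rwa [← hvu, MulEquiv.coe_toMonoidHom, MulEquiv.symm_apply_apply]
    obtain ⟨Z, hZ⟩ : ∃ Z : Fin (n + 1) → GL ι F, Z = Fin.cons r (fun j => L (z j)) := ⟨_, rfl⟩
    obtain ⟨X, hX⟩ : ∃ X : Fin (n + 1) → GL ι F, X = Fin.cons w (fun j => L (x j)) := ⟨_, rfl⟩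
    have hZ0 : cA Φ (Z 0 : Matrix ι ι F) = bd 1 (-1) := by rw [hZ, Fin.cons_zero, h1]
    have hX0 : cA Φ (X 0 : Matrix ι ι F) = od 1 1 := by rw [hX, Fin.cons_zero, h1']
    have hZs : ∀ j, cA Φ (Z j.succ : Matrix ι ι F) = bd (z j : Matrix (Fin d) (Fin d) F) (z j) := fun j => by
      rw [hZ, Fin.cons_succ, hLm]
    have hXs : ∀ j, cA Φ (X j.succ : Matrix ι ι F) = bd (x j : Matrix (Fin d) (Fin d) F) (x j) := fun j => by
      rw [hX, Fin.cons_succ, hLm]
    refine ⟨Z, X, ⟨?_, ?_, ?_, ?_, ?_, ?_, ?_, ?_, fun A B hA hB' => ?_⟩⟩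
    · refine Fin.cases ?_ fun j => ?_
      · rw [hZ, Fin.cons_zero]; exact hr
      · rw [hZ, Fin.cons_succ]; exact hLR _ (hch.memZ j)
    · refine Fin.cases ?_ fun j => ?_
      · rw [hX, Fin.cons_zero]; exact hw
      · rw [hX, Fin.cons_succ]; exact hLR _ (hch.memX j)
    · refine Fin.cases ?_ fun j => ?_ <;> apply (cA Φ).injective <;> rw [map_mul, map_one]
      · rw [hZ0, bd_mul, neg_mul_neg, Matrix.one_mul, bd_one]
      · rw [hZs, bd_mul, hch.sqZ, bd_one]
    · refine Fin.cases ?_ fun j => ?_ <;> apply (cA Φ).injective <;> rw [map_mul, map_one]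
      · rw [hX0, od_mul, Matrix.one_mul, bd_one]
      · rw [hXs, bd_mul, hch.sqX, bd_one]
    · refine Fin.cases ?_ fun j => ?_ <;> apply (cA Φ).injective <;> rw [map_neg, map_mul, map_mul]
      · rw [hZ0, hX0, bd_mul_od, od_mul_bd]; simp [od, Matrix.fromBlocks_neg]
      · rw [hZs, hXs, bd_mul, bd_mul, hch.anti, ← bd_neg]
    · intro i j
      apply (cA Φ).injective
      rw [map_mul, map_mul]
      refine Fin.cases ?_ (fun i => ?_) i <;> refine Fin.cases ?_ (fun j => ?_) j
      · rfl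
      · rw [hZ0, hZs, bd_mul, bd_mul]; simp
      · rw [hZ0, hZs, bd_mul, bd_mul]; simp
      · rw [hZs, hZs, bd_mul, bd_mul, hch.zz]
    · intro i j
      apply (cA Φ).injective
      rw [map_mul, map_mul]
      refine Fin.cases ?_ (fun i => ?_) i <;> refine Fin.cases ?_ (fun j => ?_) j
      · rfl
      · rw [hX0, hXs, od_mul_bd, bd_mul_od]; simp
      · rw [hX0, hXs, od_mul_bd, bd_mul_od]; simp
      · rw [hXs, hXs, bd_mul, bd_mul, hch.xx]
    · intro i j hij
      apply (cA Φ).injective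
      rw [map_mul, map_mul]
      revert hij
      refine Fin.cases ?_ (fun i => ?_) i <;> refine Fin.cases ?_ (fun j => ?_) j <;> intro hij
      · exact absurd rfl hij
      · rw [hZ0, hXs, bd_mul, bd_mul]; simp
      · rw [hZs, hX0, od_mul_bd, bd_mul_od]; simp
      · rw [hZs, hXs, bd_mul, bd_mul, hch.zx i j fun e => hij (congrArg Fin.succ e)]
    · -- the centraliser is commutative
      have hI1 : (1 : F) + I ≠ 0 := fun e => h2 (by
        have h0 : I = -1 := by linear_combination e
        have := hR.I_sq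
        rw [h0] at this
        linear_combination this)
      have key : ∀ A : Matrix ι ι F,
          (∀ j, A * ((1 + I • (Z j : Matrix ι ι F)) * (X j : Matrix ι ι F)) =
            (1 + I • (Z j : Matrix ι ι F)) * (X j : Matrix ι ι F) * A) →
          ∃ P Q : Matrix (Fin d) (Fin d) F,
            cA Φ A = Matrix.fromBlocks P Q ((((1 - I) / (1 + I)) : F) • Q) P ∧
            (∀ j, P * ((1 + I • (z j : Matrix (Fin d) (Fin d) F)) * (x j : Matrix (Fin d) (Fin d) F)) =
              (1 + I • (z j : Matrix (Fin d) (Fin d) F)) * (x j : Matrix (Fin d) (Fin d) F) * P) ∧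
            (∀ j, Q * ((1 + I • (z j : Matrix (Fin d) (Fin d) F)) * (x j : Matrix (Fin d) (Fin d) F)) =
              (1 + I • (z j : Matrix (Fin d) (Fin d) F)) * (x j : Matrix (Fin d) (Fin d) F) * Q) := by
        intro A hA
        obtain ⟨P, Q, S, T, hAe⟩ : ∃ P Q S T, cA Φ A = Matrix.fromBlocks P Q S T :=
          ⟨_, _, _, _, (Matrix.fromBlocks_toBlocks _).symm⟩
        have e0 := congrArg (cA Φ) (hA 0)
        simp only [map_mul, map_add, map_one, map_smul, hZ0, hX0, hAe] at e0
        rw [← bd_one, bd_smul] at e0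
        simp only [bd, od, Matrix.fromBlocks_add, Matrix.fromBlocks_multiply] at e0
        simp only [add_zero, zero_add, Matrix.mul_one, Matrix.one_mul, Matrix.mul_zero, Matrix.zero_mul,
          smul_neg] at e0
        obtain ⟨e11, e12, -, -⟩ := Matrix.fromBlocks_inj.1 e0
        have hα : (1 : Matrix (Fin d) (Fin d) F) + I • 1 = (1 + I) • 1 := by rw [add_smul, one_smul]
        have hβ : (1 : Matrix (Fin d) (Fin d) F) + -(I • 1) = (1 - I) • 1 := by
          rw [sub_smul, one_smul, sub_eq_add_neg]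
        rw [hα, hβ, Matrix.mul_smul, Matrix.smul_mul, Matrix.mul_one, Matrix.one_mul] at e11
        rw [hα, Matrix.mul_smul, Matrix.smul_mul, Matrix.mul_one, Matrix.one_mul] at e12
        have hT : P = T := smul_right_injective _ hI1 e12
        have hS : S = ((1 - I) / (1 + I)) • Q := by
          rw [div_eq_mul_inv, mul_comm, ← smul_smul, e11, smul_smul, inv_mul_cancel₀ hI1, one_smul]
        subst hT; subst hS
        have ej : ∀ j, P * ((1 + I • (z j : Matrix (Fin d) (Fin d) F)) * (x j : Matrix (Fin d) (Fin d) F)) =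
              (1 + I • (z j : Matrix (Fin d) (Fin d) F)) * (x j : Matrix (Fin d) (Fin d) F) * P ∧
            Q * ((1 + I • (z j : Matrix (Fin d) (Fin d) F)) * (x j : Matrix (Fin d) (Fin d) F)) =
              (1 + I • (z j : Matrix (Fin d) (Fin d) F)) * (x j : Matrix (Fin d) (Fin d) F) * Q := by
          intro j
          have e := congrArg (cA Φ) (hA j.succ)
          simp only [map_mul, map_add, map_one, map_smul, hZs, hXs, hAe] at e
          rw [← bd_one, bd_smul] at e
          simp only [bd, Matrix.fromBlocks_add, Matrix.fromBlocks_multiply] at e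
          simp only [add_zero, zero_add, Matrix.mul_zero, Matrix.zero_mul] at e
          obtain ⟨f11, f12, -, -⟩ := Matrix.fromBlocks_inj.1 e
          exact ⟨f11, f12⟩
        exact ⟨P, Q, hAe, fun j => (ej j).1, fun j => (ej j).2⟩
      obtain ⟨P, Q, hAe, hP, hQ⟩ := key A hA
      obtain ⟨P', Q', hBe, hP', hQ'⟩ := key B hB'
      apply (cA Φ).injective
      rw [map_mul, map_mul, hAe, hBe, Matrix.fromBlocks_multiply, Matrix.fromBlocks_multiply]
      simp only [Matrix.smul_mul, Matrix.mul_smul, hch.comm P P' hP hP', hch.comm P Q' hP hQ',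
        hch.comm Q P' hQ hP', hch.comm Q Q' hQ hQ']
      congr 1 <;> simp only [add_comm]

end CfsgLib.MaxSub.SymEight
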