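import Cfsg.Agent.Lib.Aschbacher.SympType
import Cfsg.Agent.Lib.Aschbacher.Forms
import Cfsg.Agent.Lib.MaxSub.SympTypeFourGroup
import Cfsg.Agent.Lib.MaxSub.SympTypeFourBasic

/-!
Groups of symplectic type with fourth roots of unity spanning a full matrix algebra: commutation signs,
traces, and the passage from and to the data of a class-6 subgroup.
-/

set_option autoImplicit false
set_option linter.unusedSectionVars false
set_option linter.style.haveILetI false

namespace CfsgLib.MaxSub.SymEight

open scoped MatrixGroups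
open Cfsg.Geo Matrix

variable {ι : Type} [Fintype ι] [DecidableEq ι] {F : Type*} [Field F]

local notation "Mι" => Matrix ι ι F

/-- Not a scalar matrix. -/
def Ns (A : Mι) : Prop := ∀ c : F, A ≠ c • (1 : Mι)

/-- A group containing the fourth roots of unity, with squares and commutators equal to signs, spanning
the matrix algebra. -/
structure Frame (R : Subgroup (GL ι F)) (I : F) : Prop where
  two : (2 : F) ≠ 0
  dim_ne : (Fintype.card ι : F) ≠ 0
  I_sq : I * I = -1
  scalar_mem : ∀ z : GL ι F, (z : Mι) = I • (1 : Mι) → z ∈ R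
  sq : ∀ y ∈ R, y * y = 1 ∨ y * y = -1
  comm : ∀ x ∈ R, ∀ y ∈ R, x * y = y * x ∨ x * y = -(y * x)
  alg : CfsgLib.Aschbacher.alg R = ⊤

namespace Frame

variable {R : Subgroup (GL ι F)} {I : F} (hR : Frame R I)
include hR

theorem nonempty : Nonempty ι := Fintype.card_pos_iff.1 (Nat.pos_of_ne_zero fun h => hR.dim_ne (by simp [h]))

theorem I_ne : I ≠ 0 := fun h => by simpa [h] using hR.I_sq

/-- The scalar `I`. -/
theorem exists_iu : ∃ u ∈ R, (u : Mι) = I • (1 : Mι) :=
  ⟨Units.map (Matrix.scalar ι : F →+* Mι).toMonoidHom (Units.mk0 I hR.I_ne),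
    hR.scalar_mem _ (by simp [Matrix.smul_one_eq_diagonal]), by simp [Matrix.smul_one_eq_diagonal]⟩

theorem neg_mem {y : GL ι F} (hy : y ∈ R) : -y ∈ R := by
  obtain ⟨u, hu, hum⟩ := hR.exists_iu
  have h : -y = u * u * y := Units.ext (by
    rw [Units.val_neg, Units.val_mul, Units.val_mul, hum, Matrix.smul_mul, Matrix.one_mul, smul_smul,
      hR.I_sq, neg_one_smul, neg_mul, Matrix.one_mul])
  rw [h]; exact R.mul_mem (R.mul_mem hu hu) hy

/-- Multiplication by the scalar `I`. -/
theorem smulI_mem {y : GL ι F} (hy : y ∈ R) : ∃ z ∈ R, (z : Mι) = I • (y : Mι) := by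
  obtain ⟨u, hu, hum⟩ := hR.exists_iu
  exact ⟨u * y, R.mul_mem hu hy, by rw [Units.val_mul, hum, Matrix.smul_mul, Matrix.one_mul]⟩

theorem irr {A : Mι} (h : ∀ y ∈ R, A * (y : Mι) = (y : Mι) * A) : ∃ c : F, A = c • (1 : Mι) :=
  CfsgLib.Aschbacher.scalar_of_commute hR.alg fun y hy => (h y hy).symm

theorem mat_comm {x y : GL ι F} (hx : x ∈ R) (hy : y ∈ R) :
    (x : Mι) * (y : Mι) = (y : Mι) * (x : Mι) ∨ (x : Mι) * (y : Mι) = -((y : Mι) * (x : Mι)) := by
  rcases hR.comm x hx y hy with h | h
  · exact Or.inl (by rw [← Units.val_mul, h, Units.val_mul])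
  · exact Or.inr (by rw [← Units.val_mul, h, Units.val_neg, Units.val_mul])

theorem mat_sq {y : GL ι F} (hy : y ∈ R) :
    (y : Mι) * (y : Mι) = 1 ∨ (y : Mι) * (y : Mι) = -1 := by
  rcases hR.sq y hy with h | h
  · exact Or.inl (by rw [← Units.val_mul, h, Units.val_one])
  · exact Or.inr (by rw [← Units.val_mul, h, Units.val_neg, Units.val_one])

theorem exists_anti {y : GL ι F} (hy : y ∈ R) (hns : Ns (y : Mι)) :
    ∃ w ∈ R, (w : Mι) * (y : Mι) = -((y : Mι) * (w : Mι)) := by
  by_contra hcon
  push Not at hcon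
  obtain ⟨c, hc⟩ := hR.irr (A := (y : Mι)) fun w hw =>
    ((hR.mat_comm hw hy).resolve_right (hcon w hw)).symm
  exact hns c hc

theorem trace_of_anti {A : Mι} {w : GL ι F} (h : (w : Mι) * A = -(A * (w : Mι))) : A.trace = 0 := by
  have h1 : ((w : Mι) * A * ((w⁻¹ : GL ι F) : Mι)).trace = A.trace := Matrix.trace_units_conj w _
  rw [h, neg_mul, Matrix.trace_neg, mul_assoc, Units.mul_inv, mul_one] at h1
  exact (mul_eq_zero.1 (show (2 : F) * A.trace = 0 by linear_combination -h1)).resolve_left hR.two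

theorem trace_zero {y : GL ι F} (hy : y ∈ R) (hns : Ns (y : Mι)) : (y : Mι).trace = 0 := by
  obtain ⟨w, -, hw⟩ := hR.exists_anti hy hns
  exact hR.trace_of_anti hw

theorem trace_one : ((1 : Mι)).trace ≠ 0 := by rw [Matrix.trace_one]; exact hR.dim_ne

/-- Only the zero matrix has trace zero against the whole group. -/
theorem nondeg {A : Mι} (h : ∀ y ∈ R, ((y : Mι) * A).trace = 0) : A = 0 := by
  haveI := hR.nonempty
  have hall : ∀ B : Mι, (B * A).trace = 0 := fun B => by
    have hB : B ∈ CfsgLib.Aschbacher.alg R := hR.alg ▸ Algebra.mem_top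
    obtain ⟨L, hL⟩ : ∃ L : Mι →ₗ[F] F, L = (Matrix.traceLinearMap ι F F).comp (LinearMap.mulRight F A) :=
      ⟨_, rfl⟩
    have hker : Submodule.span F (Set.range fun Q : R ⧸ Subgroup.center R => (((Q.out : R) : GL ι F) : Mι)) ≤
        LinearMap.ker L := Submodule.span_le.2 fun X hX => by
      obtain ⟨Q, rfl⟩ := hX
      rw [SetLike.mem_coe, LinearMap.mem_ker, hL]
      exact h _ (Q.out).2
    have := hker (CfsgLib.Aschbacher.span_reps hR.alg (Submodule.mem_top (x := B)))
    rw [LinearMap.mem_ker, hL] at this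
    exact this
  ext i j
  simpa [Matrix.trace_single_mul] using hall (Matrix.single j i 1)

/-- A matrix commuting or anticommuting with each element is a multiple of an element. -/
theorem eq_smul_of_sign {A : Mι} (hA : A ≠ 0)
    (h : ∀ y ∈ R, A * (y : Mι) = (y : Mι) * A ∨ A * (y : Mι) = -((y : Mι) * A)) :
    ∃ p ∈ R, ∃ l : F, l ≠ 0 ∧ A = l • (p : Mι) := by
  obtain ⟨y, hy, hty⟩ : ∃ y ∈ R, ((y : Mι) * A).trace ≠ 0 := by
    by_contra hcon; push Not at hcon; exact hA (hR.nondeg hcon)
  obtain ⟨c, hc⟩ := hR.irr (A := (y : Mι) * A) fun w hw => by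
    by_contra hne
    refine hty (hR.trace_of_anti (w := w) ?_)
    have h1' : (w : Mι) * A = A * (w : Mι) ∨ (w : Mι) * A = -(A * (w : Mι)) := by
      rcases h w hw with h1 | h1
      · exact Or.inl h1.symm
      · exact Or.inr (by rw [h1, neg_neg])
    rcases h1' with h1 | h1 <;> rcases hR.mat_comm hw hy with h2 | h2
    · exact absurd (by rw [← mul_assoc, h2, mul_assoc, mul_assoc, h1]) hne
    · rw [← mul_assoc, h2, neg_mul, mul_assoc, h1, mul_assoc]
    · rw [← mul_assoc, h2, mul_assoc, h1, mul_neg, mul_assoc]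
    · exact absurd (by rw [← mul_assoc (w : Mι), h2, neg_mul, mul_assoc (y : Mι) (w : Mι), h1, mul_neg,
        neg_neg, mul_assoc]) hne
  refine ⟨y⁻¹, R.inv_mem hy, c, ?_, ?_⟩
  · intro h0
    rw [h0, zero_smul] at hc
    exact hty (by rw [hc, Matrix.trace_zero])
  · calc A = ((y⁻¹ : GL ι F) : Mι) * ((y : Mι) * A) := by rw [← mul_assoc, Units.inv_mul, Matrix.one_mul]
      _ = c • ((y⁻¹ : GL ι F) : Mι) := by rw [hc, Matrix.mul_smul, Matrix.mul_one]

/-- An element or `I` times it is an involution. -/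
theorem exists_invol {y : GL ι F} (hy : y ∈ R) :
    ∃ z ∈ R, ∃ c : F, c ≠ 0 ∧ (z : Mι) = c • (y : Mι) ∧ (z : Mι) * (z : Mι) = 1 := by
  rcases hR.mat_sq hy with h | h
  · exact ⟨y, hy, 1, one_ne_zero, (one_smul F _).symm, h⟩
  · obtain ⟨z, hz, hzm⟩ := hR.smulI_mem hy
    refine ⟨z, hz, I, hR.I_ne, hzm, ?_⟩
    rw [hzm, Matrix.smul_mul, Matrix.mul_smul, smul_smul, h, hR.I_sq, neg_one_smul, neg_neg]

theorem center_iff (y : R) : y ∈ Subgroup.center R ↔ ∃ c : F, ((y : GL ι F) : Mι) = c • (1 : Mι) := by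
  constructor
  · exact fun hy => hR.irr fun w hw =>
      congrArg (fun u : R => ((u : GL ι F) : Mι)) (Subgroup.mem_center_iff.1 hy ⟨w, hw⟩).symm
  · rintro ⟨c, hc⟩
    refine Subgroup.mem_center_iff.2 fun w => Subtype.ext (Units.ext ?_)
    simp [hc]

theorem finite [Fintype F] : Finite R := inferInstance

end Frame

/-- A group of symplectic type with centre of order four spanning the matrix algebra is a frame. -/
theorem Frame.of_sympType [Fintype F] {R : Subgroup (GL ι F)} (hdim : (Fintype.card ι : F) ≠ 0)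
    (h2 : (2 : F) ≠ 0) (hs : IsSymplecticTypeGroup 2 R) (hirr : ActsAbsolutelyIrreducibly (matrixSet R))
    (hz : Nat.card (Subgroup.center R) = 4) : ∃ I : F, Frame R I := by
  classical
  haveI : Nonempty ι := Fintype.card_pos_iff.1 (Nat.pos_of_ne_zero fun h => hdim (by simp [h]))
  have halg := CfsgLib.Aschbacher.alg_top_of_absIrred hirr
  have hexp : ∀ y : R, y ^ 4 = 1 := fun y => by
    have := Monoid.pow_exponent_eq_one y
    rw [hs.exponent_eq] at this
    simpa using this
  have hle := SymFour.commutator_le_center hexp hs.cyclic_of_characteristic (Or.inl hz)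
  have hscal : ∀ z : R, z ∈ Subgroup.center R → ∃ c : F, ((z : GL ι F) : Mι) = c • (1 : Mι) := fun z hz' =>
    CfsgLib.Aschbacher.scalar_of_commute halg fun y hy =>
      congrArg (fun u : R => ((u : GL ι F) : Mι)) (Subgroup.mem_center_iff.1 hz' ⟨y, hy⟩)
  have hcom : ∀ x y : R, x * y = y * x ∨ ((x * y : R) : GL ι F) = -((y * x : R) : GL ι F) := by
    intro x y
    obtain ⟨c, hc⟩ : ∃ c, c = x * y * x⁻¹ * y⁻¹ := ⟨_, rfl⟩
    have hcz : c ∈ Subgroup.center R :=
      hc ▸ hle (Subgroup.commutator_mem_commutator (Subgroup.mem_top x) (Subgroup.mem_top y))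
    have hxy : x * y = c * (y * x) := by rw [hc]; group
    have h6 : c ^ 2 = 1 := by
      have e := CfsgLib.Aschbacher.mul_pow_of_central (x := y) (y := x) (c := c)
        (fun w => (Subgroup.mem_center_iff.1 hcz w).symm) hxy 4
      rw [hexp, hexp, hexp, mul_one, mul_one] at e
      have : c ^ 6 = 1 := by rw [show (6 : ℕ) = Nat.choose 4 2 from rfl, ← e]
      rw [show (6 : ℕ) = 4 + 2 from rfl, pow_add, hexp, one_mul] at this
      exact this
    obtain ⟨a, ha⟩ := hscal c hcz
    rcases SymFour.eq_one_or_neg_one_of_sq ha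
      (by rw [← Subgroup.coe_mul, ← pow_two, h6, Subgroup.coe_one]) with e | e
    · exact Or.inl (by rw [hxy, show c = 1 from Subtype.ext e, one_mul])
    · exact Or.inr (by rw [hxy]; simp only [Subgroup.coe_mul, e, neg_one_mul])
  have hsq : ∀ y : R, (y : GL ι F) * (y : GL ι F) = 1 ∨ (y : GL ι F) * (y : GL ι F) = -1 := by
    intro y
    have hz' : y * y ∈ Subgroup.center R := by
      rw [Subgroup.mem_center_iff]
      intro w
      apply Subtype.ext
      rcases hcom w y with e | e
      · rw [← mul_assoc, e, mul_assoc, e, mul_assoc]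
      · simp only [Subgroup.coe_mul] at e ⊢
        rw [← mul_assoc, e, neg_mul, mul_assoc, e, mul_neg, neg_neg, mul_assoc]
    obtain ⟨a, ha⟩ := hscal _ hz'
    refine SymFour.eq_one_or_neg_one_of_sq (z := (y : GL ι F) * (y : GL ι F)) (a := a) ha ?_
    have := congrArg (fun u : R => (u : GL ι F)) (hexp y)
    simpa [pow_succ, mul_assoc] using this
  obtain ⟨I, u, hu, hI, hum⟩ : ∃ (I : F) (u : GL ι F), u ∈ R ∧ I * I = -1 ∧ (u : Mι) = I • (1 : Mι) := by
    by_contra hcon
    have hall : ∀ z : Subgroup.center R, ((z : R) : GL ι F) = 1 ∨ ((z : R) : GL ι F) = -1 := fun z => by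
      obtain ⟨c, hc⟩ := hscal _ z.2
      rcases hsq (z : R) with h | h
      · exact SymFour.eq_one_or_neg_one_of_sq hc h
      · refine absurd ⟨c, _, (z : R).2, ?_, hc⟩ hcon
        have h1 := congrArg Units.val h
        rw [Units.val_mul, hc, Matrix.smul_mul, Matrix.one_mul, smul_smul, Units.val_neg, Units.val_one,
          ← neg_one_smul F (1 : Mι)] at h1
        exact smul_left_injective F one_ne_zero h1
    have hinj : Function.Injective (fun z : Subgroup.center R => decide (((z : R) : GL ι F) = 1)) := by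
      intro a b hab
      simp only [decide_eq_decide] at hab
      apply Subtype.ext; apply Subtype.ext
      rcases hall a with h | h
      · rw [h, hab.1 h]
      · rcases hall b with h' | h'
        · rw [h, h'] at hab
          exact absurd (hab.2 rfl) (SymFour.neg_one_ne_one h2)
        · rw [h, h']
    have := Nat.card_le_card_of_injective _ hinj
    rw [hz] at this
    simp at this
  refine ⟨I, h2, hdim, hI, fun z hz' => ?_, fun y hy => hsq ⟨y, hy⟩, fun x hx y hy => ?_, halg⟩
  · rwa [show z = u from Units.ext (hz'.trans hum.symm)]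
  · rcases hcom ⟨x, hx⟩ ⟨y, hy⟩ with e | e
    · exact Or.inl (congrArg Subtype.val e)
    · exact Or.inr e

/-- The data of a class-6 subgroup with centre of order four gives a frame. -/
theorem Frame.of_data [Fintype F] {R : Subgroup (GL ι F)} (hdim : (Fintype.card ι : F) ≠ 0)
    (h2 : (2 : F) ≠ 0) (hι : 4 ≤ Fintype.card ι) (hR : IsLinearSymplecticTypeData 2 R) :
    ∃ I : F, Frame R I := by
  obtain ⟨hs, hirr, hfield⟩ := hR
  obtain ⟨p', e, -, -, hcase⟩ := hfield
  have hz : Nat.card (Subgroup.center R) = 4 := by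
    rcases hcase with ⟨hodd, -⟩ | ⟨-, -, h, -⟩ | ⟨-, -, h, -⟩
    · exact absurd hodd (by decide)
    · exact h
    · omega
  exact Frame.of_sympType hdim h2 hs hirr hz

/-- A frame of degree a power of two is a group of symplectic type with centre of order four. -/
theorem Frame.sympType [Fintype F] {R : Subgroup (GL ι F)} {I : F} (hR : Frame R I)
    {m : ℕ} (hm : Fintype.card ι = 2 ^ m) :
    IsSymplecticTypeGroup 2 R ∧ Nat.card (Subgroup.center R) = 4 ∧ Nat.card R = 2 ^ (2 + 2 * m) := by
  classical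
  haveI := hR.nonempty
  have hcs : ∀ x ∈ R, ∀ y ∈ R, x * y * x⁻¹ * y⁻¹ ∈ scalars ι F := by
    intro x hx y hy
    rcases hR.comm x hx y hy with e | e
    · rw [e, show y * x * x⁻¹ * y⁻¹ = 1 by group]; exact one_mem _
    · rw [e, neg_mul, neg_mul, show y * x * x⁻¹ * y⁻¹ = 1 by group, mem_scalars_iff]
      exact ⟨-1, by simp⟩
  haveI : Fintype (R ⧸ Subgroup.center R) := Fintype.ofFinite _
  let B : Module.Basis (R ⧸ Subgroup.center R) F Mι :=
    Module.Basis.mk (CfsgLib.Aschbacher.linearIndependent_reps hcs) (CfsgLib.Aschbacher.span_reps hR.alg)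
  have hquot : Nat.card (R ⧸ Subgroup.center R) = 2 ^ (2 * m) := by
    rw [Nat.card_eq_fintype_card, ← Module.finrank_eq_card_basis B, Module.finrank_matrix,
      Module.finrank_self, mul_one, hm, ← pow_add, two_mul]
  obtain ⟨u, hu, hum⟩ := hR.exists_iu
  have huz : (⟨u, hu⟩ : R) ∈ Subgroup.center R := (hR.center_iff _).2 ⟨I, hum⟩
  have hgen : ∀ z : Subgroup.center R, z ∈ Subgroup.zpowers (⟨⟨u, hu⟩, huz⟩ : Subgroup.center R) := by
    intro z
    obtain ⟨c, hc⟩ := (hR.center_iff _).1 z.2
    have hcc : c = 1 ∨ c = -1 ∨ c = I ∨ c = -I := by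
      rcases hR.mat_sq (z : R).2 with h | h <;>
        rw [hc, Matrix.smul_mul, Matrix.one_mul, smul_smul] at h
      · have := smul_left_injective F (one_ne_zero (α := Mι)) (h.trans (one_smul F _).symm)
        rcases mul_self_eq_one_iff.1 this with h1 | h1
        · exact Or.inl h1
        · exact Or.inr (Or.inl h1)
      · have := smul_left_injective F (one_ne_zero (α := Mι))
          (h.trans (neg_one_smul F _).symm)
        have h0 : (c - I) * (c + I) = 0 := by linear_combination this - hR.I_sq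
        rcases mul_eq_zero.1 h0 with h1 | h1
        · exact Or.inr (Or.inr (Or.inl (sub_eq_zero.1 h1)))
        · exact Or.inr (Or.inr (Or.inr (eq_neg_of_add_eq_zero_left h1)))
    have hpow : ∀ k : ℕ, ((u ^ k : GL ι F) : Mι) = I ^ k • (1 : Mι) := fun k => by
      rw [Units.val_pow_eq_pow_val, hum, smul_pow, one_pow]
    obtain ⟨k, hk⟩ : ∃ k : ℕ, c = I ^ k := by
      have h2 : I ^ 2 = -1 := by rw [pow_two, hR.I_sq]
      rcases hcc with h | h | h | h
      · exact ⟨0, by rw [h, pow_zero]⟩
      · exact ⟨2, by rw [h, h2]⟩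
      · exact ⟨1, by rw [h, pow_one]⟩
      · exact ⟨3, by rw [h, pow_succ, h2, neg_one_mul]⟩
    refine ⟨k, ?_⟩
    apply Subtype.ext; apply Subtype.ext
    show ((u : GL ι F) ^ (k : ℤ)) = ((z : R) : GL ι F)
    exact Units.ext (by rw [zpow_natCast, hpow, hc, hk])
  have hord : orderOf (⟨⟨u, hu⟩, huz⟩ : Subgroup.center R) = 4 := by
    have e : orderOf (⟨⟨u, hu⟩, huz⟩ : Subgroup.center R) = orderOf (u : GL ι F) := by
      rw [← orderOf_injective (Subgroup.center R).subtype Subtype.val_injective,
        ← orderOf_injective R.subtype Subtype.val_injective]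
      rfl
    rw [e]
    refine orderOf_eq_prime_pow (p := 2) (n := 1) (fun h => ?_) ?_
    · have h' := congrArg Units.val h
      rw [pow_one, Units.val_pow_eq_pow_val, hum, smul_pow, one_pow, pow_two, hR.I_sq, Units.val_one] at h'
      have := smul_left_injective F (one_ne_zero (α := Mι)) (h'.trans (one_smul F _).symm)
      exact hR.two (by linear_combination -this)
    · refine Units.ext ?_
      rw [Units.val_pow_eq_pow_val, hum, smul_pow, one_pow, show (2 : ℕ) ^ (1 + 1) = 2 + 2 from rfl,
        pow_add, pow_two, hR.I_sq, neg_one_mul, neg_neg, one_smul, Units.val_one]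
  have hZ : Nat.card (Subgroup.center R) = 4 := by
    rw [← hord, orderOf_eq_card_of_forall_mem_zpowers hgen]
  haveI : IsCyclic (Subgroup.center R) := ⟨⟨_, hgen⟩⟩
  have hcard : Nat.card R = 2 ^ (2 + 2 * m) := by
    rw [Subgroup.card_eq_card_quotient_mul_card_subgroup (Subgroup.center R), hquot, hZ,
      show (4 : ℕ) = 2 ^ 2 from rfl, ← pow_add, add_comm]
  have hexp4 : ∀ y : R, y ^ 4 = 1 := fun y => by
    apply Subtype.ext
    rw [SubgroupClass.coe_pow, show (4 : ℕ) = 2 + 2 from rfl, pow_add, pow_two]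
    rcases hR.sq y y.2 with h | h <;> rw [h] <;> simp
  have hsymp : IsSymplecticTypeGroup 2 R := by
    refine ⟨Nat.prime_two, IsPGroup.of_card hcard, fun A hA hAc => ?_, ?_⟩
    · by_cases hAZ : A ≤ Subgroup.center R
      · exact isCyclic_of_injective (Subgroup.inclusion hAZ) (Subgroup.inclusion_injective hAZ)
      exfalso
      obtain ⟨x, hxA, hxc⟩ := SetLike.not_le_iff_exists.1 hAZ
      obtain ⟨w, hw, hwx⟩ := hR.exists_anti x.2 (fun c hc => hxc ((hR.center_iff x).2 ⟨c, hc⟩))
      obtain ⟨a, haR, l, hl, ham, haa⟩ : ∃ a ∈ R, ∃ l : F, l ≠ 0 ∧ (a : Mι) = l • (w : Mι) ∧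
          (a : Mι) * (a : Mι) = -1 := by
        obtain ⟨z, hz, c, hc, hzm, hzz⟩ := hR.exists_invol hw
        obtain ⟨a, ha, ham⟩ := hR.smulI_mem hz
        exact ⟨a, ha, I * c, mul_ne_zero hR.I_ne hc, by rw [ham, hzm, smul_smul],
          by rw [ham, Matrix.smul_mul, Matrix.mul_smul, smul_smul, hzz, hR.I_sq, neg_one_smul]⟩
      have hax : (a : Mι) * ((x : GL ι F) : Mι) = -(((x : GL ι F) : Mι) * (a : Mι)) := by
        rw [ham, Matrix.smul_mul, Matrix.mul_smul, hwx, smul_neg]
      let φ : R → R := fun u =>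
        if ((u : GL ι F) : Mι) * (a : Mι) = (a : Mι) * (u : GL ι F) then u else u * ⟨a, haR⟩
      have hne : ∀ u : R, ¬ ((u : GL ι F) : Mι) * (a : Mι) = (a : Mι) * (u : GL ι F) →
          ((u : GL ι F) : Mι) * (a : Mι) = -((a : Mι) * (u : GL ι F)) := fun u hu =>
        (hR.mat_comm u.2 haR).resolve_left hu
      have hmne : ∀ X : GL ι F, (X : Mι) ≠ -(X : Mι) := fun X h => by
        have h2 : (2 : F) • (X : Mι) = 0 := by rw [two_smul]; nth_rewrite 1 [h]; exact neg_add_cancel _
        exact X.ne_zero ((smul_eq_zero.1 h2).resolve_left hR.two)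
      have hmul : ∀ u v, φ (u * v) = φ u * φ v := by
        intro u v
        simp only [φ, Subgroup.coe_mul, Units.val_mul]
        by_cases hu : ((u : GL ι F) : Mι) * (a : Mι) = (a : Mι) * (u : GL ι F) <;>
          by_cases hv : ((v : GL ι F) : Mι) * (a : Mι) = (a : Mι) * (v : GL ι F)
        · rw [if_pos hu, if_pos hv, if_pos (by rw [mul_assoc, hv, ← mul_assoc, hu, mul_assoc])]
        · rw [if_pos hu, if_neg hv, if_neg, mul_assoc]
          intro h
          refine hv ((u : GL ι F).isUnit.mul_left_cancel ?_)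
          rw [← mul_assoc, ← mul_assoc, hu]
          simpa [mul_assoc] using h
        · rw [if_neg hu, if_pos hv, if_neg]
          · refine Subtype.ext (Units.ext ?_)
            simp only [Subgroup.coe_mul, Units.val_mul, mul_assoc, hv]
          · intro h
            refine hu ((v : GL ι F).isUnit.mul_right_cancel ?_)
            rw [mul_assoc, ← hv, ← mul_assoc]
            simpa [mul_assoc] using h
        · have hu' := hne u hu
          have hv' := hne v hv
          rw [if_neg hu, if_neg hv, if_pos (by rw [mul_assoc, hv', mul_neg, ← mul_assoc, hu', neg_mul, neg_neg,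
            mul_assoc])]
          refine Subtype.ext (Units.ext ?_)
          simp only [Subgroup.coe_mul, Units.val_mul]
          calc ((u : GL ι F) : Mι) * (v : GL ι F)
              = ((u : GL ι F) : Mι) * (-((a : Mι) * (a : Mι))) * (v : GL ι F) := by
                rw [haa, neg_neg, mul_one]
            _ = _ := by
                rw [mul_assoc, mul_assoc, hv']
                simp [mul_assoc]
      have hinj : Function.Injective φ := by
        intro u v huv
        have : φ (u⁻¹ * v) = 1 := by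
          have h1 : φ u * φ (u⁻¹ * v) = φ v := by rw [← hmul, mul_inv_cancel_left]
          rw [huv] at h1
          exact mul_left_cancel (h1.trans (mul_one _).symm)
        by_contra hne'
        simp only [φ] at this
        split at this
        · exact hne' (inv_mul_eq_one.1 this)
        · rename_i hnc
          refine hnc ?_
          have e : u⁻¹ * v = (⟨a, haR⟩ : R)⁻¹ := eq_inv_of_mul_eq_one_left this
          rw [e, Subgroup.coe_inv, Units.mul_inv, Units.inv_mul]
      have hbij : Function.Bijective φ := Finite.injective_iff_bijective.1 hinj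
      let f : R ≃* R := MulEquiv.mk (Equiv.ofBijective φ hbij) hmul
      have hφx : φ x ∈ A := by
        have hmap : A.map f.toMonoidHom = A := Subgroup.characteristic_iff_map_eq.1 hA f
        exact hmap ▸ ⟨x, hxA, rfl⟩
      have hxne : ¬ ((x : GL ι F) : Mι) * (a : Mι) = (a : Mι) * (x : GL ι F) := by
        rw [hax]
        intro h
        exact hmne ((x : GL ι F) * a) (by rw [Units.val_mul, ← h])
      simp only [φ, if_neg hxne] at hφx
      have hc' := congrArg (fun u : R => ((u : GL ι F) : Mι))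
        (Subtype.ext_iff.1 (hAc.is_comm.comm (⟨x, hxA⟩ : A) ⟨_, hφx⟩))
      simp only [Subgroup.coe_mul, Units.val_mul] at hc'
      refine hxne ((x : GL ι F).isUnit.mul_left_cancel ?_)
      rw [hc', mul_assoc]
    · refine Nat.dvd_antisymm (Monoid.exponent_dvd_of_forall_pow_eq_one hexp4) ?_
      have h4 : orderOf (⟨u, hu⟩ : R) = 4 := by
        rw [← hord, ← orderOf_injective (Subgroup.center R).subtype Subtype.val_injective]
        rfl
      rw [show 2 * Nat.gcd 2 2 = 4 by norm_num, ← h4]; exact Monoid.order_dvd_exponent _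
  exact ⟨hsymp, hZ, hcard⟩

/-- A frame in dimension at least four over a prime field is a class-6 datum. -/
theorem Frame.toData [Fintype F] {R : Subgroup (GL ι F)} {I : F} (hR : Frame R I) (hι : 4 ≤ Fintype.card ι)
    {m : ℕ} (hm : Fintype.card ι = 2 ^ m) {p : ℕ} (hp : p.Prime) (hF : Fintype.card F = p) (hp4 : p % 4 = 1) :
    IsLinearSymplecticTypeData 2 R := by
  haveI : Fact p.Prime := ⟨hp⟩
  obtain ⟨hsymp, hZ, hcard⟩ := hR.sympType hm
  haveI : CharP F p := charP_of_card_eq_prime hF
  refine ⟨hsymp, CfsgLib.Aschbacher.absIrred_of_alg_top hR.alg, p, 1, fun h => ?_,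
    ⟨hp, inferInstance, by rw [hF, pow_one], ?_, fun d hd0 hd1 => by omega⟩,
    Or.inr (Or.inl ⟨rfl, rfl, hZ, hι, m, hcard⟩)⟩
  · omega
  · rw [hZ, pow_one]; omega

end CfsgLib.MaxSub.SymEight
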