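import Mathlib

/-!
A fusion lemma: a subgroup containing the centralisers of the non-trivial elements of an elementary
abelian normal subgroup `R`, in which no such element is conjugate into `N` from outside `N`, contains
the centraliser of a set of commuting involutions as soon as it contains the centraliser of that set
together with an involution inducing a transvection on `R`.
-/

set_option autoImplicit false

namespace CfsgLib.MaxSub.SymEight

variable {Γ : Type*} [Group Γ]

/-- `R` is elementary abelian, normalised by `N`, and `N` controls it inside `M`. -/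
structure Setup (M N R : Subgroup Γ) : Prop where
  finM : Finite M
  le_N : R ≤ N
  le_M : R ≤ M
  norm : ∀ n ∈ N, ∀ r ∈ R, n * r * n⁻¹ ∈ R
  invol : ∀ r ∈ R, r * r = 1
  cent : ∀ r ∈ R, r ≠ 1 → ∀ g ∈ M, g * r = r * g → g ∈ N
  weak : ∀ r ∈ R, r ≠ 1 → ∀ g ∈ M, g * r * g⁻¹ ∈ N → g ∈ N

namespace Setup

variable {M N R : Subgroup Γ} (h : Setup M N R)
include h

theorem inv_eq {r : Γ} (hr : r ∈ R) : r⁻¹ = r := inv_eq_of_mul_eq_one_left (h.invol r hr)

theorem comm {r s : Γ} (hr : r ∈ R) (hs : s ∈ R) : r * s = s * r := by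
  have := h.inv_eq (R.mul_mem hr hs)
  rw [mul_inv_rev, h.inv_eq hr, h.inv_eq hs] at this
  exact this.symm

omit h in
theorem finite_of_subset (hM : Finite M) {S : Set Γ} (hS : ∀ x ∈ S, x ∈ M) : S.Finite :=
  (Set.toFinite (M : Set Γ)).subset hS

/-- Commuting involutions normalising `R` fix a non-trivial element of it. -/
theorem exists_fixed {r₀ : Γ} (hr₀ : r₀ ∈ R) (hne : r₀ ≠ 1) {S : Set Γ}
    (hS : ∀ x ∈ S, x ∈ M ∧ x ∈ N ∧ x * x = 1) (hcomm : ∀ x ∈ S, ∀ y ∈ S, x * y = y * x) :
    ∃ r ∈ R, r ≠ 1 ∧ ∀ x ∈ S, x * r = r * x := by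
  have hfin : S.Finite := finite_of_subset h.finM fun x hx => (hS x hx).1
  induction S, hfin using Set.Finite.induction_on with
  | empty => exact ⟨r₀, hr₀, hne, fun x hx => absurd hx (Set.notMem_empty x)⟩
  | @insert a T _ _ ih =>
    obtain ⟨r, hr, hr1, hrT⟩ := ih (fun x hx => hS x (Set.mem_insert_of_mem _ hx))
      (fun x hx y hy => hcomm x (Set.mem_insert_of_mem _ hx) y (Set.mem_insert_of_mem _ hy))
    obtain ⟨-, haN, haa⟩ := hS a (Set.mem_insert _ _)
    have ha' : a⁻¹ = a := inv_eq_of_mul_eq_one_left haa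
    have hsr : a * r * a ∈ R := by simpa only [ha'] using h.norm a haN r hr
    rcases eq_or_ne (a * r * a) r with he | he
    · refine ⟨r, hr, hr1, fun x hx => ?_⟩
      rcases hx with rfl | hx
      · calc x * r = x * r * (x * x) := by rw [haa, mul_one]
          _ = r * x := by rw [← mul_assoc, he]
      · exact hrT x hx
    · refine ⟨r * (a * r * a), R.mul_mem hr hsr, fun h1 => he ?_, fun x hx => ?_⟩
      · calc a * r * a = (r * r) * (a * r * a) := by rw [h.invol r hr, one_mul]
          _ = r := by rw [mul_assoc r r, h1, mul_one]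
      rcases hx with rfl | hx
      · calc x * (r * (x * r * x)) = (x * r * x) * (r * x) := by simp only [mul_assoc]
          _ = ((x * r * x) * r) * x := by simp only [mul_assoc]
          _ = (r * (x * r * x)) * x := by rw [h.comm hsr hr]
      · have hax := hcomm x (Set.mem_insert_of_mem _ hx) a (Set.mem_insert _ _)
        have hrx := hrT x hx
        calc x * (r * (a * r * a)) = (x * r) * (a * r * a) := by rw [← mul_assoc]
          _ = r * ((x * a) * r * a) := by rw [hrx]; simp only [mul_assoc]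
          _ = r * (a * (x * r) * a) := by rw [hax]; simp only [mul_assoc]
          _ = r * (a * r * (x * a)) := by rw [hrx]; simp only [mul_assoc]
          _ = r * (a * r * a) * x := by rw [hax]; simp only [mul_assoc]

omit h in
/-- Powers of a product of two involutions are inverted by the first. -/
theorem flip_pow {z y : Γ} (hz : z * z = 1) (hy : y * y = 1) (i : ℕ) :
    z * (z * y) ^ i = ((z * y) ^ i)⁻¹ * z := by
  induction i with
  | zero => simp
  | succ i ih =>
    have h1 : z * (z * y) = (z * y)⁻¹ * z := by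
      rw [mul_inv_rev, inv_eq_of_mul_eq_one_left hz, inv_eq_of_mul_eq_one_left hy, ← mul_assoc z z,
        hz, one_mul, mul_assoc, hz, mul_one]
    rw [pow_succ, ← mul_assoc, ih, mul_assoc, h1, ← mul_assoc, ← mul_inv_rev, ← pow_succ',
      ← pow_succ]

/-- The main lemma. -/
theorem centralizer_le {E₀ : Set Γ} {t q : Γ}
    (hE₀ : ∀ x ∈ E₀, x ∈ M ∧ x ∈ N ∧ x * x = 1 ∧ x * t = t * x)
    (hc₀ : ∀ x ∈ E₀, ∀ y ∈ E₀, x * y = y * x)
    (htM : t ∈ M) (htN : t ∈ N) (htt : t * t = 1) (htR : t ∉ R)
    (hq : q ∈ R) (hqE : ∀ x ∈ E₀, x * q = q * x) (hz : q * t * q⁻¹ * t⁻¹ ≠ 1)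
    (hRt : ∀ u ∈ R, u * t * u⁻¹ * t⁻¹ = 1 ∨ u * t * u⁻¹ * t⁻¹ = q * t * q⁻¹ * t⁻¹)
    (hbase : ∀ g ∈ M, (∀ x ∈ E₀, g * x = x * g) → g * t = t * g → g ∈ N) :
    ∀ g ∈ M, (∀ x ∈ E₀, g * x = x * g) → g ∈ N := by
  classical
  have := h.finM
  obtain ⟨z, hzdef⟩ : ∃ z, z = q * t * q⁻¹ * t⁻¹ := ⟨_, rfl⟩
  rw [← hzdef] at hz hRt
  have ht' : t⁻¹ = t := inv_eq_of_mul_eq_one_left htt
  have hzR : z ∈ R := by
    have h1 : t * q⁻¹ * t⁻¹ ∈ R := h.norm t htN _ (R.inv_mem hq)
    have h2 : z = q * (t * q⁻¹ * t⁻¹) := by rw [hzdef]; simp only [mul_assoc]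
    rw [h2]; exact R.mul_mem hq h1
  have hzz : z * z = 1 := h.invol z hzR
  have hzfix : ∀ x ∈ N, x * t = t * x → x * z = z * x := by
    intro x hx hxt
    have hu : x * q * x⁻¹ ∈ R := h.norm x hx q hq
    have hxt' : x * t * x⁻¹ = t := by rw [hxt, mul_assoc, mul_inv_cancel, mul_one]
    have hxt'' : x * t⁻¹ * x⁻¹ = t⁻¹ := by
      have := congrArg (·⁻¹) hxt'
      simpa only [mul_inv_rev, inv_inv, ← mul_assoc] using this
    have hconj : x * z * x⁻¹ = (x * q * x⁻¹) * t * (x * q * x⁻¹)⁻¹ * t⁻¹ := by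
      rw [hzdef]
      calc x * (q * t * q⁻¹ * t⁻¹) * x⁻¹
          = (x * q * x⁻¹) * (x * t * x⁻¹) * (x * q * x⁻¹)⁻¹ * (x * t⁻¹ * x⁻¹) := by group
        _ = _ := by rw [hxt', hxt'']
    rcases hRt _ hu with h1 | h1
    · exfalso; apply hz
      rw [h1] at hconj
      exact (conj_eq_one_iff.1 hconj)
    · rw [h1, mul_inv_eq_iff_eq_mul] at hconj
      exact hconj
  by_contra hcon
  push Not at hcon
  let P : Set Γ → Prop := fun S => E₀ ⊆ S ∧ (∀ x ∈ S, x ∈ M ∧ x ∈ N ∧ x * x = 1 ∧ x * t = t * x) ∧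
    (∀ x ∈ S, ∀ y ∈ S, x * y = y * x) ∧ ∃ g ∈ M, (∀ x ∈ S, g * x = x * g) ∧ g ∉ N
  have hP0 : P E₀ := by
    obtain ⟨g, hg, hgc, hgN⟩ := hcon
    exact ⟨subset_rfl, hE₀, hc₀, g, hg, hgc, hgN⟩
  have hfin : {S : Set Γ | P S}.Finite :=
    (Set.toFinite (M : Set Γ)).finite_subsets.subset fun S hS x hx => (hS.2.1 x hx).1
  obtain ⟨E, hE, hmax⟩ := hfin.exists_maximal ⟨E₀, hP0⟩
  obtain ⟨hsub, hmem, hEc, g, hgM, hgE, hgN⟩ := hE
  have hzE : ∀ x ∈ E, x * z = z * x := fun x hx => hzfix x (hmem x hx).2.1 (hmem x hx).2.2.2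
  have hzM : z ∈ M := h.le_M hzR
  -- conjugates of `t` inside `N`
  have hfix : ∀ d ∈ M, (∀ x ∈ E, d * x = x * d) → d * t * d⁻¹ ∈ N → d ∈ N := by
    intro d hd hdE hy
    set y := d * t * d⁻¹ with hydef
    have hyy : y * y = 1 := by
      rw [hydef, show d * t * d⁻¹ * (d * t * d⁻¹) = d * (t * t) * d⁻¹ by group, htt, mul_one,
        mul_inv_cancel]
    have hyE : ∀ x ∈ E, y * x = x * y := fun x hx => by
      have h1 : d * x = x * d := hdE x hx
      have h3 : d⁻¹ * x = x * d⁻¹ := (show Commute d x from h1).inv_left.eq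
      have h2 : t * x = x * t := ((hmem x hx).2.2.2).symm
      rw [hydef, mul_assoc, h3, ← mul_assoc, mul_assoc d, h2, ← mul_assoc, h1]
      simp only [mul_assoc]
    obtain ⟨r, hr, hr1, hrS⟩ := h.exists_fixed hzR hz (S := insert y E)
      (by
        rintro x (rfl | hx)
        · exact ⟨M.mul_mem (M.mul_mem hd htM) (M.inv_mem hd), hy, hyy⟩
        · exact ⟨(hmem x hx).1, (hmem x hx).2.1, (hmem x hx).2.2.1⟩)
      (by
        rintro x (rfl | hx) x' (rfl | hx')
        · rfl
        · exact hyE x' hx'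
        · exact (hyE x hx).symm
        · exact hEc x hx x' hx')
    have hry : y * r = r * y := hrS y (Set.mem_insert _ _)
    have hrt : (d⁻¹ * r * d) * t = t * (d⁻¹ * r * d) := by
      have hy' : y * r * d = r * y * d := by rw [hry]
      rw [hydef] at hy'
      calc d⁻¹ * r * d * t = d⁻¹ * (r * (d * t * d⁻¹) * d) := by group
        _ = d⁻¹ * ((d * t * d⁻¹) * r * d) := by rw [hy']
        _ = t * (d⁻¹ * r * d) := by group
    have hin := hbase (d⁻¹ * r * d) (M.mul_mem (M.mul_mem (M.inv_mem hd) (h.le_M hr)) hd)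
      (fun x hx => by
        have h1 : d * x = x * d := hdE x (hsub hx)
        have h2 : x * r = r * x := hrS x (Set.mem_insert_of_mem _ (hsub hx))
        exact ((((show Commute d x from h1).inv_left).mul_left
          (show Commute x r from h2).symm).mul_left h1).eq) hrt
    exact N.inv_mem_iff.1 (h.weak r hr hr1 d⁻¹ (M.inv_mem hd) (by rwa [inv_inv]))
  have htE : t ∉ E := fun hx => hgN (hbase g hgM (fun x hx' => hgE x (hsub hx')) (hgE t hx))
  set y := g * t * g⁻¹ with hydef
  have hyM : y ∈ M := M.mul_mem (M.mul_mem hgM htM) (M.inv_mem hgM)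
  have hyy : y * y = 1 := by
    rw [hydef, show g * t * g⁻¹ * (g * t * g⁻¹) = g * (t * t) * g⁻¹ by group, htt, mul_one,
      mul_inv_cancel]
  have hyN : y ∉ N := fun hy => hgN (hfix g hgM hgE hy)
  have hyE : ∀ x ∈ E, y * x = x * y := fun x hx => by
    exact (((show Commute g x from hgE x hx).mul_left
      (show Commute x t from (hmem x hx).2.2.2).symm).mul_left
      (show Commute g x from hgE x hx).inv_left).eq
  obtain ⟨X, hXdef⟩ : ∃ X, X = z * y := ⟨_, rfl⟩
  have hXM : X ∈ M := hXdef ▸ M.mul_mem hzM hyM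
  have hXE : ∀ (i : ℕ), ∀ x ∈ E, X ^ i * x = x * X ^ i := fun i x hx => hXdef ▸
    (((show Commute x z from hzE x hx).symm.mul_left (show Commute y x from hyE x hx)).pow_left i).eq
  have hflip : ∀ i : ℕ, z * X ^ i = (X ^ i)⁻¹ * z := fun i => hXdef ▸ flip_pow hzz hyy i
  have hfinX : IsOfFinOrder X := isOfFinOrder_iff_pow_eq_one.2 (by
    obtain ⟨n, hn, hpow⟩ := isOfFinOrder_iff_pow_eq_one.1 (isOfFinOrder_of_finite (⟨X, hXM⟩ : M))
    exact ⟨n, hn, by simpa using congrArg Subtype.val hpow⟩)
  rcases Nat.even_or_odd (orderOf X) with ⟨k, hk⟩ | ⟨j, hj⟩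
  · -- even order
    have hpos := hfinX.orderOf_pos
    have hw2 : X ^ k * X ^ k = 1 := by rw [← pow_add, ← hk, pow_orderOf_eq_one]
    have hw1 : X ^ k ≠ 1 := fun hw => by
      have := Nat.le_of_dvd (by omega) (orderOf_dvd_of_pow_eq_one hw); omega
    obtain ⟨w, hwdef⟩ : ∃ w, w = X ^ k := ⟨_, rfl⟩
    rw [← hwdef] at hw2 hw1
    have hwinv : w⁻¹ = w := inv_eq_of_mul_eq_one_left hw2
    have hwz : w * z = z * w := by rw [hwdef, hflip k, ← hwdef, hwinv]
    have hwX : Commute w X := hwdef ▸ (Commute.refl X).pow_left k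
    have hwy : w * y = y * w := by
      have he : y = z * X := by rw [hXdef, ← mul_assoc, hzz, one_mul]
      rw [he, ← mul_assoc, hwz, mul_assoc, hwX.eq, ← mul_assoc]
    have hwM : w ∈ M := hwdef ▸ pow_mem hXM k
    have hwN : w ∈ N := h.cent z hzR hz w hwM hwz
    set v := g⁻¹ * w * g with hvdef
    have hvM : v ∈ M := M.mul_mem (M.mul_mem (M.inv_mem hgM) hwM) hgM
    have hvv : v * v = 1 := by
      rw [hvdef, show g⁻¹ * w * g * (g⁻¹ * w * g) = g⁻¹ * (w * w) * g by group, hw2, mul_one,
        inv_mul_cancel]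
    have hvt : v * t = t * v := by
      have e : w * y * g = y * w * g := by rw [hwy]
      rw [hydef] at e
      calc g⁻¹ * w * g * t = g⁻¹ * (w * (g * t * g⁻¹) * g) := by group
        _ = g⁻¹ * ((g * t * g⁻¹) * w * g) := by rw [e]
        _ = t * (g⁻¹ * w * g) := by group
    have hvE : ∀ x ∈ E, v * x = x * v := fun x hx =>
      ((((show Commute g x from hgE x hx).inv_left).mul_left
        (show Commute w x from hwdef ▸ hXE k x hx)).mul_left (hgE x hx)).eq
    have hvN : v ∈ N := hbase v hvM (fun x hx => hvE x (hsub hx)) hvt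
    by_cases hvmem : v ∈ E
    · have hwv : w = v := by
        have h1 : g * v = v * g := hgE v hvmem
        calc w = g * v * g⁻¹ := by rw [hvdef]; group
          _ = v := by rw [h1, mul_assoc, mul_inv_cancel, mul_one]
      have hwmem : w ∈ E := by rw [hwv]; exact hvmem
      have hwR : w ∉ R := fun hw => hgN (h.cent w hw hw1 g hgM (hgE w hwmem))
      rcases Nat.even_or_odd k with ⟨a, ha⟩ | ⟨a, ha⟩
      · have hconj : z * w = (X ^ a)⁻¹ * z * ((X ^ a)⁻¹)⁻¹ := by
          calc z * w = z * (X ^ a * X ^ a) := by rw [← pow_add, ← ha, ← hwdef]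
            _ = (z * X ^ a) * X ^ a := (mul_assoc _ _ _).symm
            _ = _ := by rw [hflip a, inv_inv]
        have hd : (X ^ a)⁻¹ ∈ M := M.inv_mem (pow_mem hXM a)
        have hzwN : z * w ∈ N := N.mul_mem (h.le_N hzR) hwN
        have hdN := h.weak z hzR hz _ hd (hconj ▸ hzwN)
        exact hwR ((Subgroup.mul_mem_cancel_left R hzR).1 (hconj ▸ h.norm _ hdN z hzR))
      · set d := (X ^ a)⁻¹ * g with hddef
        have hdM : d ∈ M := M.mul_mem (M.inv_mem (pow_mem hXM a)) hgM
        have hdE : ∀ x ∈ E, d * x = x * d := fun x hx =>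
          (((show Commute (X ^ a) x from hXE a x hx).inv_left).mul_left (hgE x hx)).eq
        have hconj : z * w = d * t * d⁻¹ := by
          have hzX : z * X ^ a = (X ^ a)⁻¹ * z := hflip a
          calc z * w = z * (X ^ a * X * X ^ a) := by
                rw [hwdef, ← pow_succ, ← pow_add]; congr 2; omega
            _ = (z * X ^ a) * X * X ^ a := by simp only [mul_assoc]
            _ = (X ^ a)⁻¹ * (z * (z * y)) * X ^ a := by rw [hzX, hXdef]; simp only [mul_assoc]
            _ = (X ^ a)⁻¹ * y * X ^ a := by rw [← mul_assoc z z y, hzz, one_mul]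
            _ = d * t * d⁻¹ := by rw [hydef, hddef]; group
        have hzwN : z * w ∈ N := N.mul_mem (h.le_N hzR) hwN
        have hdN : d ∈ N := hfix d hdM hdE (hconj ▸ hzwN)
        set r := d⁻¹ * z * d with hrdef
        have hrR : r ∈ R := by simpa only [inv_inv] using h.norm d⁻¹ (N.inv_mem hdN) z hzR
        have hwd : d * w * d⁻¹ = w := by rw [hdE w hwmem, mul_assoc, mul_inv_cancel, mul_one]
        have hwrt : w = r * t := by
          calc w = d⁻¹ * (d * w * d⁻¹) * d := by group
            _ = d⁻¹ * (z * (z * w)) * d := by rw [hwd, ← mul_assoc z z w, hzz, one_mul]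
            _ = r * t := by rw [hconj, hrdef]; group
        have hrt : r * t = t * r := by
          have e := (hmem w hwmem).2.2.2
          rw [hwrt, mul_assoc, htt, mul_one] at e
          calc r * t = t * (r * t) * t := by rw [← e]
            _ = t * r := by rw [mul_assoc, mul_assoc r, htt, mul_one]
        -- the commutators of `R` with `w` and `t` agree, so `d` fixes `z`
        have hcw : ∀ u ∈ R, u * w * u⁻¹ * w⁻¹ = u * t * u⁻¹ * t⁻¹ := by
          intro u hu
          have e1 : u * r = r * u := h.comm hu hrR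
          have e2 : u * t * u⁻¹ * t⁻¹ ∈ R := by
            rcases hRt u hu with e | e <;> rw [e]
            · exact R.one_mem
            · exact hzR
          calc u * w * u⁻¹ * w⁻¹ = (u * r) * t * u⁻¹ * (t⁻¹ * r⁻¹) := by
                rw [hwrt]; group
            _ = r * (u * t * u⁻¹ * t⁻¹) * r⁻¹ := by rw [e1]; group
            _ = u * t * u⁻¹ * t⁻¹ := by
                rw [h.comm hrR e2, mul_assoc, mul_inv_cancel, mul_one]
        have hdz : d * z * d⁻¹ = z := by
          have hu : d * q * d⁻¹ ∈ R := h.norm d hdN q hq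
          have e : d * z * d⁻¹ = (d * q * d⁻¹) * t * (d * q * d⁻¹)⁻¹ * t⁻¹ := by
            rw [← hcw _ hu, hzdef, ← hcw q hq]
            calc d * (q * w * q⁻¹ * w⁻¹) * d⁻¹
                = (d * q * d⁻¹) * (d * w * d⁻¹) * (d * q * d⁻¹)⁻¹ * (d * w * d⁻¹)⁻¹ := by group
              _ = _ := by rw [hwd]
          rcases hRt _ hu with e' | e'
          · exact absurd (conj_eq_one_iff.1 (e.trans e')) hz
          · exact e.trans e'
        have hrz : r = z := by
          rw [hrdef]
          nth_rewrite 1 [← hdz]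
          group
        have hwq : w = q * t * q⁻¹ := by
          rw [hwrt, hrz, hzdef]; group
        have hqM := h.le_M hq
        have hqN := h.le_N hq
        have hin : q⁻¹ * g * q ∈ N := by
          refine hbase _ (M.mul_mem (M.mul_mem (M.inv_mem hqM) hgM) hqM) (fun x hx => ?_) ?_
          · have h1 : Commute q x := (show Commute x q from hqE x hx).symm
            exact ((h1.inv_left.mul_left (hgE x (hsub hx))).mul_left h1).eq
          · have e : g * w * q = w * g * q := by rw [hgE w hwmem]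
            rw [hwq] at e
            calc q⁻¹ * g * q * t = q⁻¹ * (g * (q * t * q⁻¹) * q) := by group
              _ = q⁻¹ * ((q * t * q⁻¹) * g * q) := by rw [e]
              _ = t * (q⁻¹ * g * q) := by group
        apply hgN
        have := N.mul_mem (N.mul_mem hqN hin) (N.inv_mem hqN)
        simpa only [show q * (q⁻¹ * g * q) * q⁻¹ = g by group] using this
    · -- a larger bad set
      have hP : P (insert v E) := by
        refine ⟨hsub.trans (Set.subset_insert _ _), ?_, ?_, g⁻¹ * z * g, ?_, ?_, ?_⟩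
        · rintro x (rfl | hx)
          · exact ⟨hvM, hvN, hvv, hvt⟩
          · exact hmem x hx
        · rintro x (rfl | hx) x' (rfl | hx')
          · rfl
          · exact hvE x' hx'
          · exact (hvE x hx).symm
          · exact hEc x hx x' hx'
        · exact M.mul_mem (M.mul_mem (M.inv_mem hgM) hzM) hgM
        · rintro x (rfl | hx)
          · have e : g⁻¹ * (z * w) * g = g⁻¹ * (w * z) * g := by rw [hwz]
            calc g⁻¹ * z * g * (g⁻¹ * w * g) = g⁻¹ * (z * w) * g := by group
              _ = g⁻¹ * (w * z) * g := e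
              _ = g⁻¹ * w * g * (g⁻¹ * z * g) := by group
          · exact ((((show Commute g x from hgE x hx).inv_left).mul_left
              (show Commute x z from hzE x hx).symm).mul_left (hgE x hx)).eq
        · intro hin
          exact hgN (N.inv_mem_iff.1 (h.weak z hzR hz g⁻¹ (M.inv_mem hgM) (by rwa [inv_inv])))
      exact hvmem (hmax hP (Set.subset_insert _ _) (Set.mem_insert _ _))
  · -- odd order
    have hconj : y = X ^ j * z * (X ^ j)⁻¹ := by
      rw [mul_assoc, show z * (X ^ j)⁻¹ = X ^ j * z from ?_, ← mul_assoc, ← pow_add]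
      · have e : X ^ (j + j) = X⁻¹ := by
          rw [eq_inv_iff_mul_eq_one, ← pow_succ, show j + j + 1 = orderOf X by omega,
            pow_orderOf_eq_one]
        rw [e, hXdef, mul_inv_rev, inv_eq_of_mul_eq_one_left hyy, inv_eq_of_mul_eq_one_left hzz,
          mul_assoc, hzz, mul_one]
      · calc z * (X ^ j)⁻¹ = z * ((X ^ j)⁻¹ * z) * z := by rw [mul_assoc, mul_assoc, hzz, mul_one]
          _ = z * (z * X ^ j) * z := by rw [hflip j]
          _ = X ^ j * z := by rw [← mul_assoc z z, hzz, one_mul]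
    set d := g⁻¹ * X ^ j with hddef
    have hdt : t = d * z * d⁻¹ := by
      calc t = g⁻¹ * y * g := by rw [hydef]; group
        _ = d * z * d⁻¹ := by rw [hconj, hddef]; group
    have hdN := h.weak z hzR hz d (M.mul_mem (M.inv_mem hgM) (pow_mem hXM j)) (hdt ▸ htN)
    exact htR (hdt ▸ h.norm d hdN z hzR)

end Setup

end CfsgLib.MaxSub.SymEight
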