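import Cfsg.Agent.Lib.MaxSub.SymEight.Block

/-!
The elements `(1 + i y) (1 + i) / 2` attached to involutions of a frame and their action by conjugation.
-/

set_option autoImplicit false
set_option linter.unusedSectionVars false
set_option linter.style.haveILetI false

namespace CfsgLib.MaxSub.SymEight

open scoped MatrixGroups
open Cfsg.Geo Matrix

variable {ι : Type} [Fintype ι] [DecidableEq ι] {F : Type*} [Field F]

local notation "Mι" => Matrix ι ι F

theorem mem_sl {g : GL ι F} : g ∈ specialLinear ι F ↔ (g : Mι).det = 1 := by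
  rw [specialLinear, MonoidHom.mem_ker, Units.ext_iff]; rfl

theorem neg_ne {A : GL ι F} (h2 : (2 : F) ≠ 0) [Nonempty ι] : (A : Mι) ≠ -(A : Mι) := fun h => by
  have h' : (2 : F) • (A : Mι) = 0 := by rw [two_smul]; nth_rewrite 1 [h]; exact neg_add_cancel _
  exact A.ne_zero ((smul_eq_zero.1 h').resolve_left h2)

theorem mem_normalizer_of_conj [Finite F] {R : Subgroup (GL ι F)} {g : GL ι F}
    (h : ∀ y ∈ R, g * y * g⁻¹ ∈ R) : g ∈ subgroupNormalizer R := by
  rw [subgroupNormalizer, Subgroup.mem_normalizer_iff]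
  refine fun y => ⟨h y, fun hy => ?_⟩
  haveI : Finite (GL ι F) := Finite.of_injective (fun g => (g : Mι)) fun _ _ => Units.ext
  have hbij : Function.Bijective fun z : R => (⟨g * z * g⁻¹, h z z.2⟩ : R) :=
    Finite.injective_iff_bijective.1 fun a b e => Subtype.ext (by
      have := congrArg Subtype.val e
      simpa using this)
  obtain ⟨⟨z, hz⟩, hzy⟩ := hbij.2 ⟨_, hy⟩
  have := congrArg Subtype.val hzy
  rwa [show y = z by simpa using this.symm]

theorem conj_mem {R : Subgroup (GL ι F)} {g y : GL ι F} (hg : g ∈ subgroupNormalizer R) (hy : y ∈ R) :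
    g * y * g⁻¹ ∈ R :=
  (Subgroup.mem_normalizer_iff.1 hg y).1 hy

namespace Frame

variable {R : Subgroup (GL ι F)} {I : F} (hR : Frame R I)
include hR

theorem coeff : ((1 + I) / 2) * ((1 - I) / 2) * 2 = 1 := by
  field_simp [hR.two]
  linear_combination (-1 : F) * hR.I_sq

/-- The gate of an involution. -/
def gate {y : GL ι F} (hy : (y : Mι) * y = 1) : GL ι F where
  val := ((1 + I) / 2) • (1 + I • (y : Mι))
  inv := ((1 - I) / 2) • (1 - I • (y : Mι))
  val_inv := by
    have e : (1 + I • (y : Mι)) * (1 - I • (y : Mι)) = (2 : F) • 1 := by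
      rw [add_mul, mul_sub, mul_sub, Matrix.one_mul, Matrix.one_mul, Matrix.mul_one, Matrix.smul_mul,
        Matrix.mul_smul, smul_smul, hR.I_sq, hy, neg_one_smul, two_smul]
      abel
    rw [Matrix.smul_mul, Matrix.mul_smul, e, smul_smul, smul_smul, hR.coeff, one_smul]
  inv_val := by
    have e : (1 - I • (y : Mι)) * (1 + I • (y : Mι)) = (2 : F) • 1 := by
      rw [sub_mul, mul_add, mul_add, Matrix.one_mul, Matrix.one_mul, Matrix.mul_one, Matrix.smul_mul,
        Matrix.mul_smul, smul_smul, hR.I_sq, hy, neg_one_smul, two_smul]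
      abel
    rw [Matrix.smul_mul, Matrix.mul_smul, e, smul_smul, smul_smul,
      mul_comm ((1 - I) / 2) ((1 + I) / 2), hR.coeff, one_smul]

theorem coe_gate {y : GL ι F} (hy : (y : Mι) * y = 1) :
    (hR.gate hy : Mι) = ((1 + I) / 2) • (1 + I • (y : Mι)) := rfl

theorem coe_gate_inv {y : GL ι F} (hy : (y : Mι) * y = 1) :
    (((hR.gate hy)⁻¹ : GL ι F) : Mι) = ((1 - I) / 2) • (1 - I • (y : Mι)) := rfl

theorem gate_conj_comm {y : GL ι F} (hy : (y : Mι) * y = 1) {A : Mι} (h : (y : Mι) * A = A * y) :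
    (hR.gate hy : Mι) * A * ((hR.gate hy)⁻¹ : GL ι F) = A := by
  have e : (hR.gate hy : Mι) * A = A * (hR.gate hy : Mι) := by
    rw [hR.coe_gate, Matrix.smul_mul, Matrix.mul_smul, add_mul, mul_add, Matrix.one_mul, Matrix.mul_one,
      Matrix.smul_mul, Matrix.mul_smul, h]
  rw [e, mul_assoc, Units.mul_inv, Matrix.mul_one]

theorem gate_conj_anti {y : GL ι F} (hy : (y : Mι) * y = 1) {A : Mι} (h : (y : Mι) * A = -(A * y)) :
    (hR.gate hy : Mι) * A * ((hR.gate hy)⁻¹ : GL ι F) = I • ((y : Mι) * A) := by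
  have hI : I • I • A = -A := by rw [smul_smul, hR.I_sq, neg_one_smul]
  have e : (hR.gate hy : Mι) * A = (I • ((y : Mι) * A)) * (hR.gate hy : Mι) := by
    rw [hR.coe_gate, Matrix.smul_mul, Matrix.mul_smul, add_mul, mul_add, Matrix.one_mul, Matrix.mul_one,
      Matrix.smul_mul, Matrix.smul_mul, Matrix.mul_smul, h, neg_mul, mul_assoc, hy, Matrix.mul_one,
      smul_neg, smul_neg, smul_neg, hI, neg_neg]
    abel
  rw [e, mul_assoc, Units.mul_inv, Matrix.mul_one]

theorem gate_conj_mem {y : GL ι F} (hyR : y ∈ R) (hy : (y : Mι) * y = 1) {u : GL ι F} (hu : u ∈ R) :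
    hR.gate hy * u * (hR.gate hy)⁻¹ ∈ R := by
  rcases hR.mat_comm hyR hu with h | h
  · rwa [show hR.gate hy * u * (hR.gate hy)⁻¹ = u from Units.ext (by
      rw [Units.val_mul, Units.val_mul, hR.gate_conj_comm hy h])]
  · obtain ⟨z, hz, hzm⟩ := hR.smulI_mem (R.mul_mem hyR hu)
    rwa [show hR.gate hy * u * (hR.gate hy)⁻¹ = z from Units.ext (by
      rw [Units.val_mul, Units.val_mul, hR.gate_conj_anti hy h, hzm, Units.val_mul])]

theorem gate_mem_normalizer [Finite F] {y : GL ι F} (hyR : y ∈ R) (hy : (y : Mι) * y = 1) :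
    hR.gate hy ∈ subgroupNormalizer R :=
  mem_normalizer_of_conj fun _ hu => hR.gate_conj_mem hyR hy hu

/-- Determinants of the non-scalar involutions and of their gates. -/
theorem det_invol {y : GL ι F} (hyR : y ∈ R) (hy : (y : Mι) * y = 1) (hns : Ns (y : Mι)) {k : ℕ}
    (hk : Fintype.card ι = 4 * k) :
    (y : Mι).det = 1 ∧ (hR.gate hy : Mι).det = (-1) ^ k := by
  obtain ⟨x, hx, hxx, hrx⟩ := hR.exists_pair hyR hns
  obtain ⟨d, Φ, hd, h1, -, -⟩ := hR.exists_blockFrame hyR hx hy hxx hrx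
  have hdet : ∀ A : Mι, (cA Φ A).det = A.det := fun A => by
    show (LinearMap.toMatrix' ((Φ : (ι → F) →ₗ[F] (Fin d ⊕ Fin d → F)) ∘ₗ Matrix.toLin' A ∘ₗ
      (Φ.symm : (Fin d ⊕ Fin d → F) →ₗ[F] (ι → F)))).det = _
    rw [LinearMap.det_toMatrix', LinearMap.det_conj, LinearMap.det_toLin']
  have hd' : d = 2 * k := by omega
  have h2 := hR.two
  refine ⟨?_, ?_⟩
  · rw [← hdet, h1, bd, Matrix.det_fromBlocks_zero₁₂, Matrix.det_one, one_mul, Matrix.det_neg,
      Matrix.det_one, mul_one, Fintype.card_fin, hd', pow_mul, neg_one_sq, one_pow]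
  · rw [← hdet, hR.coe_gate, map_smul, map_add, map_one, map_smul, h1, bd, ← Matrix.fromBlocks_one,
      Matrix.fromBlocks_smul, Matrix.fromBlocks_add, Matrix.fromBlocks_smul]
    simp only [smul_zero, add_zero, smul_neg]
    rw [Matrix.det_fromBlocks_zero₁₂]
    have e1 : ((1 + I) / 2) • ((1 : Matrix (Fin d) (Fin d) F) + I • 1) = I • 1 := by
      rw [← one_smul F (1 : Matrix (Fin d) (Fin d) F), smul_smul, mul_one, ← add_smul, smul_smul]
      congr 1
      field_simp
      linear_combination hR.I_sq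
    have e2 : ((1 + I) / 2) • ((1 : Matrix (Fin d) (Fin d) F) + -(I • 1)) = 1 := by
      nth_rewrite 1 [← one_smul F (1 : Matrix (Fin d) (Fin d) F)]
      rw [← neg_smul, ← add_smul, smul_smul]
      convert one_smul F (1 : Matrix (Fin d) (Fin d) F) using 2
      field_simp
      linear_combination -hR.I_sq
    rw [e1, e2, Matrix.det_smul, Matrix.det_one, mul_one, mul_one, Fintype.card_fin, hd', pow_mul,
      pow_two, hR.I_sq]

theorem scalar_det {y : GL ι F} (hyR : y ∈ R) {c : F} (hc : (y : Mι) = c • 1) {k : ℕ}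
    (hk : Fintype.card ι = 4 * k) : (y : Mι).det = 1 := by
  haveI := hR.nonempty
  have h4 : c ^ 4 = 1 := by
    rcases hR.mat_sq hyR with h | h <;> rw [hc, Matrix.smul_mul, Matrix.one_mul, smul_smul] at h
    · have := smul_left_injective F (one_ne_zero (α := Mι)) (h.trans (one_smul F _).symm)
      rw [show c ^ 4 = (c * c) * (c * c) by ring, this, one_mul]
    · have := smul_left_injective F (one_ne_zero (α := Mι)) (h.trans (neg_one_smul F _).symm)
      rw [show c ^ 4 = (c * c) * (c * c) by ring, this, neg_mul_neg, one_mul]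
  rw [hc, Matrix.det_smul, Matrix.det_one, mul_one, hk, pow_mul, h4, one_pow]

theorem le_sl {k : ℕ} (hk : Fintype.card ι = 4 * k) : R ≤ specialLinear ι F := by
  intro y hy
  rw [mem_sl]
  by_cases hs : ∃ c : F, (y : Mι) = c • (1 : Mι)
  · obtain ⟨c, hc⟩ := hs
    exact hR.scalar_det hy hc hk
  obtain ⟨z, hz, c, hc0, hzm, hzz⟩ := hR.exists_invol hy
  have hnz : Ns (z : Mι) := fun e he => hs ⟨c⁻¹ * e, by
    rw [← smul_smul, ← he, hzm, smul_smul, inv_mul_cancel₀ hc0, one_smul]⟩
  have hzd := (hR.det_invol hz hzz hnz hk).1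
  -- the multiplier is a fourth root of unity
  haveI := hR.nonempty
  have hc2 : c ^ 2 * c ^ 2 = 1 := by
    rcases hR.mat_sq hy with h | h
    · rw [hzm, Matrix.smul_mul, Matrix.mul_smul, smul_smul, h] at hzz
      have := smul_left_injective F (one_ne_zero (α := Mι)) (hzz.trans (one_smul F _).symm)
      rw [show c ^ 2 = 1 by rw [pow_two, this], one_mul]
    · rw [hzm, Matrix.smul_mul, Matrix.mul_smul, smul_smul, h, smul_neg, ← neg_smul] at hzz
      have := smul_left_injective F (one_ne_zero (α := Mι)) (hzz.trans (one_smul F _).symm)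
      rw [show c ^ 2 = -1 by rw [pow_two, ← this, neg_neg], neg_mul_neg, one_mul]
  rw [hzm, Matrix.det_smul, hk, pow_mul, show c ^ 4 = c ^ 2 * c ^ 2 by ring, hc2, one_pow, one_mul] at hzd
  exact hzd

/-- A non-scalar product. -/
theorem ns_mul {a b : GL ι F} (ha : a ∈ R) (hb : b ∈ R) {w : GL ι F} (hw : w ∈ R)
    (hwa : (w : Mι) * (a : Mι) = -((a : Mι) * (w : Mι)))
    (hwb : (w : Mι) * (b : Mι) = (b : Mι) * (w : Mι)) :
    Ns ((a : Mι) * (b : Mι)) := by
  haveI := hR.nonempty
  intro c hc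
  have e : (w : Mι) * ((a : Mι) * (b : Mι)) = -((a : Mι) * (b : Mι) * (w : Mι)) := by
    rw [← mul_assoc, hwa, neg_mul, mul_assoc, hwb, mul_assoc]
  rw [hc, Matrix.mul_smul, Matrix.smul_mul, Matrix.mul_one, Matrix.one_mul] at e
  refine neg_ne (A := w) hR.two (smul_right_injective Mι (?_ : c ≠ 0) (e.trans (smul_neg c _).symm))
  intro h0
  rw [h0, zero_smul, ← Units.val_mul] at hc
  exact Units.ne_zero _ hc

/-- An element anticommuting with one of two inequivalent elements and commuting with the other. -/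
theorem exists_sign {a b : GL ι F} (ha : a ∈ R) (hb : b ∈ R) (hb' : Ns (b : Mι))
    (hab : Ns ((a : Mι) * (b : Mι))) :
    ∃ w ∈ R, (w : Mι) * (a : Mι) = (a : Mι) * (w : Mι) ∧ (w : Mι) * (b : Mι) = -((b : Mι) * (w : Mι)) := by
  haveI := hR.nonempty
  by_contra hcon
  push Not at hcon
  have himp : ∀ w ∈ R, (w : Mι) * (b : Mι) = -((b : Mι) * (w : Mι)) →
      (w : Mι) * (a : Mι) = -((a : Mι) * (w : Mι)) := fun w hw h =>
    (hR.mat_comm hw ha).resolve_left fun h' => hcon w hw h' h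
  obtain ⟨w₀, hw₀, hw₀b⟩ := hR.exists_anti hb hb'
  have hw₀a := himp w₀ hw₀ hw₀b
  obtain ⟨c, hc⟩ := hR.irr (A := (a : Mι) * (b : Mι)) fun w hw => by
    rcases hR.mat_comm hw hb with h | h
    · rcases hR.mat_comm hw ha with h' | h'
      · rw [mul_assoc, ← h, ← mul_assoc, ← h', mul_assoc]
      · exfalso
        refine hcon (w₀ * w) (R.mul_mem hw₀ hw) ?_ ?_
        · rw [Units.val_mul, mul_assoc, h', mul_neg, ← mul_assoc, hw₀a, neg_mul, neg_neg, mul_assoc]
        · rw [Units.val_mul, mul_assoc, h, ← mul_assoc, hw₀b, neg_mul, mul_assoc]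
    · have h' := himp w hw h
      rw [← mul_assoc, h', neg_mul, mul_assoc (a : Mι) (w : Mι), h, mul_neg, neg_neg, mul_assoc]
  exact hab c hc

end Frame

end CfsgLib.MaxSub.SymEight
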