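import Cfsg.Agent.Lib.MaxSub.SymEight.Centre

/-!
The conjugates inside the normaliser of an involution of the frame come from the normaliser.
-/

set_option autoImplicit false
set_option linter.unusedSectionVars false
set_option linter.style.haveILetI false

namespace CfsgLib.MaxSub.SymEight

open scoped MatrixGroups
open Cfsg.Geo Matrix CfsgLib.MaxSub.DecompMax

variable {ι : Type} [Fintype ι] [DecidableEq ι] {F : Type*} [Field F] [Fintype F]

local notation "Mι" => Matrix ι ι F

variable {R M : Subgroup (GL ι F)} {I : F} (h : Over R M I)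
include h

theorem Over.centre {r : GL ι F} (hr : r ∈ R) (hrr : (r : Mι) * (r : Mι) = 1) (hns : Ns (r : Mι))
    {g : GL ι F} (hg : g ∈ M)
    (hc : (g : Mι) * (r : Mι) = (r : Mι) * (g : Mι) ∨ (g : Mι) * (r : Mι) = -((r : Mι) * (g : Mι))) :
    g ∈ subgroupNormalizer R := by
  have key : ∀ g : GL ι F, g ∈ M → (g : Mι) * (r : Mι) = (r : Mι) * (g : Mι) → g ∈ subgroupNormalizer R := by
    intro g hg hc
    obtain ⟨x, hx, hxx, hrx⟩ := h.frame.exists_pair hr hns
    obtain ⟨Φ, h1, -, hB, hbl⟩ := h.coord hr hx hrr hxx hrx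
    have hn := (h.map Φ).centre_block hB hbl (Subgroup.mem_map_of_mem (coordGL Φ).toMonoidHom hg)
      (by rw [MulEquiv.coe_toMonoidHom, coe_coordGL, ← h1, ← map_mul, hc, map_mul])
    refine mem_normalizer_of_conj fun w hw => ?_
    obtain ⟨u, hu, hue⟩ := conj_mem hn (Subgroup.mem_map_of_mem (coordGL Φ).toMonoidHom hw)
    simp only [MulEquiv.coe_toMonoidHom, ← map_inv, ← map_mul] at hue
    rwa [← (coordGL Φ).injective hue]
  rcases hc with hc | hc
  · exact key g hg hc
  · obtain ⟨x, hx, hxx, hrx⟩ := h.frame.exists_pair hr hns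
    have hgx := key (g * x) (M.mul_mem hg (h.mem_of_mem hx)) (by
      rw [Units.val_mul, mul_assoc, show (x : Mι) * (r : Mι) = -((r : Mι) * (x : Mι)) by rw [hrx, neg_neg],
        mul_neg, ← mul_assoc, hc, neg_mul, neg_neg, mul_assoc])
    have hxN : x ∈ subgroupNormalizer R := mem_normalizer_of_conj fun w hw =>
      R.mul_mem (R.mul_mem hx hw) (R.inv_mem hx)
    have := Subgroup.mul_mem _ hgx (Subgroup.inv_mem _ hxN)
    rwa [mul_inv_cancel_right] at this

omit h in
/-- A reflected element whose conjugate by `1 + J y` is its negative is fixed up to a scalar. -/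
theorem refl_scalar (h2 : (2 : F) ≠ 0) {y v : Mι} {J : F} (hJ : J * J = -1) (hy : y * y = 1)
    (e : (1 + J • y) * v = -(v * (1 + J • y))) : ∃ d : F, y * v * y = d • v := by
  have hy' : ∀ X : Mι, y * (y * X) = X := fun X => by rw [← mul_assoc, hy, Matrix.one_mul]
  simp only [add_mul, mul_add, Matrix.one_mul, Matrix.mul_one, Matrix.smul_mul, Matrix.mul_smul] at e
  have l := congrArg (fun X : Mι => y * X) e
  have r := congrArg (fun X : Mι => X * y) e
  simp only [mul_add, add_mul, Matrix.mul_smul, Matrix.smul_mul, mul_neg, neg_mul, mul_assoc, hy', hy,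
    Matrix.mul_one] at l r
  refine ⟨-3, ?_⟩
  rw [mul_assoc]
  linear_combination (norm := skip) e - ((2 : F)⁻¹ * J) • l - ((2 : F)⁻¹ * J) • r
  match_scalars <;> field_simp <;> first
    | ring1
    | linear_combination hJ
    | linear_combination -hJ
    | linear_combination (2 : F) * hJ
    | linear_combination (-2 : F) * hJ
    | linear_combination (3 : F) * hJ
    | linear_combination (-3 : F) * hJ

theorem Over.weak {r : GL ι F} (hr : r ∈ R) (hrr : (r : Mι) * (r : Mι) = 1) (hns : Ns (r : Mι))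
    {g : GL ι F} (hg : g ∈ M) (hy : g * r * g⁻¹ ∈ subgroupNormalizer R) : g ∈ subgroupNormalizer R := by
  classical
  have hF := h.frame
  haveI := hF.nonempty
  obtain ⟨y, hydef⟩ : ∃ y, y = g * r * g⁻¹ := ⟨_, rfl⟩
  rw [← hydef] at hy
  have hyy : (y : Mι) * (y : Mι) = 1 := by
    rw [← Units.val_mul, hydef, show g * r * g⁻¹ * (g * r * g⁻¹) = g * (r * r) * g⁻¹ by group,
      Units.val_mul, Units.val_mul, Units.val_mul, hrr, Matrix.mul_one, Units.mul_inv]
  have hyns : Ns (y : Mι) := fun d hd => hns d (by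
    have : r = g⁻¹ * y * g := by rw [hydef]; group
    simp [this, hd])
  have hyi : y⁻¹ = y := inv_eq_of_mul_eq_one_left (Units.ext (by rw [Units.val_mul, hyy, Units.val_one]))
  have hall : ∀ v ∈ R, y * v * y⁻¹ = v ∨ y * v * y⁻¹ = -v := by
    by_contra hcon
    push Not at hcon
    obtain ⟨v₀, hv₀, hv1, hv2⟩ := hcon
    obtain ⟨v, hv, c, hc0, hvm, hvv⟩ := hF.exists_invol hv₀
    obtain ⟨v', hv'def⟩ : ∃ v', v' = y * v * y⁻¹ := ⟨_, rfl⟩
    have hv' : v' ∈ R := hv'def ▸ conj_mem hy hv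
    have hv'm : (v' : Mι) = (y : Mι) * (v : Mι) * (y : Mι) := by
      rw [hv'def, hyi, Units.val_mul, Units.val_mul]
    have hv'v' : (v' : Mι) * (v' : Mι) = 1 := by
      rw [← Units.val_mul, hv'def, show y * v * y⁻¹ * (y * v * y⁻¹) = y * (v * v) * y⁻¹ by group,
        Units.val_mul, Units.val_mul, Units.val_mul, hvv, Matrix.mul_one, Units.mul_inv]
    have hvv' : ∀ d : F, (v' : Mι) ≠ d • (v : Mι) := by
      intro d e1
      have hdd : d * d = 1 := by
        have := hv'v'
        rw [e1, Matrix.smul_mul, Matrix.mul_smul, smul_smul, hvv] at this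
        exact smul_left_injective F (one_ne_zero (α := Mι)) (this.trans (one_smul F _).symm)
      have e2 : (y : Mι) * (v₀ : Mι) * (y : Mι) = d • (v₀ : Mι) := by
        have e3 := e1
        rw [hv'm, hvm, Matrix.mul_smul, Matrix.smul_mul, smul_smul, mul_comm d c, ← smul_smul] at e3
        exact smul_right_injective Mι hc0 e3
      rcases mul_self_eq_one_iff.1 hdd with rfl | rfl
      · exact hv1 (Units.ext (by rw [hyi, Units.val_mul, Units.val_mul, e2, one_smul]))
      · exact hv2 (Units.ext (by rw [hyi, Units.val_mul, Units.val_mul, e2, neg_one_smul, Units.val_neg]))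
    have hns' : Ns ((v : Mι) * (v' : Mι)) := fun d hd => hvv' d (by
      calc (v' : Mι) = (v : Mι) * ((v : Mι) * (v' : Mι)) := by rw [← mul_assoc, hvv, Matrix.one_mul]
        _ = d • (v : Mι) := by rw [hd, Matrix.mul_smul, Matrix.mul_one])
    have hyv : (y : Mι) * (v : Mι) = (v' : Mι) * (y : Mι) := by
      rw [hv'm, mul_assoc, hyy, Matrix.mul_one]
    have hyv' : (y : Mι) * (v' : Mι) = (v : Mι) * (y : Mι) := by
      rw [hv'm, ← mul_assoc, ← mul_assoc, hyy, Matrix.one_mul]
    -- an involution of the frame commuting with `y`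
    obtain ⟨b₀, hb₀, hb₀ns, hb₀y⟩ : ∃ b₀ ∈ R, Ns (b₀ : Mι) ∧
        (y : Mι) * (b₀ : Mι) = (b₀ : Mι) * (y : Mι) := by
      rcases hF.mat_comm hv hv' with hc | hc
      · refine ⟨v * v', R.mul_mem hv hv', by rwa [Units.val_mul], ?_⟩
        rw [Units.val_mul, ← mul_assoc, hyv, mul_assoc, hyv', ← mul_assoc, hc]
      · obtain ⟨r₀, hr₀, hr₀r₀, hr₀ns, hr₀v, hr₀v'⟩ :=
          hF.exists_comm_two (by rw [h.card8]; norm_num) hv hv' hvv hv'v' hc
        have hsign : (y : Mι) * ((v : Mι) * (v' : Mι)) = -((v : Mι) * (v' : Mι) * (y : Mι)) := by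
          rw [← mul_assoc, hyv, mul_assoc, hyv', ← mul_assoc,
            show (v' : Mι) * (v : Mι) = -((v : Mι) * (v' : Mι)) by rw [hc, neg_neg], neg_mul]
        have hvanti : (v : Mι) * ((v : Mι) * (v' : Mι)) = -((v : Mι) * (v' : Mι) * (v : Mι)) := by
          conv_lhs => rw [hc, mul_neg, ← mul_assoc]
        obtain ⟨r₁, hr₁def⟩ : ∃ r₁, r₁ = y * r₀ * y⁻¹ := ⟨_, rfl⟩
        have hr₁ : r₁ ∈ R := hr₁def ▸ conj_mem hy hr₀
        have hyr₀ : (y : Mι) * (r₀ : Mι) = (r₁ : Mι) * (y : Mι) := by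
          rw [← Units.val_mul, ← Units.val_mul, hr₁def, inv_mul_cancel_right]
        have hyr₁ : (y : Mι) * (r₁ : Mι) = (r₀ : Mι) * (y : Mι) := by
          rw [hr₁def, hyi, Units.val_mul, Units.val_mul, ← mul_assoc (y : Mι), ← mul_assoc (y : Mι), hyy,
            Matrix.one_mul]
        have hr₁v : (r₁ : Mι) * (v : Mι) = (v : Mι) * (r₁ : Mι) := by
          have hv1 : v = y * v' * y⁻¹ := Units.ext (by
            rw [hyi, Units.val_mul, Units.val_mul, hyv', mul_assoc, hyy, Matrix.mul_one])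
          have hc1 : r₀ * v' = v' * r₀ := Units.ext (by rw [Units.val_mul, Units.val_mul, hr₀v'])
          rw [← Units.val_mul, ← Units.val_mul, hr₁def, hv1]
          congr 1
          calc y * r₀ * y⁻¹ * (y * v' * y⁻¹) = y * (r₀ * v') * y⁻¹ := by group
            _ = y * v' * y⁻¹ * (y * r₀ * y⁻¹) := by rw [hc1]; group
        rcases hF.mat_comm hr₀ hr₁ with hd | hd
        · by_cases hs : Ns ((r₀ : Mι) * (r₁ : Mι))
          · refine ⟨r₀ * r₁, R.mul_mem hr₀ hr₁, by rwa [Units.val_mul], ?_⟩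
            rw [Units.val_mul, ← mul_assoc, hyr₀, mul_assoc, hyr₁, ← mul_assoc, hd]
          · simp only [Ns, not_forall, not_not] at hs
            obtain ⟨d, hd'⟩ := hs
            have e1 : (r₁ : Mι) = d • (r₀ : Mι) := by
              calc (r₁ : Mι) = (r₀ : Mι) * ((r₀ : Mι) * (r₁ : Mι)) := by rw [← mul_assoc, hr₀r₀, Matrix.one_mul]
                _ = d • (r₀ : Mι) := by rw [hd', Matrix.mul_smul, Matrix.mul_one]
            have hdd : d * d = 1 := by
              have e2 : (r₁ : Mι) * (r₁ : Mι) = 1 := by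
                rw [← Units.val_mul, hr₁def, show y * r₀ * y⁻¹ * (y * r₀ * y⁻¹) = y * (r₀ * r₀) * y⁻¹ by group,
                  Units.val_mul, Units.val_mul, Units.val_mul, hr₀r₀, Matrix.mul_one, Units.mul_inv]
              rw [e1, Matrix.smul_mul, Matrix.mul_smul, smul_smul, hr₀r₀] at e2
              exact smul_left_injective F (one_ne_zero (α := Mι)) (e2.trans (one_smul F _).symm)
            rcases mul_self_eq_one_iff.1 hdd with rfl | rfl
            · exact ⟨r₀, hr₀, hr₀ns, by rw [hyr₀, e1, one_smul]⟩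
            · refine ⟨v * v' * r₀, R.mul_mem (R.mul_mem hv hv') hr₀, ?_, ?_⟩
              · rw [Units.val_mul, Units.val_mul, ← Units.val_mul v v']
                exact hF.ns_mul (R.mul_mem hv hv') hr₀ hv (by rw [Units.val_mul]; exact hvanti) hr₀v.symm
              · rw [Units.val_mul, Units.val_mul, ← mul_assoc, hsign, neg_mul, mul_assoc, hyr₀, e1,
                  neg_one_smul, neg_mul, mul_neg, neg_neg]
                simp only [mul_assoc]
        · refine ⟨v * v' * (r₀ * r₁), R.mul_mem (R.mul_mem hv hv') (R.mul_mem hr₀ hr₁), ?_, ?_⟩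
          · rw [Units.val_mul]
            exact hF.ns_mul (R.mul_mem hv hv') (R.mul_mem hr₀ hr₁) hv (by rw [Units.val_mul]; exact hvanti)
              (by rw [Units.val_mul, ← mul_assoc, ← hr₀v, mul_assoc, ← hr₁v, mul_assoc])
          · rw [Units.val_mul, Units.val_mul, Units.val_mul, ← mul_assoc, hsign, neg_mul, mul_assoc,
              ← mul_assoc (y : Mι), hyr₀, mul_assoc (r₁ : Mι), hyr₁, ← mul_assoc (r₁ : Mι),
              show (r₁ : Mι) * (r₀ : Mι) = -((r₀ : Mι) * (r₁ : Mι)) by rw [hd, neg_neg], neg_mul, mul_neg,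
              neg_neg]
            simp only [mul_assoc]
    obtain ⟨b₁, hb₁, c₁, hc₁, hb₁m, hb₁b₁⟩ := hF.exists_invol hb₀
    have hT : hF.gate hyy ∈ M := by
      have e : hF.gate hyy = g * hF.gate hrr * g⁻¹ := Units.ext (by
        rw [Units.val_mul, Units.val_mul, hF.coe_gate, hF.coe_gate, Matrix.mul_smul, Matrix.smul_mul,
          mul_add, add_mul, Matrix.mul_one, Units.mul_inv, Matrix.mul_smul, Matrix.smul_mul, hydef,
          Units.val_mul, Units.val_mul])
      exact e ▸ M.mul_mem (M.mul_mem hg (h.gate_mem hr hrr hns)) (M.inv_mem hg)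
    have hTN : hF.gate hyy ∈ subgroupNormalizer R := by
      refine h.centre hb₁ hb₁b₁ (fun d hd => hb₀ns (c₁⁻¹ * d) ?_) hT (Or.inl ?_)
      · rw [← smul_smul, ← hd, hb₁m, smul_smul, inv_mul_cancel₀ hc₁, one_smul]
      · rw [hb₁m, Matrix.mul_smul, Matrix.smul_mul, hF.coe_gate, Matrix.smul_mul, Matrix.mul_smul, add_mul,
          mul_add, Matrix.one_mul, Matrix.mul_one, Matrix.smul_mul, Matrix.mul_smul, hb₀y]
    obtain ⟨P, hPdef⟩ : ∃ P, P = hF.gate hyy * v * (hF.gate hyy)⁻¹ := ⟨_, rfl⟩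
    obtain ⟨P', hP'def⟩ : ∃ P', P' = hF.gate hyy * v' * (hF.gate hyy)⁻¹ := ⟨_, rfl⟩
    have hP : P ∈ R := hPdef ▸ conj_mem hTN hv
    have hP' : P' ∈ R := hP'def ▸ conj_mem hTN hv'
    have hsum : (P : Mι) + (P' : Mι) = (v : Mι) + (v' : Mι) := by
      rw [hPdef, hP'def, Units.val_mul, Units.val_mul, Units.val_mul, Units.val_mul, ← add_mul, ← mul_add]
      exact hF.gate_conj_comm hyy (by rw [mul_add, add_mul, hyv, hyv', add_comm])
    have htr := congrArg (fun X : Mι => ((v : Mι) * X).trace) hsum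
    simp only [mul_add, Matrix.trace_add, hvv, Matrix.trace_one] at htr
    rw [show (v : Mι) * (v' : Mι) = ((v * v' : GL ι F) : Mι) from rfl,
      hF.trace_zero (R.mul_mem hv hv') (by rwa [Units.val_mul]), add_zero] at htr
    have hscal : ∀ Q : GL ι F, Q ∈ R → ((v : Mι) * (Q : Mι)).trace ≠ 0 →
        (Q : Mι) * (Q : Mι) = 1 → (Q : Mι) = (v : Mι) ∨ (Q : Mι) = -(v : Mι) := by
      intro Q hQ hne hQQ
      by_cases hs : Ns ((v : Mι) * (Q : Mι))
      · exact absurd (by rw [← Units.val_mul]; exact hF.trace_zero (R.mul_mem hv hQ) (by rwa [Units.val_mul])) hne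
      simp only [Ns, not_forall, not_not] at hs
      obtain ⟨d, hd⟩ := hs
      have e1 : (Q : Mι) = d • (v : Mι) := by
        calc (Q : Mι) = (v : Mι) * ((v : Mι) * (Q : Mι)) := by rw [← mul_assoc, hvv, Matrix.one_mul]
          _ = d • (v : Mι) := by rw [hd, Matrix.mul_smul, Matrix.mul_one]
      rw [e1, Matrix.smul_mul, Matrix.mul_smul, smul_smul, hvv] at hQQ
      rcases mul_self_eq_one_iff.1
          (smul_left_injective F (one_ne_zero (α := Mι)) (hQQ.trans (one_smul F _).symm)) with rfl | rfl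
      · exact Or.inl (by rw [e1, one_smul])
      · exact Or.inr (by rw [e1, neg_one_smul])
    have hinv : ∀ u : GL ι F, (u : Mι) * (u : Mι) = 1 →
        ((hF.gate hyy * u * (hF.gate hyy)⁻¹ : GL ι F) : Mι) *
          ((hF.gate hyy * u * (hF.gate hyy)⁻¹ : GL ι F) : Mι) = 1 := by
      intro u hu
      rw [← Units.val_mul, show hF.gate hyy * u * (hF.gate hyy)⁻¹ * (hF.gate hyy * u * (hF.gate hyy)⁻¹) =
        hF.gate hyy * (u * u) * (hF.gate hyy)⁻¹ by group, Units.val_mul, Units.val_mul, Units.val_mul, hu,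
        Matrix.mul_one, Units.mul_inv]
    have hk : ((1 + I) / 2) ≠ 0 := left_ne_zero_of_mul (left_ne_zero_of_mul_eq_one hF.coeff)
    have hTv : ∀ (u : GL ι F) (X : Mι),
        ((hF.gate hyy * u * (hF.gate hyy)⁻¹ : GL ι F) : Mι) = X →
        (1 + I • (y : Mι)) * (u : Mι) = X * (1 + I • (y : Mι)) := by
      intro u X e
      refine smul_right_injective Mι hk ?_
      show ((1 + I) / 2) • ((1 + I • (y : Mι)) * (u : Mι)) = ((1 + I) / 2) • (X * (1 + I • (y : Mι)))
      rw [← Matrix.smul_mul, ← hF.coe_gate hyy, ← Matrix.mul_smul, ← hF.coe_gate hyy, ← e, Units.val_mul,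
        Units.val_mul, mul_assoc, Units.inv_mul, Matrix.mul_one]
    have hcommv : (y : Mι) * (v : Mι) ≠ (v : Mι) * (y : Mι) := fun e =>
      hvv' 1 (by rw [hv'm, e, mul_assoc, hyy, Matrix.mul_one, one_smul])
    -- in either case `y` reflects `v` to a multiple of itself
    rcases eq_or_ne ((v : Mι) * (P : Mι)).trace 0 with h0 | h0
    · rw [h0, zero_add] at htr
      have h1 : ((v : Mι) * (P' : Mι)).trace ≠ 0 := fun e => hF.dim_ne (htr.symm.trans e)
      rcases hscal P' hP' h1 (hP'def ▸ hinv v' hv'v') with e | e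
      · have e' := hTv v' _ (hP'def ▸ e)
        refine hcommv ?_
        -- `(1 + i y) v' = v (1 + i y)` gives `y v = v y`
        rw [hv'm] at e'
        simp only [add_mul, mul_add, Matrix.one_mul, Matrix.mul_one, Matrix.smul_mul, Matrix.mul_smul,
          mul_assoc] at e'
        rw [← mul_assoc (y : Mι) (y : Mι), hyy, Matrix.one_mul] at e'
        have e2 := congrArg (fun X : Mι => X * (y : Mι)) (add_right_cancel e')
        simp only [mul_assoc, hyy, Matrix.mul_one] at e2
        exact e2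
      · have e' := hTv v' _ (hP'def ▸ e)
        -- `(1 + i y) y v y = -v (1 + i y)`, so `(1 - i y) v = -v (1 - i y)`
        rw [hv'm] at e'
        have e2 := congrArg (fun X : Mι => -I • (X * (y : Mι))) e'
        simp only [add_mul, mul_add, Matrix.one_mul, Matrix.mul_one, Matrix.smul_mul, Matrix.mul_smul,
          mul_assoc, neg_mul, hyy] at e2
        rw [← mul_assoc (y : Mι) (y : Mι), hyy, Matrix.one_mul] at e2
        obtain ⟨d, hd⟩ := refl_scalar hF.two (y := (y : Mι)) (v := (v : Mι)) (J := -I)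
          (by rw [neg_mul_neg, hF.I_sq]) hyy (by
            simp only [add_mul, mul_add, Matrix.one_mul, Matrix.mul_one, Matrix.smul_mul, Matrix.mul_smul]
            linear_combination (norm := skip) e2
            simp only [smul_add, smul_neg, smul_smul, neg_smul, neg_mul, hF.I_sq]
            module)
        exact hvv' d (by rw [hv'm, hd])
    · rcases hscal P hP h0 (hPdef ▸ hinv v hvv) with e | e
      · have e' := hTv v _ (hPdef ▸ e)
        rw [add_mul, mul_add, Matrix.one_mul, Matrix.mul_one, add_right_inj, Matrix.smul_mul,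
          Matrix.mul_smul] at e'
        exact hcommv (smul_right_injective Mι hF.I_ne e')
      · have e' := hTv v _ (hPdef ▸ e)
        rw [neg_mul] at e'
        obtain ⟨d, hd⟩ := refl_scalar hF.two hF.I_sq hyy e'
        exact hvv' d (by rw [hv'm, hd])
  -- `y` lies in the frame
  obtain ⟨p, hp, l, hl, hyp⟩ := hF.eq_smul_of_sign (A := (y : Mι)) (Units.ne_zero _) fun v hv => by
    rcases hall v hv with e | e
    · exact Or.inl (by rw [← Units.val_mul, mul_inv_eq_iff_eq_mul.1 e, Units.val_mul])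
    · exact Or.inr (by rw [← Units.val_mul, mul_inv_eq_iff_eq_mul.1 e, neg_mul, Units.val_neg, Units.val_mul])
  have hpns : Ns (p : Mι) := fun d hd => hyns (l * d) (by rw [hyp, hd, smul_smul])
  -- a gate carries `r` to a multiple of `p`
  obtain ⟨n, hnN, hnM, c, hc, hn⟩ : ∃ n ∈ subgroupNormalizer R, n ∈ M ∧ ∃ c : F, c ≠ 0 ∧
      (n : Mι) * (r : Mι) * ((n⁻¹ : GL ι F) : Mι) = c • (p : Mι) := by
    have one_step : ∀ {a b : GL ι F}, a ∈ R → b ∈ R → (a : Mι) * (a : Mι) = 1 → Ns (b : Mι) →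
        (a : Mι) * (b : Mι) = -((b : Mι) * (a : Mι)) → ∃ n ∈ subgroupNormalizer R, n ∈ M ∧ ∃ c : F, c ≠ 0 ∧
          (n : Mι) * (a : Mι) * ((n⁻¹ : GL ι F) : Mι) = c • (b : Mι) := by
      intro a b ha hb haa hbns hab
      obtain ⟨w, hw, d, hd, hwm, hww⟩ := hF.exists_invol (R.mul_mem hb ha)
      rw [Units.val_mul] at hwm
      have hwa : (w : Mι) * (a : Mι) = -((a : Mι) * (w : Mι)) := by
        rw [hwm, Matrix.smul_mul, Matrix.mul_smul, ← mul_assoc, hab, neg_mul, smul_neg, neg_neg, mul_assoc]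
      have hwns : Ns (w : Mι) := by
        intro e he
        rw [he, Matrix.smul_mul, Matrix.mul_smul, Matrix.one_mul, Matrix.mul_one] at hwa
        have h0 : (2 : F) • (e • (a : Mι)) = 0 := by
          rw [two_smul]; nth_rewrite 1 [hwa]; exact neg_add_cancel _
        rcases smul_eq_zero.1 h0 with h0 | h0
        · exact hF.two h0
        rcases smul_eq_zero.1 h0 with h0 | h0
        · exact w.ne_zero (by rw [he, h0, zero_smul])
        · exact a.ne_zero h0
      refine ⟨hF.gate hww, hF.gate_mem_normalizer hw hww, h.gate_mem hw hww hwns, I * d,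
        mul_ne_zero hF.I_ne hd, ?_⟩
      rw [hF.gate_conj_anti hww hwa, hwm, Matrix.smul_mul, mul_assoc, haa, Matrix.mul_one, smul_smul]
    rcases hF.mat_comm hr hp with hrp | hrp
    · by_cases hs : Ns ((r : Mι) * (p : Mι))
      · -- through an element anticommuting with both
        obtain ⟨w₁, hw₁, hw₁r, hw₁p⟩ := hF.exists_sign hr hp hpns hs
        obtain ⟨w₂, hw₂, hw₂p, hw₂r⟩ := hF.exists_sign hp hr hns (by rwa [← hrp])
        obtain ⟨u, hu, du, hdu, hum, huu⟩ := hF.exists_invol (R.mul_mem hw₁ hw₂)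
        rw [Units.val_mul] at hum
        have hur : (u : Mι) * (r : Mι) = -((r : Mι) * (u : Mι)) := by
          rw [hum, Matrix.smul_mul, Matrix.mul_smul, mul_assoc, hw₂r, mul_neg, ← mul_assoc, hw₁r, mul_assoc,
            smul_neg]
        have hup : (u : Mι) * (p : Mι) = -((p : Mι) * (u : Mι)) := by
          rw [hum, Matrix.smul_mul, Matrix.mul_smul, mul_assoc, hw₂p, ← mul_assoc, hw₁p, neg_mul, mul_assoc,
            smul_neg]
        have huns : Ns (u : Mι) := by
          intro e he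
          rw [he, Matrix.smul_mul, Matrix.mul_smul, Matrix.one_mul, Matrix.mul_one] at hur
          have h0 : (2 : F) • (e • (r : Mι)) = 0 := by
            rw [two_smul]; nth_rewrite 1 [hur]; exact neg_add_cancel _
          rcases smul_eq_zero.1 h0 with h0 | h0
          · exact hF.two h0
          rcases smul_eq_zero.1 h0 with h0 | h0
          · exact u.ne_zero (by rw [he, h0, zero_smul])
          · exact r.ne_zero h0
        obtain ⟨n₁, hn₁N, hn₁M, c₁, hc₁, hn₁⟩ := one_step hr hu hrr huns (by rw [hur, neg_neg])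
        obtain ⟨n₂, hn₂N, hn₂M, c₂, hc₂, hn₂⟩ := one_step hu hp huu hpns hup
        refine ⟨n₂ * n₁, Subgroup.mul_mem _ hn₂N hn₁N, M.mul_mem hn₂M hn₁M, c₁ * c₂, mul_ne_zero hc₁ hc₂, ?_⟩
        calc ((n₂ * n₁ : GL ι F) : Mι) * (r : Mι) * (((n₂ * n₁)⁻¹ : GL ι F) : Mι)
            = (n₂ : Mι) * ((n₁ : Mι) * (r : Mι) * ((n₁⁻¹ : GL ι F) : Mι)) * ((n₂⁻¹ : GL ι F) : Mι) := by
              rw [_root_.mul_inv_rev, Units.val_mul, Units.val_mul]; simp only [mul_assoc]
          _ = (c₁ * c₂) • (p : Mι) := by rw [hn₁, Matrix.mul_smul, Matrix.smul_mul, hn₂, smul_smul]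
      · simp only [Ns, not_forall, not_not] at hs
        obtain ⟨d, hd⟩ := hs
        have e1 : (p : Mι) = d • (r : Mι) := by
          calc (p : Mι) = (r : Mι) * ((r : Mι) * (p : Mι)) := by rw [← mul_assoc, hrr, Matrix.one_mul]
            _ = d • (r : Mι) := by rw [hd, Matrix.mul_smul, Matrix.mul_one]
        have hd0 : d ≠ 0 := fun h0 => p.ne_zero (by rw [e1, h0, zero_smul])
        refine ⟨1, one_mem _, M.one_mem, d⁻¹, inv_ne_zero hd0, ?_⟩
        rw [inv_one, Units.val_one, Matrix.one_mul, Matrix.mul_one, e1, smul_smul, inv_mul_cancel₀ hd0, one_smul]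
    · exact one_step hr hp hrr hpns hrp
  obtain ⟨u, hudef⟩ : ∃ u, u = g⁻¹ * n := ⟨_, rfl⟩
  have e : (u : Mι) * (r : Mι) * ((u⁻¹ : GL ι F) : Mι) = (c * l⁻¹) • (r : Mι) := by
    have e1 : (c * l⁻¹) • (y : Mι) = (n : Mι) * (r : Mι) * ((n⁻¹ : GL ι F) : Mι) := by
      rw [hn, hyp, smul_smul, mul_assoc, inv_mul_cancel₀ hl, mul_one]
    have hg' : (r : Mι) = ((g⁻¹ : GL ι F) : Mι) * (y : Mι) * (g : Mι) := by
      rw [← Units.val_mul, ← Units.val_mul, hydef]; congr 1; group
    nth_rewrite 2 [hg']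
    rw [← Matrix.smul_mul, ← Matrix.mul_smul, e1, hudef, _root_.mul_inv_rev, inv_inv, Units.val_mul,
      Units.val_mul]
    simp only [mul_assoc]
  obtain ⟨k, hk⟩ : ∃ k, k = c * l⁻¹ := ⟨_, rfl⟩
  rw [← hk] at e
  have hk2 : k * k = 1 := by
    have h2 : ((u : Mι) * (r : Mι) * ((u⁻¹ : GL ι F) : Mι)) * ((u : Mι) * (r : Mι) * ((u⁻¹ : GL ι F) : Mι))
        = 1 := by
      simp only [← Units.val_mul]
      rw [show u * r * u⁻¹ * (u * r * u⁻¹) = u * (r * r) * u⁻¹ by group, Units.val_mul, Units.val_mul,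
        Units.val_mul, hrr, Matrix.mul_one, Units.mul_inv]
    rw [e, Matrix.smul_mul, Matrix.mul_smul, smul_smul, hrr] at h2
    exact smul_left_injective F (one_ne_zero (α := Mι)) (h2.trans (one_smul F _).symm)
  have hur : (u : Mι) * (r : Mι) = k • ((r : Mι) * (u : Mι)) := by
    calc (u : Mι) * (r : Mι) = (u : Mι) * (r : Mι) * ((u⁻¹ : GL ι F) : Mι) * (u : Mι) := by
          rw [mul_assoc _ _ (u : Mι), Units.inv_mul, Matrix.mul_one]
      _ = k • ((r : Mι) * (u : Mι)) := by rw [e, Matrix.smul_mul]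
  have huN : u ∈ subgroupNormalizer R := h.centre hr hrr hns (hudef ▸ M.mul_mem (M.inv_mem hg) hnM) (by
    rcases mul_self_eq_one_iff.1 hk2 with rfl | rfl
    · exact Or.inl (by rw [hur, one_smul])
    · exact Or.inr (by rw [hur, neg_one_smul]))
  have := Subgroup.mul_mem _ hnN (Subgroup.inv_mem _ huN)
  rwa [show n * u⁻¹ = g by rw [hudef]; group] at this

end CfsgLib.MaxSub.SymEight
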