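import Cfsg.Agent.Lib.MaxSub.SymEight.Fusion
import Cfsg.Agent.Lib.MaxSub.SymEight.Weak
import Cfsg.Agent.Lib.MaxSub.SymEight.Chain

/-!
The normaliser of a frame of degree eight is maximal in `SL_8(p)`, `p ≡ 1 (mod 4)`.
-/

set_option autoImplicit false
set_option linter.unusedSectionVars false
set_option linter.style.haveILetI false

namespace CfsgLib.MaxSub.SymEight

open scoped MatrixGroups
open Cfsg.Geo Matrix

variable {ι : Type} [Fintype ι] [DecidableEq ι] {F : Type*} [Field F]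

local notation "Mι" => Matrix ι ι F
local notation "π" => QuotientGroup.mk' (scalars ι F)

theorem scalars_normal : (scalars ι F).Normal :=
  ⟨fun z hz g => by rw [← CfsgLib.Aschbacher.scalars_commute hz g, mul_assoc, mul_inv_cancel, mul_one]; exact hz⟩

theorem scalars_le_normalizer (R : Subgroup (GL ι F)) : scalars ι F ≤ subgroupNormalizer R := fun z hz => by
  rw [subgroupNormalizer, Subgroup.mem_normalizer_iff]
  intro y
  rw [CfsgLib.Aschbacher.scalars_commute hz y, mul_assoc, mul_inv_cancel, mul_one]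

attribute [local instance] scalars_normal

theorem proj_eq_iff {a b : GL ι F} :
    π a = π b ↔ ∃ c : F, c ≠ 0 ∧ (a : Mι) = c • (b : Mι) := by
  rw [QuotientGroup.mk'_eq_mk']
  constructor
  · rintro ⟨z, hz, rfl⟩
    obtain ⟨c, hc⟩ := (mem_scalars_iff _).1 hz
    refine ⟨(c⁻¹ : Fˣ), Units.ne_zero _, ?_⟩
    rw [Units.val_mul, hc, Matrix.mul_smul, Matrix.mul_one, smul_smul, Units.inv_mul, one_smul]
  · rintro ⟨c, hc, e⟩
    refine ⟨a⁻¹ * b, (mem_scalars_iff _).2 ⟨(Units.mk0 c hc)⁻¹, ?_⟩, mul_inv_cancel_left a b⟩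
    have hb : (b : Mι) = c⁻¹ • (a : Mι) := by rw [e, smul_smul, inv_mul_cancel₀ hc, one_smul]
    rw [Units.val_mul, hb, Matrix.mul_smul, Units.inv_mul, Units.val_inv_eq_inv_val, Units.val_mk0]

theorem proj_comm {a b : GL ι F} (h : π a * π b = π b * π a) :
    ∃ c : F, c ≠ 0 ∧ (a : Mι) * (b : Mι) = c • ((b : Mι) * (a : Mι)) := by
  rw [← map_mul, ← map_mul] at h
  simpa only [Units.val_mul] using proj_eq_iff.1 h

theorem ns_of_proj_ne_one {a : GL ι F} (h : π a ≠ 1) : Ns (a : Mι) := fun c hc => h (by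
  rw [← map_one π, proj_eq_iff]
  rcases eq_or_ne c 0 with rfl | hc0
  · exfalso
    rw [zero_smul] at hc
    rcases isEmpty_or_nonempty ι with hι | hι
    · exact h (congrArg π (Units.ext (Subsingleton.elim _ _)) |>.trans (map_one π))
    · exact a.ne_zero hc
  · exact ⟨c, hc0, by rw [hc, Units.val_one]⟩)

variable [Fintype F] {R M : Subgroup (GL ι F)} {I : F}

theorem mem_of_proj_mem {g : GL ι F}
    (h : π g ∈ (subgroupNormalizer R).map π) : g ∈ subgroupNormalizer R := by
  obtain ⟨n, hn, hng⟩ := h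
  obtain ⟨z, hz, hzg⟩ := QuotientGroup.mk'_eq_mk' _ |>.1 hng
  exact hzg ▸ Subgroup.mul_mem _ hn (scalars_le_normalizer R hz)

set_option maxHeartbeats 1600000 in
theorem Over.le_normalizer (h : Over R M I) : M ≤ subgroupNormalizer R := by
  classical
  have hF := h.frame
  haveI := hF.nonempty
  haveI : Finite (GL ι F) := Finite.of_injective (fun g => (g : Mι)) fun _ _ => Units.ext
  have hRN : R ≤ subgroupNormalizer R := fun r hr => mem_normalizer_of_conj fun w hw =>
    R.mul_mem (R.mul_mem hr hw) (R.inv_mem hr)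
  -- representatives
  have hrep : ∀ r ∈ R, π r ≠ 1 → ∃ z ∈ R, (z : Mι) * (z : Mι) = 1 ∧ Ns (z : Mι) ∧ π r = π z := by
    intro r hr hr1
    obtain ⟨z, hz, c, hc, hzm, hzz⟩ := hF.exists_invol hr
    have e : π z = π r := proj_eq_iff.2 ⟨c, hc, hzm⟩
    exact ⟨z, hz, hzz, ns_of_proj_ne_one (e ▸ hr1), e.symm⟩
  obtain ⟨Γ, hΓ⟩ : ∃ S : Setup (M.map π) ((subgroupNormalizer R).map π) (R.map π), True := by
    refine ⟨⟨inferInstance, Subgroup.map_mono hRN, Subgroup.map_mono fun r hr => h.mem_of_mem hr, ?_, ?_, ?_, ?_⟩,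
      trivial⟩
    · rintro _ ⟨n, hn, rfl⟩ _ ⟨r, hr, rfl⟩
      exact ⟨n * r * n⁻¹, conj_mem hn hr, by rw [map_mul, map_mul, map_inv]⟩
    · rintro _ ⟨r, hr, rfl⟩
      rw [← map_mul, ← map_one π, proj_eq_iff]
      rcases hF.mat_sq hr with e | e
      · exact ⟨1, one_ne_zero, by rw [Units.val_mul, e, Units.val_one, one_smul]⟩
      · exact ⟨-1, neg_ne_zero.2 one_ne_zero, by rw [Units.val_mul, e, Units.val_one, neg_one_smul]⟩
    · rintro _ ⟨r, hr, rfl⟩ hr1 _ ⟨g, hg, rfl⟩ hgr
      obtain ⟨z, hz, hzz, hzns, e⟩ := hrep r hr hr1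
      rw [e] at hgr
      obtain ⟨c, hc, hgz⟩ := proj_comm hgr
      have hc2 : c * c = 1 := by
        have h2 : (g : Mι) * ((z : Mι) * (z : Mι)) = (c * c) • ((z : Mι) * (z : Mι) * (g : Mι)) := by
          rw [← mul_assoc, hgz, Matrix.smul_mul, mul_assoc, hgz, Matrix.mul_smul, smul_smul, ← mul_assoc]
        rw [hzz, Matrix.mul_one, Matrix.one_mul] at h2
        exact smul_left_injective F g.ne_zero (h2.symm.trans (one_smul F _).symm)
      refine Subgroup.mem_map_of_mem _ (h.centre hz hzz hzns hg ?_)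
      rcases mul_self_eq_one_iff.1 hc2 with rfl | rfl
      · exact Or.inl (by rw [hgz, one_smul])
      · exact Or.inr (by rw [hgz, neg_one_smul])
    · rintro _ ⟨r, hr, rfl⟩ hr1 _ ⟨g, hg, rfl⟩ hgr
      obtain ⟨z, hz, hzz, hzns, e⟩ := hrep r hr hr1
      rw [e, ← map_inv, ← map_mul, ← map_mul] at hgr
      exact Subgroup.mem_map_of_mem _ (h.weak hz hzz hzns hg (mem_of_proj_mem hgr))
  obtain ⟨z, x, hch⟩ := hF.exists_chain 3 (by rw [h.card8]; norm_num)
  have hzns : ∀ j, Ns (z j : Mι) := by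
    intro j c hc
    have e := hch.anti j
    rw [hc, Matrix.smul_mul, Matrix.mul_smul, Matrix.one_mul, Matrix.mul_one] at e
    have h0 : (2 : F) • (c • (x j : Mι)) = 0 := by rw [two_smul]; nth_rewrite 1 [e]; exact neg_add_cancel _
    rcases smul_eq_zero.1 h0 with h0 | h0
    · exact hF.two h0
    rcases smul_eq_zero.1 h0 with h0 | h0
    · exact (z j).ne_zero (by rw [hc, h0, zero_smul])
    · exact (x j).ne_zero h0
  obtain ⟨t, ht⟩ : ∃ t : Fin 3 → GL ι F, ∀ j, t j = hF.gate (hch.sqZ j) * x j := ⟨_, fun j => rfl⟩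
  have hk : (1 + I) / 2 ≠ 0 := left_ne_zero_of_mul (left_ne_zero_of_mul_eq_one hF.coeff)
  have htm : ∀ j, (t j : Mι) = ((1 + I) / 2) • ((1 + I • (z j : Mι)) * (x j : Mι)) := fun j => by
    rw [ht, Units.val_mul, hF.coe_gate, Matrix.smul_mul]
  have htN : ∀ j, t j ∈ subgroupNormalizer R := fun j => by
    rw [ht]; exact Subgroup.mul_mem _ (hF.gate_mem_normalizer (hch.memZ j) (hch.sqZ j)) (hRN (hch.memX j))
  have htM : ∀ j, t j ∈ M := fun j => by
    rw [ht]; exact M.mul_mem (h.gate_mem (hch.memZ j) (hch.sqZ j) (hzns j)) (h.mem_of_mem (hch.memX j))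
  have hxz : ∀ j, (x j : Mι) * (z j : Mι) = -((z j : Mι) * (x j : Mι)) := fun j => by rw [hch.anti j, neg_neg]
  have htt : ∀ j, (t j : Mι) * (t j : Mι) = I • (1 : Mι) := by
    intro j
    have e : (1 + I • (z j : Mι)) * (x j : Mι) * ((1 + I • (z j : Mι)) * (x j : Mι)) = (2 : F) • 1 := by
      have e1 : (x j : Mι) * ((1 + I • (z j : Mι)) * (x j : Mι)) = 1 - I • (z j : Mι) := by
        rw [← mul_assoc, mul_add, Matrix.mul_one, Matrix.mul_smul, hxz, add_mul, hch.sqX, Matrix.smul_mul,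
          neg_mul, mul_assoc, hch.sqX, Matrix.mul_one, smul_neg, sub_eq_add_neg]
      rw [mul_assoc, e1]
      simp only [add_mul, mul_sub, Matrix.one_mul, Matrix.mul_one, Matrix.smul_mul, Matrix.mul_smul,
        smul_smul, hF.I_sq, hch.sqZ, neg_one_smul, two_smul]
      abel
    rw [htm, Matrix.smul_mul, Matrix.mul_smul, e, smul_smul, smul_smul]
    congr 1
    have := hF.two
    field_simp
    linear_combination hF.I_sq
  have htc : ∀ i j, (t i : Mι) * (t j : Mι) = (t j : Mι) * (t i : Mι) := by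
    intro i j
    rcases eq_or_ne i j with rfl | hij
    · rfl
    have czz : Commute (1 + I • (z i : Mι)) (1 + I • (z j : Mι)) :=
      ((Commute.one_left _).add_left (((Commute.one_right _).add_right
        ((show Commute (z i : Mι) (z j : Mι) from hch.zz i j).smul_right I)).smul_left I))
    have czx : ∀ a b, a ≠ b → Commute (1 + I • (z a : Mι)) (x b : Mι) := fun a b hab =>
      (Commute.one_left _).add_left ((show Commute (z a : Mι) (x b : Mι) from hch.zx a b hab).smul_left I)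
    have hT : Commute ((1 + I • (z i : Mι)) * (x i : Mι)) ((1 + I • (z j : Mι)) * (x j : Mι)) :=
      (czz.mul_right (czx i j hij)).mul_left ((czx j i hij.symm).symm.mul_right (hch.xx i j))
    rw [htm, htm, Matrix.smul_mul, Matrix.mul_smul, Matrix.smul_mul, Matrix.mul_smul, hT.eq]
  have htx : ∀ i j, i ≠ j → (t i : Mι) * (x j : Mι) = (x j : Mι) * (t i : Mι) := by
    intro i j hij
    rw [htm, Matrix.smul_mul, Matrix.mul_smul]
    congr 1
    exact (((Commute.one_left _).add_left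
      ((show Commute (z i : Mι) (x j : Mι) from hch.zx i j hij).smul_left I)).mul_left (hch.xx i j)).eq
  have htz : ∀ i j, i ≠ j → (z i : Mι) * (t j : Mι) = (t j : Mι) * (z i : Mι) := by
    intro i j hij
    rw [htm, Matrix.smul_mul, Matrix.mul_smul]
    congr 1
    exact (((Commute.one_right _).add_right
      ((show Commute (z i : Mι) (z j : Mι) from hch.zz i j).smul_right I)).mul_right (hch.zx i j hij)).eq
  have hanti : ∀ j, (z j : Mι) * (t j : Mι) = -((t j : Mι) * (z j : Mι)) := by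
    intro j
    rw [htm, Matrix.smul_mul, Matrix.mul_smul, ← smul_neg]
    congr 1
    rw [← mul_assoc, mul_add, Matrix.mul_one, Matrix.mul_smul, hch.sqZ, mul_assoc, hxz, mul_neg, neg_neg,
      ← mul_assoc, add_mul (1 : Mι), Matrix.one_mul, Matrix.smul_mul, hch.sqZ]
  -- a central element of the quotient
  obtain ⟨s, hs⟩ : ∃ s : Fin 3 → GL ι F ⧸ scalars ι F, ∀ j, s j = π (t j) := ⟨_, fun j => rfl⟩
  -- the common centraliser
  have hbase : ∀ g ∈ M.map π, (∀ j, g * s j = s j * g) → g ∈ (subgroupNormalizer R).map π := by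
    rintro _ ⟨u, hu, rfl⟩ hcomm
    have hsign : ∀ j, (u : Mι) * (t j : Mι) = (t j : Mι) * (u : Mι) ∨
        (u : Mι) * (t j : Mι) = -((t j : Mι) * (u : Mι)) := by
      intro j
      obtain ⟨c, hc, e⟩ := proj_comm (a := u) (b := t j) (by rw [← hs]; exact hcomm j)
      have hc2 : c * c = 1 := by
        have h2 : (u : Mι) * ((t j : Mι) * (t j : Mι)) = (c * c) • ((t j : Mι) * (t j : Mι) * (u : Mι)) := by
          rw [← mul_assoc, e, Matrix.smul_mul, mul_assoc, e, Matrix.mul_smul, smul_smul, ← mul_assoc]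
        rw [htt, Matrix.mul_smul, Matrix.mul_one, Matrix.smul_mul, Matrix.one_mul, smul_smul] at h2
        have := smul_left_injective F u.ne_zero h2
        exact mul_right_cancel₀ hF.I_ne (this.symm.trans (one_mul I).symm)
      rcases mul_self_eq_one_iff.1 hc2 with rfl | rfl
      · exact Or.inl (by rw [e, one_smul])
      · exact Or.inr (by rw [e, neg_one_smul])
    -- correct the signs
    obtain ⟨v, hvM, hvR, hv⟩ : ∃ v ∈ M, (v ∈ subgroupNormalizer R → u ∈ subgroupNormalizer R) ∧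
        ∀ j, (v : Mι) * (t j : Mι) = (t j : Mι) * (v : Mι) := by
      have fix : ∀ (k : Fin 3) (w : GL ι F), w ∈ M →
          ((w : Mι) * (t k : Mι) = (t k : Mι) * (w : Mι) ∨ (w : Mι) * (t k : Mι) = -((t k : Mι) * (w : Mι))) →
          ∃ w' ∈ M, (w' ∈ subgroupNormalizer R → w ∈ subgroupNormalizer R) ∧
            (w' : Mι) * (t k : Mι) = (t k : Mι) * (w' : Mι) ∧
            ∀ i, i ≠ k → ((w : Mι) * (t i : Mι) = (t i : Mι) * (w : Mι) →
              (w' : Mι) * (t i : Mι) = (t i : Mι) * (w' : Mι)) ∧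
              ((w : Mι) * (t i : Mι) = -((t i : Mι) * (w : Mι)) →
              (w' : Mι) * (t i : Mι) = -((t i : Mι) * (w' : Mι))) := by
        intro k w hw hwk
        rcases hwk with e | e
        · exact ⟨w, hw, id, e, fun i _ => ⟨id, id⟩⟩
        · refine ⟨w * z k, M.mul_mem hw (h.mem_of_mem (hch.memZ k)), fun hn => ?_, ?_, fun i hi => ⟨?_, ?_⟩⟩
          · have := Subgroup.mul_mem _ hn (Subgroup.inv_mem _ (hRN (hch.memZ k)))
            rwa [mul_inv_cancel_right] at this
          · rw [Units.val_mul, mul_assoc, hanti, mul_neg, ← mul_assoc, e, neg_mul, neg_neg, mul_assoc]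
          · intro e'
            rw [Units.val_mul, mul_assoc, htz k i hi.symm, ← mul_assoc, e', mul_assoc]
          · intro e'
            rw [Units.val_mul, mul_assoc, htz k i hi.symm, ← mul_assoc, e', neg_mul, mul_assoc]
      obtain ⟨u₁, hu₁, hr₁, h10, h1⟩ := fix 0 u hu (hsign 0)
      obtain ⟨u₂, hu₂, hr₂, h21, h2⟩ := fix 1 u₁ hu₁ ((hsign 1).imp (h1 1 (by decide)).1 (h1 1 (by decide)).2)
      obtain ⟨u₃, hu₃, hr₃, h32, h3⟩ := fix 2 u₂ hu₂ (((hsign 2).imp (h1 2 (by decide)).1 (h1 2 (by decide)).2).imp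
        (h2 2 (by decide)).1 (h2 2 (by decide)).2)
      refine ⟨u₃, hu₃, fun hn => hr₁ (hr₂ (hr₃ hn)), fun j => ?_⟩
      fin_cases j
      · exact (h3 0 (by decide)).1 ((h2 0 (by decide)).1 h10)
      · exact (h3 1 (by decide)).1 h21
      · exact h32
    refine Subgroup.mem_map_of_mem _ (hvR ?_)
    -- the commutative centraliser
    obtain ⟨T, hT⟩ : ∃ T : GL ι F → Prop,
        ∀ w, T w ↔ ∀ j, (w : Mι) * (t j : Mι) = (t j : Mι) * (w : Mι) := ⟨_, fun _ => Iff.rfl⟩
    have habel : ∀ a b, T a → T b → a * b = b * a := fun a b ha hb => Units.ext (by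
      rw [Units.val_mul, Units.val_mul]
      refine hch.comm _ _ (fun j => ?_) fun j => ?_
      all_goals refine smul_right_injective Mι hk ?_
      · show ((1 + I) / 2) • _ = ((1 + I) / 2) • _
        rw [← Matrix.mul_smul, ← Matrix.smul_mul ((1 + I) / 2) ((1 + I • (z j : Mι)) * (x j : Mι)), ← htm]
        exact (hT a).1 ha j
      · show ((1 + I) / 2) • _ = ((1 + I) / 2) • _
        rw [← Matrix.mul_smul, ← Matrix.smul_mul ((1 + I) / 2) ((1 + I • (z j : Mι)) * (x j : Mι)), ← htm]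
        exact (hT b).1 hb j)
    have hTv : T v := (hT v).2 hv
    -- conjugation by an involution of the chain
    have hstep : ∀ a : GL ι F, a ∈ R → (a : Mι) * (a : Mι) = 1 → Ns (a : Mι) →
        (∀ j, (a : Mι) * (t j : Mι) = (t j : Mι) * (a : Mι) ∨ (a : Mι) * (t j : Mι) = -((t j : Mι) * (a : Mι))) →
        T (a * v * a) ∧ v * (a * v * a) ∈ subgroupNormalizer R := by
      intro a ha haa hans hat
      have haa' : a * a = 1 := Units.ext (by rw [Units.val_mul, haa, Units.val_one])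
      have hTa : T (a * v * a) := (hT _).2 fun j => by
        simp only [Units.val_mul]
        rcases hat j with e | e
        · rw [mul_assoc, e, ← mul_assoc, mul_assoc (a : Mι), hv j, ← mul_assoc, e]; simp only [mul_assoc]
        · rw [mul_assoc, e, mul_neg, ← mul_assoc, mul_assoc (a : Mι), hv j, ← mul_assoc, e, neg_mul, neg_mul,
            neg_neg]
          simp only [mul_assoc]
      refine ⟨hTa, h.centre ha haa hans (M.mul_mem hvM
        (M.mul_mem (M.mul_mem (h.mem_of_mem ha) hvM) (h.mem_of_mem ha))) (Or.inl ?_)⟩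
      rw [← Units.val_mul, ← Units.val_mul]
      congr 1
      calc v * (a * v * a) * a = v * (a * v) := by rw [mul_assoc, mul_assoc (a * v), haa', mul_one]
        _ = a * ((a * v * a) * v) := by simp only [← mul_assoc, haa', one_mul]
        _ = a * (v * (a * v * a)) := by rw [habel _ _ hTa hTv]
    have hz0 := hstep (z 0) (hch.memZ 0) (hch.sqZ 0) (hzns 0) fun j => by
      rcases eq_or_ne (0 : Fin 3) j with rfl | hj
      · exact Or.inr (hanti 0)
      · exact Or.inl (htz 0 j hj)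
    have hz1 := hstep (z 1) (hch.memZ 1) (hch.sqZ 1) (hzns 1) fun j => by
      rcases eq_or_ne (1 : Fin 3) j with rfl | hj
      · exact Or.inr (hanti 1)
      · exact Or.inl (htz 1 j hj)
    have hab : z 0 * z 1 = z 1 * z 0 := Units.ext (by rw [Units.val_mul, Units.val_mul, hch.zz])
    have h00 : z 0 * z 0 = 1 := Units.ext (by rw [Units.val_mul, hch.sqZ, Units.val_one])
    have hz01 := hstep (z 0 * z 1) (R.mul_mem (hch.memZ 0) (hch.memZ 1))
      (by rw [Units.val_mul, mul_assoc, ← mul_assoc (z 1 : Mι), hch.zz 1 0, mul_assoc (z 0 : Mι), hch.sqZ,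
        Matrix.mul_one, hch.sqZ])
      (by
        rw [Units.val_mul]
        exact hF.ns_mul (hch.memZ 0) (hch.memZ 1) (hch.memX 0) (hxz 0) (hch.zx 1 0 (by decide)).symm)
      fun j => by
        simp only [Units.val_mul]
        rcases eq_or_ne (0 : Fin 3) j with rfl | hj
        · right
          rw [mul_assoc, htz 1 0 (by decide), ← mul_assoc, hanti, neg_mul, mul_assoc]
        rcases eq_or_ne (1 : Fin 3) j with rfl | hj'
        · right
          rw [mul_assoc, hanti, mul_neg, ← mul_assoc, htz 0 1 hj, mul_assoc]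
        · left
          rw [mul_assoc, htz 1 j hj', ← mul_assoc, htz 0 j hj, mul_assoc]
    obtain ⟨a, hadef⟩ : ∃ a, a = z 0 := ⟨_, rfl⟩
    obtain ⟨A, hA⟩ : ∃ A, A = z 0 * v * z 0 := ⟨_, rfl⟩
    obtain ⟨B, hB⟩ : ∃ B, B = z 1 * v * z 1 := ⟨_, rfl⟩
    have hN0 : z 0 ∈ subgroupNormalizer R := hRN (hch.memZ 0)
    have hAN : v * A ∈ subgroupNormalizer R := hA ▸ hz0.2
    have hBN : v * B ∈ subgroupNormalizer R := hB ▸ hz1.2
    have hTA : T A := hA ▸ hz0.1
    have hTB : T B := hB ▸ hz1.1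
    have hABN : A * B ∈ subgroupNormalizer R := by
      have e : A * B = z 0 * (v * (z 0 * z 1 * v * (z 0 * z 1))) * z 0 := by
        rw [hA, hB]
        have e1 : z 1 * v * z 1 = z 0 * z 0 * (z 1 * v * z 1) * (z 0 * z 0) := by rw [h00, one_mul, mul_one]
        calc z 0 * v * z 0 * (z 1 * v * z 1)
            = z 0 * v * z 0 * (z 1 * v * z 1) * (z 0 * z 0) := by rw [h00, mul_one]
          _ = z 0 * (v * (z 0 * z 1 * v * (z 1 * z 0))) * z 0 := by simp only [mul_assoc]
          _ = _ := by rw [hab]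
      exact e ▸ Subgroup.mul_mem _ (Subgroup.mul_mem _ hN0 hz01.2) hN0
    have hvv : v * v ∈ subgroupNormalizer R := by
      have e : v * v = (v * A) * (v * B) * (A * B)⁻¹ := by
        rw [show (v * A) * (v * B) = (v * v) * (A * B) by
          rw [mul_assoc v A, ← mul_assoc A, habel A v hTA hTv]; simp only [mul_assoc], mul_inv_cancel_right]
      rw [e]
      exact Subgroup.mul_mem _ (Subgroup.mul_mem _ hAN hBN) (Subgroup.inv_mem _ hABN)
    refine h.weak (hch.memZ 0) (hch.sqZ 0) (hzns 0) hvM ?_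
    have hzi : (z 0)⁻¹ = z 0 := inv_eq_of_mul_eq_one_left h00
    have e : v * z 0 * v⁻¹ = v * v * (v * A)⁻¹ * z 0 := by
      have e1 : A⁻¹ = z 0 * v⁻¹ * z 0 := by rw [hA, _root_.mul_inv_rev, _root_.mul_inv_rev, hzi, mul_assoc]
      rw [habel v A hTv hTA, _root_.mul_inv_rev, e1]
      simp only [mul_assoc, mul_inv_cancel_left, h00, mul_one]
    rw [e]
    exact Subgroup.mul_mem _ (Subgroup.mul_mem _ hvv (Subgroup.inv_mem _ hAN)) hN0
  -- one step of the chain
  have step : ∀ (k : Fin 3) (E : Finset (Fin 3)), k ∉ E →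
      (∀ g ∈ M.map π, (∀ i ∈ insert k E, g * s i = s i * g) → g ∈ (subgroupNormalizer R).map π) →
      ∀ g ∈ M.map π, (∀ i ∈ E, g * s i = s i * g) → g ∈ (subgroupNormalizer R).map π := by
    intro k E hk' hnext g hg hgE
    have hst : ∀ i j, s i * s j = s j * s i := fun i j => by
      rw [hs, hs, ← map_mul, ← map_mul,
        show t i * t j = t j * t i from Units.ext (by rw [Units.val_mul, Units.val_mul, htc])]
    have hsq : ∀ i, s i * s i = 1 := fun i => by
      rw [hs, ← map_mul, ← map_one π, proj_eq_iff]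
      exact ⟨I, hF.I_ne, by rw [Units.val_mul, htt, Units.val_one]⟩
    have hconj : ∀ u ∈ R, ∃ c : F, c ≠ 0 ∧
        ((u * t k * u⁻¹ * (t k)⁻¹ : GL ι F) : Mι) = c • (1 : Mι) ∨
        c ≠ 0 ∧ ((u * t k * u⁻¹ * (t k)⁻¹ : GL ι F) : Mι) = c • (z k : Mι) := by
      intro u hu
      have hui : ∃ e : F, e ≠ 0 ∧ ((u⁻¹ : GL ι F) : Mι) = e • (u : Mι) := by
        rcases hF.sq u hu with e | e
        · exact ⟨1, one_ne_zero, by rw [inv_eq_of_mul_eq_one_left e, one_smul]⟩
        · exact ⟨-1, neg_ne_zero.2 one_ne_zero, by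
            rw [inv_eq_of_mul_eq_one_left (a := -u) (b := u) (by rw [neg_mul, e, neg_neg]), Units.val_neg,
              neg_one_smul]⟩
      obtain ⟨e₁, he₁, hue⟩ := hui
      obtain ⟨e₂, he₂, hxu⟩ : ∃ e₂ : F, e₂ ≠ 0 ∧
          (x k : Mι) * (u : Mι) * ((x k)⁻¹ : GL ι F) = e₂ • (u : Mι) := by
        rcases hF.mat_comm (hch.memX k) hu with e | e
        · exact ⟨1, one_ne_zero, by rw [e, mul_assoc, Units.mul_inv, Matrix.mul_one, one_smul]⟩
        · exact ⟨-1, neg_ne_zero.2 one_ne_zero, by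
            rw [e, neg_mul, mul_assoc, Units.mul_inv, Matrix.mul_one, neg_one_smul]⟩
      have hmain : ((u * t k * u⁻¹ * (t k)⁻¹ : GL ι F) : Mι) = (e₁ * e₂) • ((u : Mι) *
          ((hF.gate (hch.sqZ k) : Mι) * (u : Mι) * ((hF.gate (hch.sqZ k))⁻¹ : GL ι F))) := by
        calc ((u * t k * u⁻¹ * (t k)⁻¹ : GL ι F) : Mι)
            = (u : Mι) * ((hF.gate (hch.sqZ k) : Mι) * ((x k : Mι) * ((u⁻¹ : GL ι F) : Mι) *
                ((x k)⁻¹ : GL ι F)) * ((hF.gate (hch.sqZ k))⁻¹ : GL ι F)) := by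
              rw [ht, _root_.mul_inv_rev]; simp only [Units.val_mul, mul_assoc]
          _ = _ := by
              rw [hue, Matrix.mul_smul, Matrix.smul_mul, hxu]
              simp only [Matrix.mul_smul, Matrix.smul_mul, smul_smul]
      have huu : ∃ e : F, e ≠ 0 ∧ (u : Mι) * (u : Mι) = e • (1 : Mι) := by
        rcases hF.mat_sq hu with e | e
        · exact ⟨1, one_ne_zero, by rw [e, one_smul]⟩
        · exact ⟨-1, neg_ne_zero.2 one_ne_zero, by rw [e, neg_one_smul]⟩
      obtain ⟨e₃, he₃, huu⟩ := huu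
      rcases hF.mat_comm (hch.memZ k) hu with e | e
      · refine ⟨e₁ * e₂ * e₃, Or.inl ⟨mul_ne_zero (mul_ne_zero he₁ he₂) he₃, ?_⟩⟩
        rw [hmain, hF.gate_conj_comm (hch.sqZ k) e, huu, smul_smul]
      · refine ⟨-(e₁ * e₂ * I * e₃), Or.inr ⟨neg_ne_zero.2 (mul_ne_zero (mul_ne_zero (mul_ne_zero he₁ he₂) hF.I_ne) he₃), ?_⟩⟩
        rw [hmain, hF.gate_conj_anti (hch.sqZ k) e, Matrix.mul_smul, e, mul_neg, ← mul_assoc, huu,
          Matrix.smul_mul, Matrix.one_mul, smul_neg, smul_neg, smul_smul, smul_smul, neg_smul]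
    have hcz : ∀ u ∈ R, π u * s k * (π u)⁻¹ * (s k)⁻¹ = 1 ∨ π u * s k * (π u)⁻¹ * (s k)⁻¹ = π (z k) := by
      intro u hu
      rw [hs, ← map_inv, ← map_inv, ← map_mul, ← map_mul, ← map_mul, ← map_one π, proj_eq_iff, proj_eq_iff]
      rcases hconj u hu with ⟨c, h' | h'⟩
      · exact Or.inl ⟨c, h'.1, by rw [h'.2, Units.val_one]⟩
      · exact Or.inr ⟨c, h'.1, h'.2⟩
    have hxc : π (x k) * s k * (π (x k))⁻¹ * (s k)⁻¹ = π (z k) := by
      rw [hs, ← map_inv, ← map_inv, ← map_mul, ← map_mul, ← map_mul, proj_eq_iff]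
      refine ⟨-I, neg_ne_zero.2 hF.I_ne, ?_⟩
      have hxi : ((x k)⁻¹ : GL ι F) = x k :=
        inv_eq_of_mul_eq_one_left (Units.ext (by rw [Units.val_mul, hch.sqX, Units.val_one]))
      calc ((x k * t k * (x k)⁻¹ * (t k)⁻¹ : GL ι F) : Mι)
          = (x k : Mι) * ((hF.gate (hch.sqZ k) : Mι) * ((x k : Mι) * (((x k)⁻¹ : GL ι F) : Mι) *
              ((x k)⁻¹ : GL ι F)) * ((hF.gate (hch.sqZ k))⁻¹ : GL ι F)) := by
            rw [ht, _root_.mul_inv_rev]; simp only [Units.val_mul, mul_assoc]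
        _ = _ := by
            rw [Units.mul_inv, Matrix.one_mul, hxi, hF.gate_conj_anti (hch.sqZ k) (hch.anti k),
              Matrix.mul_smul, ← mul_assoc, hxz, neg_mul, mul_assoc, hch.sqX, Matrix.mul_one, smul_neg,
              neg_smul]
    have hzne : π (z k) ≠ 1 := fun e => by
      rw [← map_one π, proj_eq_iff] at e
      obtain ⟨c, -, hc⟩ := e
      exact hzns k c (by rw [hc, Units.val_one])
    refine Γ.centralizer_le (E₀ := s '' (E : Set (Fin 3))) (t := s k) (q := π (x k)) ?_ ?_ ?_ ?_ (hsq k) ?_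
      (Subgroup.mem_map_of_mem _ (hch.memX k)) ?_ (by rw [hxc]; exact hzne) ?_ ?_ g hg ?_
    · rintro _ ⟨i, -, rfl⟩
      exact ⟨hs i ▸ Subgroup.mem_map_of_mem _ (htM i), hs i ▸ Subgroup.mem_map_of_mem _ (htN i), hsq i, hst i k⟩
    · rintro _ ⟨i, -, rfl⟩ _ ⟨j, -, rfl⟩; exact hst i j
    · exact hs k ▸ Subgroup.mem_map_of_mem _ (htM k)
    · exact hs k ▸ Subgroup.mem_map_of_mem _ (htN k)
    · rintro ⟨u, hu, hue⟩
      have h1 : π u * π (x k) = π (x k) * π u := by
        rw [← map_mul, ← map_mul, proj_eq_iff]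
        rcases hF.mat_comm hu (hch.memX k) with e | e
        · exact ⟨1, one_ne_zero, by rw [Units.val_mul, e, Units.val_mul, one_smul]⟩
        · exact ⟨-1, neg_ne_zero.2 one_ne_zero, by rw [Units.val_mul, e, Units.val_mul, neg_one_smul]⟩
      rw [hue] at h1
      exact hzne (hxc.symm.trans (by rw [← h1, mul_inv_cancel_right, mul_inv_cancel]))
    · rintro _ ⟨i, hi, rfl⟩
      have hik : i ≠ k := fun e => hk' (e ▸ hi)
      rw [hs, ← map_mul, ← map_mul,
        show t i * x k = x k * t i from Units.ext (by rw [Units.val_mul, Units.val_mul, htx i k hik])]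
    · rintro _ ⟨u, hu, rfl⟩
      rw [hxc]; exact hcz u hu
    · intro w hw hwE hwk
      refine hnext w hw fun i hi => ?_
      rcases Finset.mem_insert.1 hi with rfl | hi
      · exact hwk
      · exact hwE _ ⟨i, hi, rfl⟩
    · rintro _ ⟨i, hi, rfl⟩; exact hgE i hi
  have h2 := step 2 {0, 1} (by decide) fun g hg hgE => hbase g hg fun j => hgE j (by fin_cases j <;> decide)
  have h1 := step 1 {0} (by decide) fun g hg hgE => h2 g hg fun i hi => hgE i (by
    fin_cases i <;> simp_all)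
  have h0 := step 0 ∅ (by decide) fun g hg hgE => h1 g hg fun i hi => hgE i (by
    fin_cases i <;> simp_all)
  exact fun g hg => mem_of_proj_mem (h0 (π g) (Subgroup.mem_map_of_mem _ hg) (fun i hi => absurd hi (by simp)))

/-- The normaliser of a frame of degree eight does not contain `SL_8`. -/
theorem Frame.not_sl_le (hR : Frame R I) (h8 : Fintype.card ι = 8) :
    ¬ specialLinear ι F ≤ subgroupNormalizer R := by
  intro hle
  haveI := hR.nonempty
  obtain ⟨q, hq, hqns⟩ := hR.exists_ns (by rw [h8]; norm_num)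
  obtain ⟨r, hr, c, hc, hrm, hrr⟩ := hR.exists_invol hq
  obtain ⟨x, hx, hxx, hrx⟩ := hR.exists_pair hr fun e he => hqns (c⁻¹ * e) (by
    rw [← smul_smul, ← he, hrm, smul_smul, inv_mul_cancel₀ hc, one_smul])
  obtain ⟨d, Φ, hd, -, h1, hB⟩ := hR.exists_blockFrame hr hx hrr hxx hrx
  obtain rfl : d = 4 := by omega
  obtain ⟨B, hBm⟩ : ∃ B : GL (Fin 4) F, (B : Matrix (Fin 4) (Fin 4) F) = Matrix.transvection 0 1 1 :=
    ⟨⟨Matrix.transvection 0 1 1, Matrix.transvection 0 1 (-1),
      by rw [Matrix.transvection_mul_transvection_same _ _ (by decide)]; simp,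
      by rw [Matrix.transvection_mul_transvection_same _ _ (by decide)]; simp⟩, rfl⟩
  have hB' : ((B⁻¹ : GL (Fin 4) F) : Matrix (Fin 4) (Fin 4) F) = Matrix.transvection 0 1 (-1) := by
    rw [inv_eq_of_mul_eq_one_right (a := B) (b := ⟨Matrix.transvection 0 1 (-1), Matrix.transvection 0 1 1,
      by rw [Matrix.transvection_mul_transvection_same _ _ (by decide)]; simp,
      by rw [Matrix.transvection_mul_transvection_same _ _ (by decide)]; simp⟩) (Units.ext (by
        rw [Units.val_mul, hBm]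
        show Matrix.transvection 0 1 1 * Matrix.transvection 0 1 (-1) = 1
        rw [Matrix.transvection_mul_transvection_same _ _ (by decide)]; simp))]
  obtain ⟨g, hg⟩ := (DecompMax.coordGL Φ).surjective (pairGL (1, B))
  have hgs : g ∈ specialLinear ι F := by
    rw [← DecompMax.coordGL_mem_sl Φ, hg, mem_sl, det_pairGL, Units.val_one, Matrix.det_one, one_mul, hBm,
      Matrix.det_transvection_of_ne _ _ (by decide)]
  obtain ⟨b, hb, e⟩ := hB.decomp (Subgroup.mem_map_of_mem (DecompMax.coordGL Φ).toMonoidHom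
    (conj_mem (hle hgs) hx))
  simp only [MulEquiv.coe_toMonoidHom, map_mul, map_inv, hg, Units.val_mul, coe_coordGL, h1,
    ← map_inv pairGL, Prod.inv_mk, inv_one, coe_pairGL, Units.val_one, bd_mul_od, od_mul_bd, Matrix.one_mul,
    Matrix.mul_one, hBm, hB'] at e
  have h2 := hR.two
  rcases e with e | e | e | e
  · exact b.ne_zero ((Matrix.fromBlocks_inj).1 e).1.symm
  · exact b.ne_zero ((Matrix.fromBlocks_inj).1 e).1.symm
  · have h01 := congrFun (congrFun ((od_inj e).1.trans (od_inj e).2.symm) 0) 1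
    simp [Matrix.transvection] at h01
    exact h2 (by linear_combination -h01)
  · obtain ⟨e1, e2⟩ := od_inj e
    rw [← e1] at e2
    have h00 := congrFun (congrFun e2 0) 0
    simp [Matrix.transvection] at h00
    exact h2 (by linear_combination h00)

/-- An overgroup of the special normaliser in `GL_8(p)` not containing `SL_8(p)`. -/
theorem Over.of_sl {p : ℕ} (hp : p.Prime) (hF : Fintype.card F = p) (hp4 : p % 4 = 1) (hR : Frame R I)
    (h8 : Fintype.card ι = 8) (hN : ∀ g ∈ subgroupNormalizer R, g ∈ specialLinear ι F → g ∈ M)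
    (hne : ¬ specialLinear ι F ≤ M) : Over R M I := by
  have hk : Fintype.card ι = 4 * 2 := by rw [h8]
  refine ⟨hR, h8, fun hy => hN _ (mem_normalizer_of_conj fun w hw => R.mul_mem (R.mul_mem hy hw) (R.inv_mem hy))
    (hR.le_sl hk hy), fun hy hyy hns => hN _ (hR.gate_mem_normalizer hy hyy)
      (mem_sl.2 (by rw [(hR.det_invol hy hyy hns hk).2, neg_one_sq])), fun {r x} hr hx hrr hxx hrx => ?_⟩
  obtain ⟨d, Φ, hd, h1, h2, hB⟩ := hR.exists_blockFrame hr hx hrr hxx hrx
  obtain rfl : d = 4 := by omega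
  refine ⟨Φ, h1, h2, hB, fun g hg hc => ?_⟩
  have hN' : ∀ g ∈ subgroupNormalizer (R.map (DecompMax.coordGL Φ).toMonoidHom),
      g ∈ specialLinear (Fin 4 ⊕ Fin 4) F → g ∈ M.map (DecompMax.coordGL Φ).toMonoidHom := by
    intro g hg hgd
    obtain ⟨a, rfl⟩ := (DecompMax.coordGL Φ).surjective g
    refine Subgroup.mem_map_of_mem _ (hN a (mem_normalizer_of_conj fun w hw => ?_)
      ((DecompMax.coordGL_mem_sl Φ a).1 hgd))
    obtain ⟨u, hu, hue⟩ := conj_mem hg (Subgroup.mem_map_of_mem (DecompMax.coordGL Φ).toMonoidHom hw)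
    rw [MulEquiv.coe_toMonoidHom, ← map_inv, ← map_mul, ← map_mul] at hue
    rwa [← (DecompMax.coordGL Φ).injective hue]
  obtain ⟨a, b, hge⟩ := exists_pairGL_of_comm hR.two hc
  have hmax := CfsgLib.MaxSub.SlFour.Sympl.sympType_maximal_four p (half (R.map (DecompMax.coordGL Φ).toMonoidHom))
    hp hF hp4 (hB.half_frame.toData (le_of_eq (Fintype.card_fin 4).symm) (m := 2) (by simp) hp hF hp4)
  rcases hB.proj_dichotomy hN' hmax with hle | hpair
  · refine absurd (fun g hg => ?_) hne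
    obtain ⟨a, ha, hae⟩ := hle ((DecompMax.coordGL_mem_sl Φ g).2 hg)
    rwa [← (DecompMax.coordGL Φ).injective hae]
  · obtain ⟨h1', h2'⟩ := hpair a b (hge ▸ hg)
    exact ⟨a, h1', b, h2', hge⟩

/-- The class-6 clause for `SL_8(p)`. -/
theorem sympType_maximal_eight {F : Type*} [Field F] [Fintype F] {p : ℕ} (hp : p.Prime)
    (hF : Fintype.card F = p) (hp4 : p % 4 = 1) {R : Subgroup (GL (Fin 8) F)}
    (hR : IsLinearSymplecticTypeData 2 R) :
    IsMaximalIn (specialLinear (Fin 8) F) (subgroupNormalizer R ⊓ specialLinear (Fin 8) F) := by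
  haveI : Fact p.Prime := ⟨hp⟩
  haveI : CharP F p := charP_of_card_eq_prime hF
  have h2 : (2 : F) ≠ 0 := CfsgLib.MaxSub.SymFour.Linear.two_ne hF hp4
  have h8 : ((Fintype.card (Fin 8) : ℕ) : F) ≠ 0 := by
    rw [Fintype.card_fin, show ((8 : ℕ) : F) = (2 : F) * 2 * 2 by norm_num]
    exact mul_ne_zero (mul_ne_zero h2 h2) h2
  obtain ⟨I, hI⟩ := Frame.of_data h8 h2 (by simp) hR
  refine ⟨lt_of_le_not_ge inf_le_right fun hle => hI.not_sl_le (Fintype.card_fin 8) fun g hg => (hle hg).1,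
    fun M hHM hMK => ?_⟩
  by_cases hne : specialLinear (Fin 8) F ≤ M
  · exact Or.inr (le_antisymm hMK hne)
  · have ho : Over R M I := Over.of_sl hp hF hp4 hI (Fintype.card_fin 8) (fun g hg hgd => hHM ⟨hg, hgd⟩) hne
    exact Or.inl (le_antisymm (le_inf ho.le_normalizer hMK) hHM)

end CfsgLib.MaxSub.SymEight
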