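import Cfsg.Agent.Lib.MaxSub.SymEight.Gate

/-!
An element normalising the special normaliser of a frame of degree four normalises the frame.
-/

set_option autoImplicit false
set_option linter.unusedSectionVars false
set_option linter.style.haveILetI false

namespace CfsgLib.MaxSub.SymEight

open scoped MatrixGroups
open Cfsg.Geo Matrix

variable {ι : Type} [Fintype ι] [DecidableEq ι] {F : Type*} [Field F]

local notation "Mι" => Matrix ι ι F

/-- Conjugation by `g` takes `X` to a multiple of `Y`. -/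
def Act (g : GL ι F) (X Y : Mι) : Prop :=
  ∃ c : F, c ≠ 0 ∧ (g : Mι) * X * ((g⁻¹ : GL ι F) : Mι) = c • Y

theorem Act.comp {g g' : GL ι F} {X Y Z : Mι} (h' : Act g' X Y) (h : Act g Y Z) : Act (g * g') X Z := by
  obtain ⟨c', hc', e'⟩ := h'
  obtain ⟨c, hc, e⟩ := h
  refine ⟨c' * c, mul_ne_zero hc' hc, ?_⟩
  calc ((g * g' : GL ι F) : Mι) * X * (((g * g')⁻¹ : GL ι F) : Mι)
      = (g : Mι) * ((g' : Mι) * X * ((g'⁻¹ : GL ι F) : Mι)) * ((g⁻¹ : GL ι F) : Mι) := by
        rw [_root_.mul_inv_rev, Units.val_mul, Units.val_mul]; simp only [mul_assoc]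
    _ = (c' * c) • Z := by rw [e', Matrix.mul_smul, Matrix.smul_mul, e, smul_smul]

theorem Act.inv {g : GL ι F} {X Y : Mι} (h : Act g X Y) : Act g⁻¹ Y X := by
  obtain ⟨c, hc, e⟩ := h
  refine ⟨c⁻¹, inv_ne_zero hc, ?_⟩
  have hY : Y = c⁻¹ • ((g : Mι) * X * ((g⁻¹ : GL ι F) : Mι)) := by
    rw [e, smul_smul, inv_mul_cancel₀ hc, one_smul]
  rw [inv_inv, hY, Matrix.mul_smul, Matrix.smul_mul]
  congr 1
  simp only [mul_assoc]
  rw [Units.inv_mul, Matrix.mul_one, ← mul_assoc, Units.inv_mul, Matrix.one_mul]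

theorem Act.left_smul {g : GL ι F} {X Y : Mι} {c : F} (hc : c ≠ 0) (h : Act g X Y) : Act g (c • X) Y := by
  obtain ⟨d, hd, e⟩ := h
  exact ⟨c * d, mul_ne_zero hc hd, by rw [Matrix.mul_smul, Matrix.smul_mul, e, smul_smul]⟩

theorem Act.right_smul {g : GL ι F} {X Y : Mι} {c : F} (hc : c ≠ 0) (h : Act g X (c • Y)) : Act g X Y := by
  obtain ⟨d, hd, e⟩ := h
  exact ⟨d * c, mul_ne_zero hd hc, by rw [e, smul_smul]⟩

/-- The image of a scalar is a scalar. -/
theorem Act.of_scalar {g : GL ι F} {X : Mι} {c : F} (hc : (g : Mι) = c • (1 : Mι)) : Act g X X := by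
  refine ⟨1, one_ne_zero, ?_⟩
  rw [hc, Matrix.smul_mul, Matrix.one_mul]
  calc c • X * ((g⁻¹ : GL ι F) : Mι) = X * ((g : Mι) * ((g⁻¹ : GL ι F) : Mι)) := by
        rw [hc, Matrix.smul_mul, Matrix.smul_mul, Matrix.one_mul, Matrix.mul_smul]
    _ = (1 : F) • X := by rw [Units.mul_inv, Matrix.mul_one, one_smul]

theorem Act.unique {g : GL ι F} {X Y Z : Mι} (h : Act g X Y) (h' : Act g X Z) : ∃ c : F, Y = c • Z := by
  obtain ⟨c, hc, e⟩ := h
  obtain ⟨d, -, e'⟩ := h'
  exact ⟨c⁻¹ * d, by rw [← smul_smul, ← e', e, smul_smul, inv_mul_cancel₀ hc, one_smul]⟩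

namespace Frame

variable {R : Subgroup (GL ι F)} {I : F} (hR : Frame R I)
include hR

theorem act_mem {e : GL ι F} (he : e ∈ R) {u : GL ι F} (hu : u ∈ R) : Act e (u : Mι) (u : Mι) := by
  rcases hR.mat_comm he hu with h | h
  · exact ⟨1, one_ne_zero, by rw [h, mul_assoc, Units.mul_inv, Matrix.mul_one, one_smul]⟩
  · exact ⟨-1, neg_ne_zero.2 one_ne_zero, by
      rw [h, neg_mul, mul_assoc, Units.mul_inv, Matrix.mul_one, neg_one_smul]⟩

theorem act_gate_comm {y : GL ι F} (hy : (y : Mι) * (y : Mι) = 1) {A : Mι}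
    (h : (y : Mι) * A = A * (y : Mι)) : Act (hR.gate hy) A A :=
  ⟨1, one_ne_zero, by rw [hR.gate_conj_comm hy h, one_smul]⟩

theorem act_gate_anti {y : GL ι F} (hy : (y : Mι) * (y : Mι) = 1) {A : Mι}
    (h : (y : Mι) * A = -(A * (y : Mι))) : Act (hR.gate hy) A ((y : Mι) * A) :=
  ⟨I, hR.I_ne, hR.gate_conj_anti hy h⟩

theorem act_gate_inv_anti {y : GL ι F} (hy : (y : Mι) * (y : Mι) = 1) {A : Mι}
    (h : (y : Mι) * A = -(A * (y : Mι))) : Act (hR.gate hy)⁻¹ A ((y : Mι) * A) := by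
  have h' : (y : Mι) * ((y : Mι) * A) = -((y : Mι) * A * (y : Mι)) := by
    nth_rewrite 1 [h]
    rw [mul_neg, ← mul_assoc]
  have := hR.act_gate_anti hy h'
  rw [← mul_assoc, hy, Matrix.one_mul] at this
  exact this.inv

theorem sq_act {b : GL ι F} (hb : b * b = 1 ∨ b * b = -1) (X : Mι) : Act (b * b) X X := by
  rcases hb with h | h
  · exact Act.of_scalar (c := 1) (by rw [h, Units.val_one, one_smul])
  · exact Act.of_scalar (c := -1) (by rw [h, Units.val_neg, Units.val_one, neg_one_smul])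

/-- The product of two gates has determinant one. -/
theorem gates_mem_sl (hι : Fintype.card ι = 4) {v w : GL ι F} (hv : v ∈ R) (hw : w ∈ R)
    (hvv : (v : Mι) * (v : Mι) = 1) (hww : (w : Mι) * (w : Mι) = 1) (hvns : Ns (v : Mι)) (hwns : Ns (w : Mι)) :
    hR.gate hvv * hR.gate hww ∈ specialLinear ι F := by
  have hk : Fintype.card ι = 4 * 1 := by rw [hι]
  rw [mem_sl, Units.val_mul, Matrix.det_mul, (hR.det_invol hv hvv hvns hk).2,
    (hR.det_invol hw hww hwns hk).2, pow_one, neg_mul_neg, one_mul]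

/-- An element normalising `N_G(R)` normalises `R`, when `G` contains `R` and the products of two gates. -/
theorem normalizer_of_normalizes [Finite F] (hι : Fintype.card ι = 4) {G : Subgroup (GL ι F)} (hGR : R ≤ G)
    (hGg : ∀ (v w : GL ι F), v ∈ R → w ∈ R → ∀ (hvv : (v : Mι) * (v : Mι) = 1) (hww : (w : Mι) * (w : Mι) = 1),
      Ns (v : Mι) → Ns (w : Mι) → hR.gate hvv * hR.gate hww ∈ G) {a : GL ι F}
    (hH : ∀ h ∈ subgroupNormalizer R, h ∈ G → a⁻¹ * h * a ∈ subgroupNormalizer R)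
    (hH' : ∀ h ∈ subgroupNormalizer R, h ∈ G → a * h * a⁻¹ ∈ subgroupNormalizer R) :
    a ∈ subgroupNormalizer R := by
  haveI := hR.nonempty
  have hk : Fintype.card ι = 4 * 1 := by rw [hι]
  refine mem_normalizer_of_conj fun q hq => ?_
  obtain ⟨A, hAdef⟩ : ∃ A, A = a * q * a⁻¹ := ⟨_, rfl⟩
  rw [← hAdef]
  have hAN : A ∈ subgroupNormalizer R :=
    hAdef ▸ hH' q (mem_normalizer_of_conj fun y hy => R.mul_mem (R.mul_mem hq hy) (R.inv_mem hq))
      (hGR hq)
  -- the conjugate group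
  obtain ⟨𝒜, h𝒜⟩ : ∃ 𝒜 : Subgroup (GL ι F), 𝒜 = R.map (MulAut.conj a).toMonoidHom := ⟨_, rfl⟩
  have hsq : ∀ X ∈ 𝒜, X * X = 1 ∨ X * X = -1 := by
    rw [h𝒜]
    rintro _ ⟨u, hu, rfl⟩
    have e : MulAut.conj a u * MulAut.conj a u = a * (u * u) * a⁻¹ := by
      rw [MulAut.conj_apply]; group
    rcases hR.sq u hu with h | h
    · left
      show MulAut.conj a u * MulAut.conj a u = 1
      rw [e, h, mul_one, mul_inv_cancel]
    · right
      show MulAut.conj a u * MulAut.conj a u = -1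
      rw [e, h, mul_neg_one, neg_mul, mul_inv_cancel]
  have hinv : ∀ h ∈ subgroupNormalizer R, h ∈ G → ∀ X ∈ 𝒜, h * X * h⁻¹ ∈ 𝒜 := by
    intro h hh hd
    rw [h𝒜]
    rintro _ ⟨u, hu, rfl⟩
    refine ⟨(a⁻¹ * h * a) * u * (a⁻¹ * h * a)⁻¹, conj_mem (hH h hh hd) hu, ?_⟩
    simp only [MulEquiv.coe_toMonoidHom, MulAut.conj_apply]
    group
  have hAmem : A ∈ 𝒜 := h𝒜 ▸ hAdef ▸ ⟨q, hq, by simp⟩
  -- a dichotomy for each involution
  have hfix : ∀ v ∈ R, A * v * A⁻¹ = v ∨ A * v * A⁻¹ = -v := by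
    by_contra hcon
    push Not at hcon
    obtain ⟨v₀, hv₀, hv₀1, hv₀2⟩ := hcon
    obtain ⟨v, hv, c, hc, hvm, hvv⟩ := hR.exists_invol hv₀
    obtain ⟨v', hv'def⟩ : ∃ v', v' = A * v * A⁻¹ := ⟨_, rfl⟩
    have hv' : v' ∈ R := hv'def ▸ conj_mem hAN hv
    have hv'v' : (v' : Mι) * (v' : Mι) = 1 := by
      rw [← Units.val_mul, hv'def, show A * v * A⁻¹ * (A * v * A⁻¹) = A * (v * v) * A⁻¹ by group,
        Units.val_mul, Units.val_mul, Units.val_mul, hvv, Matrix.mul_one, Units.mul_inv]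
    have hns : Ns ((v : Mι) * (v' : Mι)) := by
      intro d hd
      have e1 : (v' : Mι) = d • (v : Mι) := by
        calc (v' : Mι) = (v : Mι) * ((v : Mι) * (v' : Mι)) := by rw [← mul_assoc, hvv, Matrix.one_mul]
          _ = d • (v : Mι) := by rw [hd, Matrix.mul_smul, Matrix.mul_one]
      have hdd : d * d = 1 := by
        have := hv'v'
        rw [e1, Matrix.smul_mul, Matrix.mul_smul, smul_smul, hvv] at this
        exact smul_left_injective F (one_ne_zero (α := Mι)) (this.trans (one_smul F _).symm)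
      have e2 : (A : Mι) * (v₀ : Mι) * ((A⁻¹ : GL ι F) : Mι) = d • (v₀ : Mι) := by
        have e3 := e1
        rw [hv'def, Units.val_mul, Units.val_mul, hvm, Matrix.mul_smul, Matrix.smul_mul, smul_smul,
          mul_comm d c, ← smul_smul] at e3
        exact smul_right_injective Mι hc e3
      rcases mul_self_eq_one_iff.1 hdd with rfl | rfl
      · exact hv₀1 (Units.ext (by rw [Units.val_mul, Units.val_mul, e2, one_smul]))
      · exact hv₀2 (Units.ext (by rw [Units.val_mul, Units.val_mul, e2, neg_one_smul, Units.val_neg]))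
    have hvns : Ns (v : Mι) := by
      intro d hd
      refine hns (d * d) ?_
      simp [hv'def, hd, smul_smul]
    have hAA : A * A = 1 ∨ A * A = -1 := hsq A hAmem
    have hAv' : A * v' * A⁻¹ = v := by
      rw [hv'def, show A * (A * v * A⁻¹) * A⁻¹ = (A * A) * v * (A * A)⁻¹ by group]
      rcases hAA with h | h <;> rw [h] <;> simp
    obtain ⟨w, hw, d, hd, hwm, hww⟩ := hR.exists_invol (R.mul_mem hv hv')
    rw [Units.val_mul] at hwm
    have hwns : Ns (w : Mι) := fun e he => hns (d⁻¹ * e) (by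
      rw [← smul_smul, ← he, hwm, smul_smul, inv_mul_cancel₀ hd, one_smul])
    obtain ⟨gv, hgv⟩ : ∃ g, g = hR.gate hvv := ⟨_, rfl⟩
    obtain ⟨gv', hgv'⟩ : ∃ g, g = hR.gate hv'v' := ⟨_, rfl⟩
    obtain ⟨gw, hgw⟩ : ∃ g, g = hR.gate hww := ⟨_, rfl⟩
    have hh : gv * gw ∈ subgroupNormalizer R :=
      Subgroup.mul_mem _ (hgv ▸ hR.gate_mem_normalizer hv hvv) (hgw ▸ hR.gate_mem_normalizer hw hww)
    have hhd : gv * gw ∈ G := hgv ▸ hgw ▸ hGg v w hv hw hvv hww hvns hwns
    have hAgv : A * gv * A⁻¹ = gv' := Units.ext (by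
      rw [Units.val_mul, Units.val_mul, hgv, hgv', hR.coe_gate, hR.coe_gate, Matrix.mul_smul, Matrix.smul_mul,
        mul_add, add_mul, Matrix.mul_one, Units.mul_inv, Matrix.mul_smul, Matrix.smul_mul, hv'def,
        Units.val_mul, Units.val_mul])
    obtain ⟨e, hedef⟩ : ∃ e, e = A * gw * A⁻¹ * gw⁻¹ := ⟨_, rfl⟩
    have he : e ∈ R := by
      have hA1 : A * (v * v') * A⁻¹ = v' * v := by
        calc A * (v * v') * A⁻¹ = (A * v * A⁻¹) * (A * v' * A⁻¹) := by group
          _ = v' * v := by rw [← hv'def, hAv']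
      have hAw : (A : Mι) * (w : Mι) * ((A⁻¹ : GL ι F) : Mι) = (w : Mι) ∨
          (A : Mι) * (w : Mι) * ((A⁻¹ : GL ι F) : Mι) = -(w : Mι) := by
        have e1 : (A : Mι) * ((v : Mι) * (v' : Mι)) * ((A⁻¹ : GL ι F) : Mι) = (v' : Mι) * (v : Mι) := by
          simpa only [Units.val_mul] using congrArg Units.val hA1
        rw [hwm, Matrix.mul_smul, Matrix.smul_mul, e1]
        rcases hR.mat_comm hv' hv with h | h
        · exact Or.inl (by rw [h])
        · exact Or.inr (by rw [h, smul_neg])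
      rcases hAw with h | h
      · rw [hedef, show A * gw * A⁻¹ = gw from Units.ext (by
          rw [Units.val_mul, Units.val_mul, hgw, hR.coe_gate, Matrix.mul_smul, Matrix.smul_mul, mul_add,
            add_mul, Matrix.mul_one, Units.mul_inv, Matrix.mul_smul, Matrix.smul_mul, h]), mul_inv_cancel]
        exact R.one_mem
      · obtain ⟨z, hz, hzm⟩ := hR.smulI_mem hw
        suffices e = -z from this ▸ hR.neg_mem hz
        refine Units.ext ?_
        have e1 : (1 - I • (w : Mι)) * (1 - I • (w : Mι)) = (-2 * I) • (w : Mι) := by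
          rw [sub_mul, mul_sub, Matrix.one_mul, Matrix.one_mul, Matrix.smul_mul, mul_sub, Matrix.mul_one,
            Matrix.mul_smul, smul_sub, smul_smul, hR.I_sq, hww, neg_one_smul,
            show (-2 * I) • (w : Mι) = -(I • (w : Mι)) - I • (w : Mι) by
              rw [← neg_smul, ← sub_smul]; ring_nf]
          abel
        have eA : (A : Mι) * (gw : Mι) * ((A⁻¹ : GL ι F) : Mι) = ((1 + I) / 2) • (1 - I • (w : Mι)) := by
          rw [hgw, hR.coe_gate, Matrix.mul_smul, Matrix.smul_mul, mul_add, add_mul, Matrix.mul_one,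
            Units.mul_inv, Matrix.mul_smul, Matrix.smul_mul, h, smul_neg, ← sub_eq_add_neg]
        rw [hedef, Units.val_mul, Units.val_mul, Units.val_mul, eA, hgw, hR.coe_gate_inv,
          Matrix.smul_mul, Matrix.mul_smul, e1, smul_smul, smul_smul, Units.val_neg, hzm, ← neg_smul]
        congr 1
        linear_combination (-I) * hR.coeff
    obtain ⟨b, hbdef⟩ : ∃ b, b = gv' * e * gv⁻¹ := ⟨_, rfl⟩
    have hb : b ∈ 𝒜 := by
      have e1 : b = A * ((gv * gw) * A⁻¹ * (gv * gw)⁻¹) := by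
        rw [hbdef, ← hAgv, hedef]; group
      exact e1 ▸ 𝒜.mul_mem hAmem (hinv _ hh hhd _ (𝒜.inv_mem hAmem))
    rcases hR.mat_comm hv hv' with hc' | hc'
    · -- commuting images
      have hv'ns : Ns (v' : Mι) := fun d' hd' => hvns d' (by
        rw [← hAv', Units.val_mul, Units.val_mul, hd', Matrix.mul_smul, Matrix.smul_mul, Matrix.mul_one,
          Units.mul_inv])
      obtain ⟨u₀, hu₀, hu₀v, hu₀v'⟩ := hR.exists_sign hv hv' hv'ns hns
      obtain ⟨x, hx, dx, hdx, hxm, hxx⟩ := hR.exists_invol (R.mul_mem hv' hu₀)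
      rw [Units.val_mul] at hxm
      obtain ⟨gx, hgx⟩ : ∃ g, g = hR.gate hxx := ⟨_, rfl⟩
      have hxv : (v : Mι) * (x : Mι) = (x : Mι) * (v : Mι) := by
        rw [hxm, Matrix.mul_smul, Matrix.smul_mul, ← mul_assoc, hc', mul_assoc, ← hu₀v, mul_assoc]
      have hxv' : (x : Mι) * (v' : Mι) = -((v' : Mι) * (x : Mι)) := by
        rw [hxm, Matrix.mul_smul, Matrix.smul_mul, mul_assoc, hu₀v', mul_neg, smul_neg]
      have hxns : Ns (x : Mι) := by
        intro d' hd'
        rw [hd', Matrix.smul_mul, Matrix.mul_smul, Matrix.one_mul, Matrix.mul_one] at hxv'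
        have : (2 : F) • (d' • (v' : Mι)) = 0 := by
          rw [two_smul]; nth_rewrite 1 [hxv']; exact neg_add_cancel _
        rcases smul_eq_zero.1 this with h | h
        · exact hR.two h
        rcases smul_eq_zero.1 h with h | h
        · exact x.ne_zero (by rw [hd', h, zero_smul])
        · exact v'.ne_zero h
      have hh' : gx * gv ∈ subgroupNormalizer R :=
        Subgroup.mul_mem _ (hgx ▸ hR.gate_mem_normalizer hx hxx) (hgv ▸ hR.gate_mem_normalizer hv hvv)
      have hhd' : gx * gv ∈ G := hgx ▸ hgv ▸ hGg x v hx hv hxx hvv hxns hvns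
      obtain ⟨b', hb'def⟩ : ∃ b', b' = (gx * gv) * b * (gx * gv)⁻¹ := ⟨_, rfl⟩
      have hb' : b' ∈ 𝒜 := hb'def ▸ hinv _ hh' hhd' b hb
      -- images
      have hv'u : (v' : Mι) * ((v' : Mι) * (u₀ : Mι)) = (u₀ : Mι) := by
        rw [← mul_assoc, hv'v', Matrix.one_mul]
      have bu : Act b (u₀ : Mι) ((v' : Mι) * (u₀ : Mι)) := by
        rw [hbdef, hgv, hgv']
        exact ((hR.act_gate_comm hvv hu₀v.symm).inv.comp ((hR.act_mem he hu₀).comp
          (hR.act_gate_anti hv'v' (by rw [hu₀v', neg_neg]))))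
      have bv' : Act b (v' : Mι) (v' : Mι) := by
        rw [hbdef, hgv, hgv']
        exact ((hR.act_gate_comm hvv hc').inv.comp ((hR.act_mem he hv').comp (hR.act_gate_comm hv'v' rfl)))
      have bvu : Act b ((v' : Mι) * (u₀ : Mι)) (u₀ : Mι) := by
        rw [hbdef, hgv, hgv', ← Units.val_mul]
        refine (hR.act_gate_comm hvv ?_).inv.comp ((hR.act_mem he (R.mul_mem hv' hu₀)).comp ?_)
        · rw [Units.val_mul, ← mul_assoc, hc', mul_assoc, ← hu₀v, mul_assoc]
        · have := hR.act_gate_anti hv'v' (A := (v' : Mι) * (u₀ : Mι))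
            (by rw [mul_assoc _ (u₀ : Mι), hu₀v', mul_neg, neg_neg])
          rw [hv'u] at this
          rwa [Units.val_mul]
      have hxu : (x : Mι) * (u₀ : Mι) = -((u₀ : Mι) * (x : Mι)) := by
        rw [hxm, Matrix.mul_smul, Matrix.smul_mul, ← mul_assoc (u₀ : Mι), hu₀v', neg_mul, smul_neg, neg_neg]
      have xv' : (x : Mι) * (v' : Mι) = (-dx) • (u₀ : Mι) := by
        rw [hxm, Matrix.smul_mul, mul_assoc, hu₀v', mul_neg, hv'u, smul_neg, neg_smul]
      have gxv' : Act gx (v' : Mι) (u₀ : Mι) := by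
        have h1 := hR.act_gate_anti hxx hxv'
        rw [xv'] at h1
        exact hgx ▸ Act.right_smul (neg_ne_zero.2 hdx) h1
      have gxv'i : Act gx⁻¹ (v' : Mι) (u₀ : Mι) := by
        have h1 := hR.act_gate_inv_anti hxx hxv'
        rw [xv'] at h1
        exact hgx ▸ Act.right_smul (neg_ne_zero.2 hdx) h1
      have gxvu : Act gx ((v' : Mι) * (u₀ : Mι)) ((v' : Mι) * (u₀ : Mι)) := by
        rw [hgx]
        refine hR.act_gate_comm hxx ?_
        rw [hxm, Matrix.smul_mul, Matrix.mul_smul]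
      have gxui : Act gx⁻¹ (u₀ : Mι) (v' : Mι) := gxv'.inv
      have hvvu : (v : Mι) * ((v' : Mι) * (u₀ : Mι)) = (v' : Mι) * (u₀ : Mι) * (v : Mι) := by
        rw [← mul_assoc, hc', mul_assoc, ← hu₀v, mul_assoc]
      have gvu : Act gv (u₀ : Mι) (u₀ : Mι) := hgv ▸ hR.act_gate_comm hvv hu₀v.symm
      have gvv' : Act gv (v' : Mι) (v' : Mι) := hgv ▸ hR.act_gate_comm hvv hc'
      have gvvu : Act gv ((v' : Mι) * (u₀ : Mι)) ((v' : Mι) * (u₀ : Mι)) :=
        hgv ▸ hR.act_gate_comm hvv hvvu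
      have b'v' : Act b' (v' : Mι) ((v' : Mι) * (u₀ : Mι)) := by
        rw [hb'def, _root_.mul_inv_rev]
        exact (gxv'i.comp gvu.inv).comp (bu.comp (gvvu.comp gxvu))
      have b'u : Act b' (u₀ : Mι) (u₀ : Mι) := by
        rw [hb'def, _root_.mul_inv_rev]
        exact (gxui.comp gvv'.inv).comp (bv'.comp (gvv'.comp gxv'))
      have c1 : Act (b * b') (v' : Mι) (u₀ : Mι) := b'v'.comp bvu
      have c2 : Act (b * b') (u₀ : Mι) ((v' : Mι) * (u₀ : Mι)) := b'u.comp bu
      obtain ⟨c', e1⟩ := (c1.comp c2).unique (sq_act hR (hsq _ (𝒜.mul_mem hb hb')) (v' : Mι))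
      have hu₀s : (u₀ : Mι) = c' • (1 : Mι) := by
        rw [← hv'u, e1, Matrix.mul_smul, hv'v']
      rw [hu₀s, Matrix.smul_mul, Matrix.mul_smul, Matrix.one_mul, Matrix.mul_one] at hu₀v'
      have h0 : (2 : F) • (c' • (v' : Mι)) = 0 := by
        rw [two_smul]; nth_rewrite 1 [hu₀v']; exact neg_add_cancel _
      rcases smul_eq_zero.1 h0 with h | h
      · exact hR.two h
      rcases smul_eq_zero.1 h with h | h
      · exact u₀.ne_zero (by rw [hu₀s, h, zero_smul])
      · exact v'.ne_zero h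
    · -- anticommuting images
      have b1 : Act b (v : Mι) ((v' : Mι) * (v : Mι)) := by
        rw [hbdef, hgv, hgv']
        exact ((hR.act_gate_comm hvv rfl).inv.comp ((hR.act_mem he hv).comp
          (hR.act_gate_anti hv'v' (by rw [hc', neg_neg]))))
      have b2 : Act b ((v' : Mι) * (v : Mι)) (v' : Mι) := by
        rw [hbdef, hgv, hgv']
        have h1 := hR.act_gate_inv_anti hvv (A := (v' : Mι) * (v : Mι))
          (by rw [← mul_assoc, hc', neg_mul, mul_assoc, hvv])
        rw [← mul_assoc, hc', neg_mul, mul_assoc, hvv, Matrix.mul_one, ← neg_one_smul F (v' : Mι)] at h1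
        exact ((Act.right_smul (neg_ne_zero.2 one_ne_zero) h1).comp ((hR.act_mem he hv').comp
          (hR.act_gate_comm hv'v' rfl)))
      obtain ⟨c', e1⟩ := (b1.comp b2).unique (sq_act hR (hsq b hb) (v : Mι))
      refine hns c' ?_
      rw [e1, Matrix.mul_smul, hvv]
  obtain ⟨p, hp, l, hl, hAm⟩ := hR.eq_smul_of_sign (A := (A : Mι)) A.ne_zero fun v hv => by
    rcases hfix v hv with h | h <;>
      have e := congrArg (fun g : GL ι F => (g : Mι) * (A : Mι)) h <;>
      simp only [Units.val_mul, Units.val_neg, mul_assoc, Units.inv_mul, Matrix.mul_one] at e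
    · exact Or.inl e
    · exact Or.inr (by rw [e, neg_mul])
  have hl4 : l = 1 ∨ l = -1 ∨ l = I ∨ l = -I := by
    have hll : l * l = 1 ∨ l * l = -1 := by
      have key : ∀ s t : F, ((A : Mι) * (A : Mι) = t • 1) → (p : Mι) * (p : Mι) = s • 1 → l * l * s = t := by
        intro s t h1 h2
        rw [hAm, Matrix.smul_mul, Matrix.mul_smul, smul_smul, h2, smul_smul] at h1
        exact smul_left_injective F (one_ne_zero (α := Mι)) h1
      have hA2 : ((A : Mι) * (A : Mι) = (1 : F) • 1) ∨ ((A : Mι) * (A : Mι) = (-1 : F) • 1) := by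
        rcases hsq A hAmem with h | h
        · exact Or.inl (by rw [← Units.val_mul, h, Units.val_one, one_smul])
        · exact Or.inr (by rw [← Units.val_mul, h, Units.val_neg, Units.val_one, neg_one_smul])
      have hp2 : ((p : Mι) * (p : Mι) = (1 : F) • 1) ∨ ((p : Mι) * (p : Mι) = (-1 : F) • 1) := by
        rcases hR.mat_sq hp with h | h
        · exact Or.inl (by rw [h, one_smul])
        · exact Or.inr (by rw [h, neg_one_smul])
      rcases hA2 with h | h <;> rcases hp2 with h' | h' <;> have e := key _ _ h h'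
      · exact Or.inl (by linear_combination e)
      · exact Or.inr (by linear_combination -e)
      · exact Or.inr (by linear_combination e)
      · exact Or.inl (by linear_combination -e)
    rcases hll with h | h
    · rcases mul_self_eq_one_iff.1 h with h1 | h1
      · exact Or.inl h1
      · exact Or.inr (Or.inl h1)
    · have h0 : (l - I) * (l + I) = 0 := by linear_combination h - hR.I_sq
      rcases mul_eq_zero.1 h0 with h1 | h1
      · exact Or.inr (Or.inr (Or.inl (sub_eq_zero.1 h1)))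
      · exact Or.inr (Or.inr (Or.inr (eq_neg_of_add_eq_zero_left h1)))
  obtain ⟨z, hz, hzm⟩ := hR.smulI_mem hp
  rcases hl4 with rfl | rfl | rfl | rfl
  · rwa [show A = p from Units.ext (by rw [hAm, one_smul])]
  · rw [show A = -p from Units.ext (by rw [hAm, neg_one_smul, Units.val_neg])]; exact hR.neg_mem hp
  · rwa [show A = z from Units.ext (by rw [hAm, hzm])]
  · rw [show A = -z from Units.ext (by rw [hAm, neg_smul, Units.val_neg, hzm])]; exact hR.neg_mem hz

end Frame

end CfsgLib.MaxSub.SymEight
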