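import Cfsg.Agent.Lib.MaxSub.SymEight.Normal
import Cfsg.Agent.Lib.MaxSub.Transvection
import Cfsg.Agent.Lib.Classical.SLGen

/-!
An overgroup of the normaliser of a frame of degree eight either contains `SL_8` or has its block diagonal
elements made of normalising elements of degree four.
-/

set_option autoImplicit false
set_option linter.unusedSectionVars false
set_option linter.style.haveILetI false

namespace CfsgLib.MaxSub.SymEight

open scoped MatrixGroups commutatorElement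
open Cfsg.Geo Matrix

variable {F : Type*} [Field F]

local notation "κ" => Fin 4
local notation "M4" => Matrix (Fin 4) (Fin 4) F
local notation "M8" => Matrix (Fin 4 ⊕ Fin 4) (Fin 4 ⊕ Fin 4) F

/-- The vector with the given first part. -/
def vl (u : Fin 4 → F) : Fin 4 ⊕ Fin 4 → F := Sum.elim u 0

/-- The vector with the given second part. -/
def vr (u : Fin 4 → F) : Fin 4 ⊕ Fin 4 → F := Sum.elim 0 u

theorem vl_dot_vl (u v : κ → F) : vl u ⬝ᵥ vl v = u ⬝ᵥ v := by
  simp [vl, dotProduct, Fintype.sum_sum_type]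

theorem vr_dot_vr (u v : κ → F) : vr u ⬝ᵥ vr v = u ⬝ᵥ v := by
  simp [vr, dotProduct, Fintype.sum_sum_type]

theorem vl_dot_vr (u v : κ → F) : vl u ⬝ᵥ vr v = 0 := by
  simp [vl, vr, dotProduct, Fintype.sum_sum_type]

theorem vr_dot_vl (u v : κ → F) : vr u ⬝ᵥ vl v = 0 := by
  simp [vl, vr, dotProduct, Fintype.sum_sum_type]

theorem tvMat_vl (u α : κ → F) : tvMat (vl u) (vl α) = bd (tvMat u α) 1 := by
  ext (i | i) (j | j) <;> simp [tvMat, vl, bd, vecMulVec_apply, Matrix.one_apply]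

theorem tvMat_vr (u α : κ → F) : tvMat (vr u) (vr α) = bd 1 (tvMat u α) := by
  ext (i | i) (j | j) <;> simp [tvMat, vr, bd, vecMulVec_apply, Matrix.one_apply]

theorem single_inl (i : κ) (c : F) :
    (Pi.single (Sum.inl i) c : Fin 4 ⊕ Fin 4 → F) = vl (Pi.single i c) := by
  funext j; rcases j with j | j <;> simp [vl, Pi.single_apply]

theorem single_inr (i : κ) (c : F) :
    (Pi.single (Sum.inr i) c : Fin 4 ⊕ Fin 4 → F) = vr (Pi.single i c) := by
  funext j; rcases j with j | j <;> simp [vr, Pi.single_apply]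

theorem od_mulVec_vl (u : κ → F) : (od (1 : M4) 1) *ᵥ vl u = vr u := by
  rw [vl, od, Matrix.fromBlocks_mulVec]
  funext j
  rcases j with j | j <;> simp [vr]

theorem vecMul_od_vr (u : κ → F) : vr u ᵥ* (od (1 : M4) 1) = vl u := by
  rw [vr, od, Matrix.vecMul_fromBlocks]
  funext j
  rcases j with j | j <;> simp [vl]

/-- Filling from both block subgroups and a mixing gate. -/
theorem sl_le_of_blocks {M : Subgroup (GL (Fin 4 ⊕ Fin 4) F)} {G : GL (Fin 4 ⊕ Fin 4) F} {c c' d : F}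
    (hl : ∀ a : GL κ F, a ∈ specialLinear κ F → pairGL (a, 1) ∈ M)
    (hr : ∀ a : GL κ F, a ∈ specialLinear κ F → pairGL (1, a) ∈ M)
    (hx : ∃ x ∈ M, (x : M8) = od 1 1)
    (hG : G ∈ M) (hc : c ≠ 0) (hc' : c' ≠ 0) (hd : d ≠ 0) (hGm : (G : M8) = c • (1 + d • od 1 1))
    (hGi : ((G⁻¹ : GL (Fin 4 ⊕ Fin 4) F) : M8) = c' • (1 - d • od 1 1)) :
    specialLinear (Fin 4 ⊕ Fin 4) F ≤ M := by
  classical
  have tl : ∀ u α : κ → F, α ⬝ᵥ u = 0 → HasTv M (vl u) (vl α) := fun u α h =>
    ⟨by rw [vl_dot_vl, h], _, hl _ (tvGL_mem_specialLinear u α h), by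
      rw [coe_pairGL, Units.val_one, coe_tvGL, tvMat_vl]⟩
  have tr : ∀ u α : κ → F, α ⬝ᵥ u = 0 → HasTv M (vr u) (vr α) := fun u α h =>
    ⟨by rw [vr_dot_vr, h], _, hr _ (tvGL_mem_specialLinear u α h), by
      rw [coe_pairGL, Units.val_one, coe_tvGL, tvMat_vr]⟩
  have e1 : (G : M8) *ᵥ vl (Pi.single 0 1) = vl (Pi.single 0 c) + vr (Pi.single 0 (c * d)) := by
    rw [hGm, smul_mulVec, add_mulVec, one_mulVec, smul_mulVec, od]
    funext j
    rcases j with j | j <;> simp [vl, vr, Pi.single_apply, Matrix.one_apply]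
  have e2 : vl (Pi.single 1 1) ᵥ* ((G⁻¹ : GL (Fin 4 ⊕ Fin 4) F) : M8) =
      vl (Pi.single 1 c') + vr (Pi.single 1 (-(c' * d))) := by
    rw [hGi, vecMul_smul, vecMul_sub, vecMul_one, vecMul_smul, od]
    funext j
    rcases j with j | j <;> simp [vl, vr, Pi.single_apply, Matrix.one_apply, eq_comm]
    all_goals split_ifs <;> simp
  have h0 := (tl (Pi.single 0 1) (Pi.single 1 1) (by simp [single_dotProduct])).conj hG
  rw [e1, e2] at h0
  have h1 := h0.comm (tl (Pi.single 2 1) (Pi.single 0 1) (by simp [single_dotProduct]))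
    (by simp [add_dotProduct, vl_dot_vl, vr_dot_vl, single_dotProduct])
  rw [dotProduct_add, vl_dot_vl, vl_dot_vr, single_dotProduct, Pi.single_eq_same, one_mul, add_zero,
    smul_add] at h1
  have h2 := h1.sub (tl (Pi.single 2 1) (c • Pi.single 1 c')
    (by simp [smul_dotProduct, single_dotProduct]))
  rw [show c • vl (Pi.single 1 c') + c • vr (Pi.single 1 (-(c' * d))) - vl (c • Pi.single 1 c') =
      (-(c * (c' * d))) • vr (Pi.single 1 1) by
    funext j; rcases j with j | j <;> simp [vl, vr, Pi.single_apply]] at h2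
  have hk : -(c * (c' * d)) ≠ 0 := neg_ne_zero.2 (mul_ne_zero hc (mul_ne_zero hc' hd))
  have h3 := (hasTv_smul_iff hk).2 h2
  -- move the centre
  have hcentre : ∀ (i j : κ) (k : F), i ≠ j → k ≠ 0 → ∀ φ : κ → F,
      HasTv M (k • vl (Pi.single i 1)) (vr φ) → ∀ x, HasTv M (vl (Pi.single j x)) (vr φ) := by
    intro i j k hij hk φ h x
    have := h.comm (tl (Pi.single j x) (Pi.single i k⁻¹) (by simp [single_dotProduct, hij]))
      (vr_dot_vl _ _)
    rwa [dotProduct_smul, vl_dot_vl, single_dotProduct, Pi.single_eq_same, mul_one, smul_eq_mul,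
      mul_inv_cancel₀ hk, one_smul] at this
  have h4 : ∀ (j : κ) (x : F), HasTv M (vl (Pi.single j x)) (vr (Pi.single 1 1)) := by
    intro j x
    rcases eq_or_ne (2 : κ) j with rfl | hj
    · have := hcentre 2 3 _ (by decide) hk _ h3 1
      rw [← one_smul F (vl (Pi.single 3 1))] at this
      exact hcentre 3 2 1 (by decide) one_ne_zero _ this x
    · exact hcentre 2 j _ hj hk _ h3 x
  -- move the functional
  have hdual : ∀ (i j : κ) (a : κ → F), i ≠ j → HasTv M (vl a) (vr (Pi.single i 1)) →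
      HasTv M (vl a) (vr (Pi.single j 1)) := by
    intro i j a hij h
    have := (tr (Pi.single i 1) (Pi.single j 1) (by simp [single_dotProduct, hij])).comm h (vr_dot_vl _ _)
    rwa [vr_dot_vr, single_dotProduct, Pi.single_eq_same, mul_one, one_smul] at this
  have h5 : ∀ (i j : κ) (x : F), HasTv M (vl (Pi.single i x)) (vr (Pi.single j 1)) := by
    intro i j x
    rcases eq_or_ne (1 : κ) j with rfl | hj
    · exact h4 i x
    · exact hdual 1 j _ hj (h4 i x)
  obtain ⟨x, hxM, hxm⟩ := hx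
  refine specialLinear_le_of_hasTv fun i j hij a => ?_
  rcases i with i | i <;> rcases j with j | j
  · rw [single_inl, single_inl]
    exact tl _ _ (by simp only [single_dotProduct, one_mul, Pi.single_eq_of_ne (show j ≠ i from fun e => hij (congrArg Sum.inl e.symm))])
  · rw [single_inl, single_inr]; exact h5 i j a
  · rw [single_inr, single_inl]
    have hxi : ((x⁻¹ : GL (Fin 4 ⊕ Fin 4) F) : M8) = od 1 1 := by
      have hxx : x * x = 1 := Units.ext (by rw [Units.val_mul, hxm, od_mul, Matrix.mul_one, bd_one, Units.val_one])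
      rw [inv_eq_of_mul_eq_one_left hxx, hxm]
    have := (h5 i j a).conj hxM
    rw [hxm, hxi, od_mulVec_vl, vecMul_od_vr] at this
    exact this
  · rw [single_inr, single_inr]
    exact tr _ _ (by simp only [single_dotProduct, one_mul, Pi.single_eq_of_ne (show j ≠ i from fun e => hij (congrArg Sum.inr e.symm))])

/-- A normal subgroup of `SL_4` with a non-scalar element is everything. -/
theorem normal_eq_top (K : Subgroup (Matrix.SpecialLinearGroup κ F)) [K.Normal]
    {q : Matrix.SpecialLinearGroup κ F} (hq : q ∈ K) (hns : Ns (q : M4)) : K = ⊤ := by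
  classical
  have hs := CfsgLib.Classical.isSimpleGroup_psl (ι := κ) (F := F) (by simp)
  have hperf := CfsgLib.Classical.commutator_sl_eq_top (ι := κ) (F := F) (by simp)
  obtain ⟨mk, hmk⟩ : ∃ f : Matrix.SpecialLinearGroup κ F →* Matrix.ProjectiveSpecialLinearGroup κ F,
      f = QuotientGroup.mk' _ := ⟨_, rfl⟩
  have hsurj : Function.Surjective mk := hmk ▸ QuotientGroup.mk'_surjective _
  rcases (Subgroup.Normal.map (H := K) inferInstance mk hsurj).eq_bot_or_eq_top with h | h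
  · exfalso
    have hq' : mk q = 1 := by
      have : mk q ∈ K.map mk := ⟨q, hq, rfl⟩
      rwa [h, Subgroup.mem_bot] at this
    rw [hmk, QuotientGroup.mk'_apply, QuotientGroup.eq_one_iff,
      Matrix.SpecialLinearGroup.mem_center_iff] at hq'
    obtain ⟨r, -, hr⟩ := hq'
    exact hns r (by rw [← hr, Matrix.scalar_apply, Matrix.smul_one_eq_diagonal])
  · rw [eq_top_iff, ← hperf, commutator_def, Subgroup.commutator_le]
    have hdec : ∀ s, ∃ k ∈ K, ∃ z ∈ Subgroup.center (Matrix.SpecialLinearGroup κ F), s = k * z := by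
      intro s
      obtain ⟨k, hk, hks⟩ : mk s ∈ K.map mk := h ▸ Subgroup.mem_top _
      refine ⟨k, hk, k⁻¹ * s, ?_, (mul_inv_cancel_left k s).symm⟩
      rw [hmk, QuotientGroup.mk'_apply, QuotientGroup.mk'_apply] at hks
      exact QuotientGroup.eq.1 hks
    intro s _ s' _
    obtain ⟨k, hk, z, hz, rfl⟩ := hdec s
    obtain ⟨k', hk', z', hz', rfl⟩ := hdec s'
    rw [Subgroup.mem_center_iff] at hz hz'
    have e : ⁅k * z, k' * z'⁆ = ⁅k, k'⁆ := by
      simp only [commutatorElement_def, _root_.mul_inv_rev]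
      calc k * z * (k' * z') * (z⁻¹ * k⁻¹) * (z'⁻¹ * k'⁻¹)
          = k * (z * (k' * z')) * z⁻¹ * k⁻¹ * (z'⁻¹ * k'⁻¹) := by simp only [mul_assoc]
        _ = k * (k' * z') * k⁻¹ * (z'⁻¹ * k'⁻¹) := by rw [← hz (k' * z')]; simp only [mul_assoc, mul_inv_cancel, mul_one, mul_inv_cancel_left]
        _ = k * k' * (z' * k⁻¹) * z'⁻¹ * k'⁻¹ := by simp only [mul_assoc]
        _ = k * k' * k⁻¹ * k'⁻¹ := by rw [← hz' k⁻¹]; simp only [mul_assoc, mul_inv_cancel_left]
    rw [e, commutatorElement_def]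
    exact K.mul_mem (K.mul_mem (K.mul_mem hk hk') (K.inv_mem hk)) (K.inv_mem hk')

namespace BlockFrame

variable {R : Subgroup (GL (Fin 4 ⊕ Fin 4) F)} {I : F} (hR : BlockFrame R I)
include hR

theorem dup_mem_normalizer [Finite F] {a : GL κ F} (ha : a ∈ subgroupNormalizer (half R)) :
    dup a ∈ subgroupNormalizer R := by
  refine mem_normalizer_of_conj fun y hy => ?_
  obtain ⟨z, hz, hzm⟩ := hR.memZ
  obtain ⟨x, hx, hxm⟩ := hR.memX
  obtain ⟨b, hb, e⟩ := hR.decomp hy
  have hb' : dup (a * b * a⁻¹) ∈ R := conj_mem ha hb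
  have hd : (dup a * y * (dup a)⁻¹ : GL (Fin 4 ⊕ Fin 4) F) ∈ ({dup (a * b * a⁻¹), z * dup (a * b * a⁻¹),
      x * dup (a * b * a⁻¹), z * x * dup (a * b * a⁻¹)} : Set (GL (Fin 4 ⊕ Fin 4) F)) := by
    simp only [Set.mem_insert_iff, Set.mem_singleton_iff, Units.ext_iff, Units.val_mul, ← map_inv,
      coe_dup, hzm, hxm]
    rcases e with e | e | e | e <;> rw [e]
    · exact Or.inl (by simp [bd_mul])
    · exact Or.inr (Or.inl (by simp [bd_mul]))
    · exact Or.inr (Or.inr (Or.inl (by simp [bd_mul, od_mul_bd, bd_mul_od])))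
    · exact Or.inr (Or.inr (Or.inr (by simp [bd_mul, od_mul_bd, bd_mul_od])))
  simp only [Set.mem_insert_iff, Set.mem_singleton_iff] at hd
  rcases hd with h | h | h | h <;> rw [h]
  · exact hb'
  · exact R.mul_mem hz hb'
  · exact R.mul_mem hx hb'
  · exact R.mul_mem (R.mul_mem hz hx) hb'

theorem controlled_mem_normalizer [Finite F] {q : GL κ F} (hq : q ∈ half R) :
    pairGL (1, q) ∈ subgroupNormalizer R := by
  refine mem_normalizer_of_conj fun y hy => ?_
  obtain ⟨z, hz, hzm⟩ := hR.memZ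
  obtain ⟨x, hx, hxm⟩ := hR.memX
  obtain ⟨b, hb, e⟩ := hR.decomp hy
  have hF := hR.half_frame
  have hqi : ∃ s : F, (s = 1 ∨ s = -1) ∧ ((q⁻¹ : GL κ F) : M4) = s • (q : M4) := by
    rcases hF.sq q hq with h | h
    · exact ⟨1, Or.inl rfl, by rw [inv_eq_of_mul_eq_one_left h, one_smul]⟩
    · refine ⟨-1, Or.inr rfl, ?_⟩
      rw [inv_eq_of_mul_eq_one_left (a := -q) (b := q) (by rw [neg_mul, h, neg_neg]), Units.val_neg,
        neg_one_smul]
  obtain ⟨s, hs, hqs⟩ := hqi
  have hqc : ∃ t : F, (t = 1 ∨ t = -1) ∧ (q : M4) * (b : M4) = t • ((b : M4) * (q : M4)) := by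
    rcases hF.mat_comm hq hb with h | h
    · exact ⟨1, Or.inl rfl, by rw [h, one_smul]⟩
    · exact ⟨-1, Or.inr rfl, by rw [h, neg_one_smul]⟩
  obtain ⟨t, ht, hqb⟩ := hqc
  have hbq : dup (b * q) ∈ R := (half R).mul_mem hb hq
  have hb0 : dup b ∈ R := hb
  have hneg := fun {w : GL (Fin 4 ⊕ Fin 4) F} (hw : w ∈ R) => hR.frame.neg_mem hw
  obtain ⟨v, hv⟩ : ∃ v, v = pairGL (1, q) * y * (pairGL (1, q))⁻¹ := ⟨_, rfl⟩
  rw [← hv]
  have hvm : (v : M8) = bd 1 (q : M4) * (y : M8) * bd 1 (s • (q : M4)) := by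
    rw [hv, Units.val_mul, Units.val_mul, ← map_inv, Prod.inv_mk, inv_one, coe_pairGL, coe_pairGL, hqs,
      Units.val_one]
  have hqq : (q : M4) * (s • (q : M4)) = 1 := by rw [← hqs, Units.mul_inv]
  have key : ∀ w : GL (Fin 4 ⊕ Fin 4) F, w ∈ R → (v : M8) = (w : M8) → v ∈ R := fun w hw h => by
    rwa [show v = w from Units.ext h]
  rcases e with e | e | e | e <;> rw [e] at hvm
  · rw [bd_mul, bd_mul, Matrix.one_mul, Matrix.mul_one, hqb, Matrix.smul_mul, mul_assoc, hqq,
      Matrix.mul_one] at hvm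
    rcases ht with rfl | rfl
    · exact key _ hb0 (by rw [hvm, coe_dup, one_smul])
    · exact key _ (R.mul_mem hz hb0) (by rw [hvm, Units.val_mul, coe_dup, hzm, bd_mul, neg_one_smul]; simp)
  · rw [bd_mul, bd_mul, Matrix.one_mul, Matrix.mul_one, mul_neg, hqb, neg_mul, Matrix.smul_mul, mul_assoc,
      hqq, Matrix.mul_one] at hvm
    rcases ht with rfl | rfl
    · exact key _ (R.mul_mem hz hb0) (by rw [hvm, Units.val_mul, coe_dup, hzm, bd_mul, one_smul]; simp)
    · exact key _ hb0 (by rw [hvm, coe_dup, neg_one_smul, neg_neg])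
  · rw [bd_mul_od, od_mul_bd, Matrix.one_mul, Matrix.mul_one, hqb, Matrix.mul_smul] at hvm
    rcases hs with rfl | rfl <;> rcases ht with rfl | rfl <;>
      simp only [one_smul, neg_one_smul] at hvm
    · exact key _ (R.mul_mem hx hbq) (by rw [hvm, Units.val_mul, coe_dup, hxm, Units.val_mul, od_mul_bd]; simp)
    · exact key _ (R.mul_mem (R.mul_mem hz hx) hbq) (by
        rw [hvm]; simp only [Units.val_mul, hxm, hzm, coe_dup, bd_mul_od, od_mul_bd]; simp [od])
    · exact key _ (R.mul_mem (R.mul_mem hx hz) hbq) (by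
        rw [hvm]; simp only [Units.val_mul, hxm, hzm, coe_dup, od_mul_bd]; simp [od])
    · exact key _ (hneg (R.mul_mem hx hbq)) (by
        rw [hvm]; simp only [Units.val_neg, Units.val_mul, hxm, coe_dup, od_mul_bd]; simp [od, Matrix.fromBlocks_neg])
  · rw [bd_mul_od, od_mul_bd, Matrix.one_mul, Matrix.mul_one, mul_neg, hqb, Matrix.mul_smul] at hvm
    rcases hs with rfl | rfl <;> rcases ht with rfl | rfl <;>
      simp only [one_smul, neg_one_smul, neg_neg] at hvm
    · exact key _ (R.mul_mem (R.mul_mem hz hx) hbq) (by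
        rw [hvm]; simp only [Units.val_mul, hxm, hzm, coe_dup, bd_mul_od, od_mul_bd]; simp [od])
    · exact key _ (R.mul_mem hx hbq) (by
        rw [hvm]; simp only [Units.val_mul, hxm, coe_dup, od_mul_bd]; simp [od])
    · exact key _ (hneg (R.mul_mem hx hbq)) (by
        rw [hvm]; simp only [Units.val_neg, Units.val_mul, hxm, coe_dup, od_mul_bd]; simp [od, Matrix.fromBlocks_neg])
    · exact key _ (hneg (R.mul_mem (R.mul_mem hz hx) hbq)) (by
        rw [hvm]; simp only [Units.val_neg, Units.val_mul, hxm, hzm, coe_dup, bd_mul_od, od_mul_bd]; simp [od, Matrix.fromBlocks_neg])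

/-- The dichotomy. -/
theorem proj_dichotomy [Fintype F] {M : Subgroup (GL (Fin 4 ⊕ Fin 4) F)}
    (hN : ∀ g ∈ subgroupNormalizer R, g ∈ specialLinear (Fin 4 ⊕ Fin 4) F → g ∈ M)
    (hmax : IsMaximalIn (specialLinear κ F) (subgroupNormalizer (half R) ⊓ specialLinear κ F)) :
    specialLinear (Fin 4 ⊕ Fin 4) F ≤ M ∨ ∀ a b : GL κ F, pairGL (a, b) ∈ M →
      a ∈ subgroupNormalizer (half R) ∧ b ∈ subgroupNormalizer (half R) := by
  classical
  have hF := hR.half_frame
  have h8 : Fintype.card (Fin 4 ⊕ Fin 4) = 4 * 2 := by simp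
  obtain ⟨x, hx, hxm⟩ := hR.memX
  have hRM : ∀ y ∈ R, y ∈ M := fun y hy =>
    hN y (mem_normalizer_of_conj fun w hw => R.mul_mem (R.mul_mem hy hw) (R.inv_mem hy)) (hR.frame.le_sl h8 hy)
  have hswap : ∀ a b : GL κ F, pairGL (a, b) ∈ M → pairGL (b, a) ∈ M := fun a b h => by
    have hxx : x * x = 1 := Units.ext (by rw [Units.val_mul, hxm, od_mul, Matrix.mul_one, bd_one, Units.val_one])
    have e : x * pairGL (a, b) * x = pairGL (b, a) := Units.ext (by
      rw [Units.val_mul, Units.val_mul, hxm, coe_pairGL, coe_pairGL, od_mul_bd, od_mul]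
      simp)
    exact e ▸ M.mul_mem (M.mul_mem (hRM x hx) h) (hRM x hx)
  obtain ⟨P, hP⟩ : ∃ P : Subgroup (GL κ F), P = (M.comap pairGL).map (MonoidHom.fst _ _) := ⟨_, rfl⟩
  have hPm : ∀ a, a ∈ P ↔ ∃ b, pairGL (a, b) ∈ M := fun a => by
    rw [hP]
    exact ⟨fun ⟨⟨a', b⟩, hab, e⟩ => ⟨b, by cases e; exact hab⟩, fun ⟨b, hb⟩ => ⟨(a, b), hb, rfl⟩⟩
  have hHP : subgroupNormalizer (half R) ⊓ specialLinear κ F ≤ P ⊓ specialLinear κ F := fun a ha =>
    ⟨(hPm a).2 ⟨a, hN _ (hR.dup_mem_normalizer ha.1) (by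
      rw [mem_sl, show pairGL (a, a) = dup a from rfl, coe_dup, bd, Matrix.det_fromBlocks_zero₁₂,
        mem_sl.1 ha.2, one_mul])⟩, ha.2⟩
  rcases hmax.2 _ hHP inf_le_right with h | h
  · -- normalising projections
    right
    have hone : ∀ a b, pairGL (a, b) ∈ M → a ∈ subgroupNormalizer (half R) := fun a b hab => by
      have haP : a ∈ P := (hPm a).2 ⟨b, hab⟩
      refine hF.normalizer_of_normalizes (Fintype.card_fin 4) (hF.le_sl (k := 1) (by simp))
        (fun v w hv hw hvv hww h1 h2 => hF.gates_mem_sl (Fintype.card_fin 4) hv hw hvv hww h1 h2)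
        (fun g hg hgd => ?_) fun g hg hgd => ?_
      · have hd : a⁻¹ * g * a ∈ P ⊓ specialLinear κ F := by
          refine ⟨P.mul_mem (P.mul_mem (P.inv_mem haP) (hHP ⟨hg, hgd⟩).1) haP, ?_⟩
          exact MonoidHom.mem_ker.2 (by rw [map_mul, map_mul, MonoidHom.mem_ker.1 hgd, mul_one, map_inv, inv_mul_cancel])
        rw [h] at hd
        exact hd.1
      · have hd : a * g * a⁻¹ ∈ P ⊓ specialLinear κ F := by
          refine ⟨P.mul_mem (P.mul_mem haP (hHP ⟨hg, hgd⟩).1) (P.inv_mem haP), ?_⟩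
          exact MonoidHom.mem_ker.2 (by rw [map_mul, map_mul, MonoidHom.mem_ker.1 hgd, mul_one, map_inv, mul_inv_cancel])
        rw [h] at hd
        exact hd.1
    exact fun a b hab => ⟨hone a b hab, hone b a (hswap a b hab)⟩
  · -- both block subgroups lie in `M`
    left
    have hall : ∀ s ∈ specialLinear κ F, ∃ b, pairGL (b, s) ∈ M := fun s hs => by
      obtain ⟨b, hb⟩ := (hPm s).1 (h.ge hs).1
      exact ⟨b, hswap _ _ hb⟩
    obtain ⟨K, hK⟩ : ∃ K : Subgroup (Matrix.SpecialLinearGroup κ F), K = M.comap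
        (pairGL.comp ((MonoidHom.inr (GL κ F) (GL κ F)).comp Matrix.SpecialLinearGroup.toGL)) := ⟨_, rfl⟩
    have hKm : ∀ s : Matrix.SpecialLinearGroup κ F, s ∈ K ↔ pairGL (1, Matrix.SpecialLinearGroup.toGL s) ∈ M :=
      fun s => by rw [hK]; rfl
    have hKn : K.Normal := ⟨fun k hk s => by
      obtain ⟨b, hb⟩ := hall (Matrix.SpecialLinearGroup.toGL s) (mem_sl.2 s.2)
      rw [hKm] at hk ⊢
      have e : pairGL (b, Matrix.SpecialLinearGroup.toGL s) * pairGL (1, Matrix.SpecialLinearGroup.toGL k) *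
          (pairGL (b, Matrix.SpecialLinearGroup.toGL s))⁻¹ =
          pairGL (1, Matrix.SpecialLinearGroup.toGL (s * k * s⁻¹)) := by
        rw [← map_inv, ← map_mul, ← map_mul]
        congr 1
        simp [Prod.ext_iff, map_mul]
      exact e ▸ M.mul_mem (M.mul_mem hb hk) (M.inv_mem hb)⟩
    -- a controlled element
    obtain ⟨z, hz, hzns⟩ : ∃ q ∈ half R, Ns (q : M4) := by
      by_contra hcon
      push Not at hcon
      have hsc : ∀ q ∈ half R, ∀ A : M4, A * (q : M4) = (q : M4) * A := fun q hq A => by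
        have hnn := hcon q hq
        simp only [Ns, not_forall, not_not] at hnn
        obtain ⟨c, hc⟩ := hnn
        simp [hc]
      obtain ⟨c, hc⟩ := hF.irr (A := Matrix.single 0 1 (1 : F)) fun q hq => hsc q hq _
      have := congrFun (congrFun hc 0) 1
      simp at this
    have hzd : z ∈ specialLinear κ F := hF.le_sl (k := 1) (by simp) hz
    obtain ⟨zS, hzS⟩ : ∃ zS : Matrix.SpecialLinearGroup κ F, zS = ⟨(z : M4), mem_sl.1 hzd⟩ := ⟨_, rfl⟩
    have hzK : zS ∈ K := by
      rw [hKm, hzS, show Matrix.SpecialLinearGroup.toGL (⟨(z : M4), mem_sl.1 hzd⟩ : Matrix.SpecialLinearGroup κ F) = z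
        from Units.ext rfl]
      refine hN _ (hR.controlled_mem_normalizer hz) ?_
      rw [mem_sl, det_pairGL, Units.val_one, Matrix.det_one, one_mul, mem_sl.1 hzd]
    have htop := normal_eq_top K hzK (by rw [hzS]; exact hzns)
    have hr : ∀ a : GL κ F, a ∈ specialLinear κ F → pairGL (1, a) ∈ M := fun a ha => by
      have := (hKm ⟨(a : M4), mem_sl.1 ha⟩).1 (htop ▸ Subgroup.mem_top _)
      rwa [show Matrix.SpecialLinearGroup.toGL (⟨(a : M4), mem_sl.1 ha⟩ : Matrix.SpecialLinearGroup κ F) = a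
        from Units.ext rfl] at this
    have hxx : (x : M8) * (x : M8) = 1 := by rw [hxm, od_mul, Matrix.mul_one, bd_one]
    have hxns : Ns (x : M8) := fun c hc => by
      have := congrFun (congrFun (hxm.symm.trans hc) (Sum.inl 0)) (Sum.inr 0)
      simp [od] at this
    have hI1 : (1 + I) / 2 ≠ 0 := left_ne_zero_of_mul (left_ne_zero_of_mul_eq_one hR.frame.coeff)
    have hI2 : (1 - I) / 2 ≠ 0 := right_ne_zero_of_mul (left_ne_zero_of_mul_eq_one hR.frame.coeff)
    refine sl_le_of_blocks (fun a ha => hswap 1 a (hr a ha)) hr ⟨x, hRM x hx, hxm⟩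
      (G := hR.frame.gate hxx) ?_ hI1 hI2 hR.frame.I_ne (by rw [hR.frame.coe_gate, hxm])
      (by rw [hR.frame.coe_gate_inv, hxm])
    refine hN _ (hR.frame.gate_mem_normalizer hx hxx) ?_
    rw [mem_sl, (hR.frame.det_invol hx hxx hxns h8).2, neg_one_sq]

end BlockFrame

end CfsgLib.MaxSub.SymEight
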