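import Cfsg.Agent.Lib.MaxSub.HermFull
import Cfsg.Agent.Lib.MaxSub.HermPerp
import Cfsg.Agent.Lib.MaxSub.SuFour.Tools

/-!
Two orthogonal blocks of dimension four with their special unitary groups and a mixing gate give every
unitary transvection in dimension eight.
-/

set_option autoImplicit false
set_option linter.unusedSectionVars false

namespace CfsgLib.MaxSub.SymEight

open Matrix CfsgLib.MaxSub
open scoped MatrixGroups

variable {F : Type*} [Field F] [Fintype F] {q : ℕ} (hF : Fintype.card F = q ^ 2)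
include hF

local notation "f₄" => Cfsg.hermForm 4 F q
local notation "f₈" => Cfsg.hermForm 8 F q
local notation "S₄" => Cfsg.GU 4 F q ⊓ Cfsg.Geo.specialLinear (Fin 4) F

/-- Vectors of equal non-zero norm are conjugate under `SU_4`. -/
theorem exists_su_move {a a' : Fin 4 → F} (h : f₄ a a = f₄ a' a') (h0 : f₄ a a ≠ 0) :
    ∃ g ∈ S₄, (g : Matrix (Fin 4) (Fin 4) F) *ᵥ a = a' := by
  have hf := isUnitaryForm_hermForm hF 4
  obtain ⟨r, hr⟩ := exists_norm_eq hf (e := f₄ a a) (herm_self_fixed hf a)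
  have hr0 : r ≠ 0 := left_ne_zero_of_mul (hr ▸ h0)
  have hu : ∀ b, f₄ b b = f₄ a a → SuFour.Orth q (n := 4) (fun _ : Fin 1 => r⁻¹ • b) := by
    intro b hb i j
    have hσr : qConj hF r ≠ 0 := right_ne_zero_of_mul (hr ▸ h0)
    rw [if_pos (Subsingleton.elim i j), hf.smul_left, herm_smul_right hf, hb, ← hr, map_inv₀]
    field_simp
  obtain ⟨g, hg, hgv⟩ := SuFour.exists_map hF (by norm_num : 1 < 4) (hu a rfl) (hu a' h.symm)
  refine ⟨g, hg, ?_⟩
  have := congrArg (r • ·) (hgv 0)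
  simp only [← mulVec_smul, smul_smul, mul_inv_cancel₀ hr0, one_smul] at this
  exact this

/-- The whole of `SU_8` from the two block groups and a gate mixing them. -/
theorem su_le_of_split {M : Subgroup (GL (Fin 8) F)}
    (hMS : M ≤ Cfsg.GU 8 F q ⊓ Cfsg.Geo.specialLinear (Fin 8) F)
    (Q : ((Fin 4 → F) × (Fin 4 → F)) ≃ₗ[F] (Fin 8 → F))
    (hQ : ∀ a b c d, f₈ (Q (a, b)) (Q (c, d)) = f₄ a c + f₄ b d)
    (hl : ∀ h ∈ S₄, ∃ g ∈ M, ∀ a b,
      (g : Matrix (Fin 8) (Fin 8) F) *ᵥ Q (a, b) = Q ((h : Matrix (Fin 4) (Fin 4) F) *ᵥ a, b))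
    (hr : ∀ h ∈ S₄, ∃ g ∈ M, ∀ a b,
      (g : Matrix (Fin 8) (Fin 8) F) *ᵥ Q (a, b) = Q (a, (h : Matrix (Fin 4) (Fin 4) F) *ᵥ b))
    (h2 : (2 : F) ≠ 0) {G : GL (Fin 8) F} (hG : G ∈ M) {c I : F} (hc : c ≠ 0) (hI : I * I = -1)
    (hGQ : ∀ a b, (G : Matrix (Fin 8) (Fin 8) F) *ᵥ Q (a, b) = c • Q (a + I • b, I • a + b)) :
    Cfsg.GU 8 F q ⊓ Cfsg.Geo.specialLinear (Fin 8) F ≤ M := by
  classical
  have hf := isUnitaryForm_hermForm hF 8
  have hf4 := isUnitaryForm_hermForm hF 4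
  have hiso : ∀ {g : GL (Fin 8) F}, g ∈ M → ∀ x y,
      f₈ ((g : Matrix (Fin 8) (Fin 8) F) *ᵥ x) ((g : Matrix (Fin 8) (Fin 8) F) *ᵥ y) = f₈ x y :=
    fun hg x y => (hMS hg).1 x y
  -- isotropic vectors of one block
  have htv : ∀ (e : Fin 4 → F) (_ : f₄ e e = 0) (k : F), k + qConj hF k = 0 →
      ∃ h ∈ S₄, ∀ a, (h : Matrix (Fin 4) (Fin 4) F) *ᵥ a = a + (k * f₄ a e) • e := by
    intro e he k hk
    have h0 : (k • hDual f₄ e) ⬝ᵥ e = 0 := by rw [smul_dotProduct, hDual_dot hf4, he, smul_zero]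
    exact ⟨_, uTv_mem_su hF he hk h0, fun a => by rw [coe_tvGL, uTv_mulVec hf4]⟩
  have hblk : ∀ a b : Fin 4 → F, a = 0 ∨ b = 0 → f₄ a a = 0 → f₄ b b = 0 →
      UFull (qConj hF) f₈ M (Q (a, b)) := by
    intro a b hab ha hb
    refine ⟨by rw [hQ, ha, hb, add_zero], fun k hk => ⟨by
      rw [smul_dotProduct, hDual_dot hf, hQ, ha, hb, add_zero, smul_zero], ?_⟩⟩
    rcases hab with rfl | rfl
    · obtain ⟨h, hh, hm⟩ := htv b hb k hk
      obtain ⟨g, hg, hgm⟩ := hr h hh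
      refine ⟨g, hg, Matrix.ext_iff_mulVec.2 fun x => ?_⟩
      obtain ⟨⟨u, v⟩, rfl⟩ := Q.surjective x
      rw [uTv_mulVec hf, hgm, hm, hQ, herm_zero_right hf4, zero_add, ← map_smul, Prod.smul_mk, smul_zero,
        ← map_add, Prod.mk_add_mk, add_zero]
    · obtain ⟨h, hh, hm⟩ := htv a ha k hk
      obtain ⟨g, hg, hgm⟩ := hl h hh
      refine ⟨g, hg, Matrix.ext_iff_mulVec.2 fun x => ?_⟩
      obtain ⟨⟨u, v⟩, rfl⟩ := Q.surjective x
      rw [uTv_mulVec hf, hgm, hm, hQ, herm_zero_right hf4, add_zero, ← map_smul, Prod.smul_mk, smul_zero,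
        ← map_add, Prod.mk_add_mk, add_zero]
  -- a seed with anisotropic parts
  obtain ⟨t, ht⟩ := exists_norm_eq hf4 (e := (-1 : F)) (by rw [map_neg, map_one])
  have h4f : ∀ (u : Fin 4 → F), f₄ u u = ∑ i, u i * qConj hF (u i) := fun u => by
    simp [Cfsg.hermForm, qConj_apply]
  obtain ⟨e, he⟩ : ∃ e : Fin 4 → F, e = ![1, t, 0, 0] := ⟨_, rfl⟩
  have hee : f₄ e e = 0 := by
    rw [h4f, he]; simp [Fin.sum_univ_four, ht]
  obtain ⟨d, hd⟩ : ∃ d : Fin 4 → F, d = ![1, -1, -1, 1] := ⟨_, rfl⟩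
  have hdd : ∀ i, d i * d i = 1 ∧ qConj hF (d i) = d i := fun i => by
    rw [hd]; fin_cases i <;> simp
  obtain ⟨h₀, hh₀, hh₀m⟩ : ∃ h ∈ S₄, ∀ u : Fin 4 → F,
      (h : Matrix (Fin 4) (Fin 4) F) *ᵥ u = fun i => d i * u i := by
    refine ⟨⟨Matrix.diagonal d, Matrix.diagonal d, ?_, ?_⟩, ⟨fun x y => ?_, ?_⟩, fun u => funext fun i => ?_⟩
    · rw [diagonal_mul_diagonal, ← diagonal_one]; exact congrArg _ (funext fun i => (hdd i).1)
    · rw [diagonal_mul_diagonal, ← diagonal_one]; exact congrArg _ (funext fun i => (hdd i).1)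
    · show f₄ (Matrix.diagonal d *ᵥ x) (Matrix.diagonal d *ᵥ y) = f₄ x y
      simp only [Cfsg.hermForm, mulVec_diagonal, ← qConj_apply hF, map_mul]
      refine Finset.sum_congr rfl fun i _ => ?_
      rw [(hdd i).2]
      linear_combination x i * qConj hF (y i) * (hdd i).1
    · refine (DecompMax.mem_sl_iff _).2 ?_
      show (Matrix.diagonal d).det = 1
      rw [det_diagonal, hd]; simp [Fin.prod_univ_four]
    · exact mulVec_diagonal d u i
  have hseed : UFull (qConj hF) f₈ M (Q (![0, -(2 * t), 0, 0], ![2 * I, 0, 0, 0])) := by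
    obtain ⟨g, hg, hgm⟩ := hl h₀ hh₀
    have h1 := ((((hblk e 0 (Or.inr rfl) hee (herm_zero_left hf4 _)).conj hf hG (hiso hG)).conj hf hg
      (hiso hg)).conj hf hG (hiso hG)).smul hf (c * c)⁻¹
    simp only [hGQ, mulVec_smul, hgm, smul_zero, add_zero, smul_smul, hh₀m] at h1
    rw [inv_mul_cancel₀ (mul_ne_zero hc hc), one_smul] at h1
    convert h1 using 4 <;> rw [he, hd] <;> ext i <;> fin_cases i <;> simp <;>
      first | ring1 | linear_combination hI | linear_combination -hI | linear_combination t * hI |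
        linear_combination -t * hI
  -- anisotropic parts
  have hσ2 : qConj hF (2 : F) = 2 := map_ofNat _ 2
  have hani : ∀ a b : Fin 4 → F, f₄ a a + f₄ b b = 0 → f₄ a a ≠ 0 → UFull (qConj hF) f₈ M (Q (a, b)) := by
    intro a b hab ha
    obtain ⟨a₀, b₀, hsum, ha₀, h0⟩ : ∃ a₀ b₀ : Fin 4 → F, f₄ a₀ a₀ + f₄ b₀ b₀ = 0 ∧ f₄ a₀ a₀ ≠ 0 ∧
        UFull (qConj hF) f₈ M (Q (a₀, b₀)) := by
      refine ⟨_, _, ?_, ?_, hseed⟩
      · have := hseed.1; rwa [hQ] at this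
      · rw [h4f]
        simp only [Fin.sum_univ_four]
        simp [hσ2]
        refine ⟨h2, fun h0 => ?_⟩
        rw [h0, zero_mul] at ht
        exact one_ne_zero (neg_eq_zero.1 ht.symm)
    obtain ⟨s, hs⟩ := exists_norm_eq hf4 (e := f₄ a a / f₄ a₀ a₀)
      (by rw [map_div₀, herm_self_fixed hf4, herm_self_fixed hf4])
    have hn : ∀ u : Fin 4 → F, f₄ (s • u) (s • u) = f₄ a a / f₄ a₀ a₀ * f₄ u u := fun u => by
      rw [hf4.smul_left, herm_smul_right hf4, ← mul_assoc, hs]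
    have hb : f₄ b b = f₄ (s • b₀) (s • b₀) := by
      rw [hn, eq_neg_of_add_eq_zero_right hsum, eq_neg_of_add_eq_zero_right hab]
      field_simp
    have hb0 : f₄ (s • b₀) (s • b₀) ≠ 0 := hb ▸ (by rw [eq_neg_of_add_eq_zero_right hab]; exact neg_ne_zero.2 ha)
    obtain ⟨g, hg, hga⟩ := exists_su_move hF (a := s • a₀) (a' := a)
      (by rw [hn, div_mul_cancel₀ _ ha₀]) (by rw [hn, div_mul_cancel₀ _ ha₀]; exact ha)
    obtain ⟨g', hg', hgb⟩ := exists_su_move hF (a := s • b₀) (a' := b) hb.symm hb0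
    obtain ⟨x, hx, hxm⟩ := hl g hg
    obtain ⟨y, hy, hym⟩ := hr g' hg'
    have h1 := ((h0.smul hf s).conj hf hx (hiso hx)).conj hf hy (hiso hy)
    rw [← map_smul, Prod.smul_mk, hxm, hym, hga, hgb] at h1
    exact h1
  -- all isotropic vectors
  refine su_le_of_uFull hF (by norm_num) fun v hv => ?_
  obtain ⟨⟨a, b⟩, rfl⟩ := Q.surjective v
  have hab : f₄ a a + f₄ b b = 0 := by rw [← hQ]; exact hv
  by_cases ha : f₄ a a = 0
  swap
  · exact hani a b hab ha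
  have hb : f₄ b b = 0 := by rwa [ha, zero_add] at hab
  by_cases h0 : a = 0 ∨ b = 0
  · exact hblk a b h0 ha hb
  push Not at h0
  obtain ⟨u, hu, hua⟩ : ∃ u, f₄ u u ≠ 0 ∧ f₄ a u = 0 := by
    have h1 := finrank_le_finrank_hPerp_add hf4 (Submodule.span F {a})
    rw [finrank_span_singleton h0.1] at h1
    obtain ⟨u, hu, huu⟩ := exists_anisotropic hf4 (U := hPerp hf4 (Submodule.span F {a})) (by omega)
    exact ⟨u, huu, hPerp_comm hf4 hu (Submodule.mem_span_singleton_self a)⟩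
  obtain ⟨z, hz, hzb⟩ : ∃ z, f₄ z z ≠ 0 ∧ f₄ b z ≠ 0 := by
    obtain ⟨i, hi⟩ := Function.ne_iff.1 h0.2
    refine ⟨Pi.single i 1, ?_, ?_⟩
    · rw [h4f, Finset.sum_eq_single i (fun j _ hj => by simp [hj]) (by simp)]; simp
    · rw [Cfsg.hermForm, Finset.sum_eq_single i (fun j _ hj => by
        rw [← qConj_apply hF]; simp [hj]) (by simp)]
      simpa using hi
  obtain ⟨s, hs⟩ := exists_norm_eq hf4 (e := -(f₄ u u) / f₄ z z)
    (by rw [map_div₀, map_neg, herm_self_fixed hf4, herm_self_fixed hf4])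
  have hs0 : s ≠ 0 := left_ne_zero_of_mul (hs ▸ div_ne_zero (neg_ne_zero.2 hu) hz)
  have hw := hani u (s • z) (by
    rw [hf4.smul_left, herm_smul_right hf4, ← mul_assoc, hs, div_mul_cancel₀ _ hz, add_neg_cancel]) hu
  obtain ⟨k, hk0, hk⟩ := exists_trace_zero hf
  obtain ⟨-, T, hT, hTm⟩ := hw.2 k hk
  obtain ⟨μ, hμ⟩ : ∃ μ, μ = k * f₄ b (s • z) := ⟨_, rfl⟩
  have hμ0 : μ ≠ 0 := hμ ▸ mul_ne_zero hk0 (by
    rw [herm_smul_right hf4]; exact mul_ne_zero ((map_ne_zero _).2 hs0) hzb)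
  have hTv : (T : Matrix (Fin 8) (Fin 8) F) *ᵥ Q (a, b) = Q (a + μ • u, b + μ • (s • z)) := by
    rw [hTm, uTv_mulVec hf, hQ, hua, zero_add, ← hμ, ← map_smul, ← map_add, Prod.smul_mk, Prod.mk_add_mk]
  have hv' : UFull (qConj hF) f₈ M (Q (a + μ • u, b + μ • (s • z))) := by
    refine hani _ _ ?_ ?_
    · rw [← hQ, ← hTv, hiso hT, hQ, hab]
    · rw [herm_add_smul_self hf4 μ (herm_eq_zero_comm hf4 hua), ha, zero_add]
      exact mul_ne_zero (mul_ne_zero hμ0 ((map_ne_zero _).2 hμ0)) hu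
  have := hv'.conj hf (M.inv_mem hT) (hiso (M.inv_mem hT))
  rwa [← hTv, inv_mulVec_mulVec] at this

end CfsgLib.MaxSub.SymEight
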