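import Cfsg.Agent.Lib.MaxSub.SymEight.Centre
import Cfsg.Agent.Lib.MaxSub.SymEight.UnitaryFill
import Cfsg.Agent.Lib.MaxSub.SuFourSympl
import Cfsg.Agent.Lib.KnownC.HermCongr
import Cfsg.Agent.Lib.MaxSub.UFrameCoord

/-!
Unitary coordinates adapted to a pair of anticommuting involutions of a frame, and the dichotomy for the
block elements of an overgroup of the normaliser of the frame in `SU_8`.
-/

set_option autoImplicit false
set_option linter.unusedSectionVars false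
set_option linter.style.haveILetI false

namespace CfsgLib.MaxSub.SymEight

open scoped MatrixGroups commutatorElement
open Cfsg.Geo Matrix CfsgLib.MaxSub CfsgLib.MaxSub.DecompMax

variable {F : Type*} [Field F] [Fintype F] {q : ℕ} (hF : Fintype.card F = q ^ 2)

local notation "M4" => Matrix (Fin 4) (Fin 4) F
local notation "M8" => Matrix (Fin 4 ⊕ Fin 4) (Fin 4 ⊕ Fin 4) F
local notation "f₄" => Cfsg.hermForm 4 F q
local notation "f₈" => Cfsg.hermForm 8 F q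
local notation "S₄" => Cfsg.GU 4 F q ⊓ specialLinear (Fin 4) F
local notation "S₈" => Cfsg.GU 8 F q ⊓ specialLinear (Fin 8) F

theorem bd_mulVec_elim (A B : M4) (u v : Fin 4 → F) :
    bd A B *ᵥ Sum.elim u v = Sum.elim (A *ᵥ u) (B *ᵥ v) := by
  rw [bd, Matrix.fromBlocks_mulVec]; simp

theorem od_mulVec_elim (A B : M4) (u v : Fin 4 → F) :
    od A B *ᵥ Sum.elim u v = Sum.elim (A *ᵥ v) (B *ᵥ u) := by
  rw [od, Matrix.fromBlocks_mulVec]; simp

section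
variable {Φ : (Fin 8 → F) ≃ₗ[F] (Fin 4 ⊕ Fin 4 → F)}

/-- The coordinates split the unitary form into two standard blocks. -/
def SplitsForm (q : ℕ) (Φ : (Fin 8 → F) ≃ₗ[F] (Fin 4 ⊕ Fin 4 → F)) : Prop :=
  ∀ a b c d : Fin 4 → F,
    Cfsg.hermForm 8 F q (Φ.symm (Sum.elim a b)) (Φ.symm (Sum.elim c d)) =
      Cfsg.hermForm 4 F q a c + Cfsg.hermForm 4 F q b d

theorem symm_mulVec (g : GL (Fin 8) F) (s : Fin 4 ⊕ Fin 4 → F) :
    (g : Matrix (Fin 8) (Fin 8) F) *ᵥ Φ.symm s = Φ.symm ((coordGL Φ g : M8) *ᵥ s) := by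
  apply Φ.injective
  rw [← coordGL_mulVec, LinearEquiv.apply_symm_apply, LinearEquiv.apply_symm_apply]

variable (hΦ : SplitsForm q Φ)
include hΦ hF

theorem pair_mem {a b : GL (Fin 4) F} (ha : a ∈ Cfsg.GU 4 F q) (hb : b ∈ Cfsg.GU 4 F q)
    (hd : (a : M4).det * (b : M4).det = 1) : pairGL (a, b) ∈ (S₈).map (coordGL Φ).toMonoidHom := by
  obtain ⟨g, hg⟩ := (coordGL Φ).surjective (pairGL (a, b))
  refine ⟨g, ⟨fun u v => ?_, ?_⟩, hg⟩
  · obtain ⟨s, rfl⟩ := Φ.symm.surjective u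
    obtain ⟨s', rfl⟩ := Φ.symm.surjective v
    rw [← Sum.elim_comp_inl_inr s, ← Sum.elim_comp_inl_inr s']
    show f₈ ((g : Matrix (Fin 8) (Fin 8) F) *ᵥ _) ((g : Matrix (Fin 8) (Fin 8) F) *ᵥ _) = _
    rw [symm_mulVec, symm_mulVec, hg, coe_pairGL, bd_mulVec_elim, bd_mulVec_elim, hΦ, hΦ]
    exact congrArg₂ (· + ·) (ha _ _) (hb _ _)
  · refine (coordGL_mem_sl Φ g).1 ?_
    rw [hg, mem_sl, det_pairGL, hd]

theorem gu_of_pair_mem {a b : GL (Fin 4) F} (h : pairGL (a, b) ∈ (S₈).map (coordGL Φ).toMonoidHom) :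
    a ∈ Cfsg.GU 4 F q ∧ b ∈ Cfsg.GU 4 F q := by
  obtain ⟨g, ⟨hg, -⟩, hge⟩ := h
  have key : ∀ u u' v v', f₄ ((a : M4) *ᵥ u) ((a : M4) *ᵥ u') + f₄ ((b : M4) *ᵥ v) ((b : M4) *ᵥ v') =
      f₄ u u' + f₄ v v' := fun u u' v v' => by
    have := hg (Φ.symm (Sum.elim u v)) (Φ.symm (Sum.elim u' v'))
    change f₈ ((g : Matrix (Fin 8) (Fin 8) F) *ᵥ _) ((g : Matrix (Fin 8) (Fin 8) F) *ᵥ _) = _ at this
    rwa [symm_mulVec, symm_mulVec, show coordGL Φ g = pairGL (a, b) from hge, coe_pairGL, bd_mulVec_elim,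
      bd_mulVec_elim, hΦ, hΦ] at this
  have hz : f₄ 0 0 = 0 := herm_zero_left (isUnitaryForm_hermForm hF 4) 0
  refine ⟨fun u v => ?_, fun u v => ?_⟩
  · have := key u v 0 0
    simpa [hz] using this
  · have := key 0 0 u v
    simpa [hz] using this

end

include hF

/-- The gate of a unitary involution is unitary. -/
theorem gate_mem_gu {n : ℕ} {R : Subgroup (GL (Fin n) F)} {I : F} (hR : Frame R I) (hI : qConj hF I = -I)
    {y : GL (Fin n) F} (hy : y ∈ Cfsg.GU n F q)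
    (hyy : (y : Matrix (Fin n) (Fin n) F) * (y : Matrix (Fin n) (Fin n) F) = 1) :
    hR.gate hyy ∈ Cfsg.GU n F q := by
  intro u v
  have hf := isUnitaryForm_hermForm hF n
  show Cfsg.hermForm n F q ((hR.gate hyy : Matrix (Fin n) (Fin n) F) *ᵥ u)
    ((hR.gate hyy : Matrix (Fin n) (Fin n) F) *ᵥ v) = _
  have hsym : Cfsg.hermForm n F q u ((y : Matrix (Fin n) (Fin n) F) *ᵥ v) =
      Cfsg.hermForm n F q ((y : Matrix (Fin n) (Fin n) F) *ᵥ u) v := by
    rw [← show Cfsg.hermForm n F q ((y : Matrix (Fin n) (Fin n) F) *ᵥ u) ((y : Matrix (Fin n) (Fin n) F) *ᵥ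
      ((y : Matrix (Fin n) (Fin n) F) *ᵥ v)) = _ from hy u _, mulVec_mulVec, hyy, one_mulVec]
  have hyv : Cfsg.hermForm n F q ((y : Matrix (Fin n) (Fin n) F) *ᵥ u) ((y : Matrix (Fin n) (Fin n) F) *ᵥ v) =
      Cfsg.hermForm n F q u v := hy u v
  simp only [hR.coe_gate, smul_mulVec, add_mulVec, one_mulVec, hf.smul_left, herm_smul_right hf, hf.add_left,
    herm_add_right hf, hyv, hsym, map_div₀, map_add, map_one, map_ofNat, hI]
  have h2 := hR.two
  field_simp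
  linear_combination (I ^ 2 - 3) * Cfsg.hermForm n F q u v * hR.I_sq

/-- A normal subgroup of `SU_4` with a non-scalar element of a frame of degree four is everything. -/
theorem su_normal_eq_top (K : Subgroup (Cfsg.SU 4 F q)) [K.Normal] {R : Subgroup (GL (Fin 4) F)} {I : F}
    (hR : Frame R I) (hRS : R ≤ S₄) {s : Cfsg.SU 4 F q} (hs : s ∈ K)
    (hns : Ns ((s : Matrix.SpecialLinearGroup (Fin 4) F) : M4)) : K = ⊤ := by
  classical
  have hsim := CfsgLib.Classical.isSimpleGroup_psu hF (n := 4) (by norm_num) (by norm_num)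
  have hperf : commutator (Cfsg.SU 4 F q) = ⊤ := by
    rw [eq_top_iff, ← CfsgLib.Classical.closure_transvections_eq_top hF (n := 4) (by norm_num) (by norm_num),
      Subgroup.closure_le]
    rintro A ⟨v, c, hv, hA⟩
    exact (commutator_eq_closure (Cfsg.SU 4 F q)).ge
      (Subgroup.subset_closure (CfsgLib.Classical.transvection_mem_commutatorSet hF (by norm_num) (by norm_num) A hv hA))
  obtain ⟨mk, hmk⟩ : ∃ f : Cfsg.SU 4 F q →* Cfsg.PSU 4 F q, f = QuotientGroup.mk' _ := ⟨_, rfl⟩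
  have hsurj : Function.Surjective mk := hmk ▸ QuotientGroup.mk'_surjective _
  rcases (Subgroup.Normal.map (H := K) inferInstance mk hsurj).eq_bot_or_eq_top with h | h
  · exfalso
    have hs' : mk s = 1 := by
      have : mk s ∈ K.map mk := ⟨s, hs, rfl⟩
      rwa [h, Subgroup.mem_bot] at this
    rw [hmk, QuotientGroup.mk'_apply, QuotientGroup.eq_one_iff, Subgroup.mem_center_iff] at hs'
    obtain ⟨c, hc⟩ := hR.irr (A := ((s : Matrix.SpecialLinearGroup (Fin 4) F) : M4)) fun y hy => by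
      obtain ⟨hy1, hy2⟩ := hRS hy
      exact (congrArg (fun z : Cfsg.SU 4 F q => ((z : Matrix.SpecialLinearGroup (Fin 4) F) : M4))
        (hs' ⟨⟨(y : M4), mem_sl.1 hy2⟩, fun u v => hy1 u v⟩)).symm
    exact hns c hc
  · rw [eq_top_iff, ← hperf, commutator_def, Subgroup.commutator_le]
    have hdec : ∀ a, ∃ k ∈ K, ∃ z ∈ Subgroup.center (Cfsg.SU 4 F q), a = k * z := by
      intro a
      obtain ⟨k, hk, hka⟩ : mk a ∈ K.map mk := h ▸ Subgroup.mem_top _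
      refine ⟨k, hk, k⁻¹ * a, ?_, (mul_inv_cancel_left k a).symm⟩
      rw [hmk, QuotientGroup.mk'_apply, QuotientGroup.mk'_apply] at hka
      exact QuotientGroup.eq.1 hka
    intro a _ a' _
    obtain ⟨k, hk, z, hz, rfl⟩ := hdec a
    obtain ⟨k', hk', z', hz', rfl⟩ := hdec a'
    rw [Subgroup.mem_center_iff] at hz hz'
    have e : ⁅k * z, k' * z'⁆ = ⁅k, k'⁆ := by
      simp only [commutatorElement_def, _root_.mul_inv_rev]
      calc k * z * (k' * z') * (z⁻¹ * k⁻¹) * (z'⁻¹ * k'⁻¹)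
          = k * (z * (k' * z')) * z⁻¹ * k⁻¹ * (z'⁻¹ * k'⁻¹) := by simp only [mul_assoc]
        _ = k * (k' * z') * k⁻¹ * (z'⁻¹ * k'⁻¹) := by
            rw [← hz (k' * z')]; simp only [mul_assoc, mul_inv_cancel_left]
        _ = k * k' * (z' * k⁻¹) * z'⁻¹ * k'⁻¹ := by simp only [mul_assoc]
        _ = k * k' * k⁻¹ * k'⁻¹ := by rw [← hz' k⁻¹]; simp only [mul_assoc, mul_inv_cancel_left]
    rw [e, commutatorElement_def]
    exact K.mul_mem (K.mul_mem (K.mul_mem hk hk') (K.inv_mem hk)) (K.inv_mem hk')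

/-- Unitary coordinates adapted to two anticommuting unitary involutions. -/
theorem exists_splitting {R : Subgroup (GL (Fin 8) F)} {I : F} (hR : Frame R I) (hRU : R ≤ Cfsg.GU 8 F q)
    {r x : GL (Fin 8) F} (hr : r ∈ R) (hx : x ∈ R)
    (hrr : (r : Matrix (Fin 8) (Fin 8) F) * r = 1) (hxx : (x : Matrix (Fin 8) (Fin 8) F) * x = 1)
    (hrx : (r : Matrix (Fin 8) (Fin 8) F) * x = -((x : Matrix (Fin 8) (Fin 8) F) * r)) :
    ∃ Φ : (Fin 8 → F) ≃ₗ[F] (Fin 4 ⊕ Fin 4 → F), SplitsForm q Φ ∧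
      cA Φ (r : Matrix (Fin 8) (Fin 8) F) = bd 1 (-1) ∧ cA Φ (x : Matrix (Fin 8) (Fin 8) F) = od 1 1 ∧
      BlockFrame (R.map (coordGL Φ).toMonoidHom) I := by
  classical
  obtain ⟨d, Φ₀, hd, h1, h2, hB⟩ := hR.exists_blockFrame hr hx hrr hxx hrx
  obtain rfl : d = 4 := by rw [Fintype.card_fin] at hd; omega
  have hf := isUnitaryForm_hermForm hF 8
  obtain ⟨P, hP⟩ : ∃ P : (Fin 4 → F) → (Fin 4 → F) → (Fin 8 → F),
      ∀ a b, P a b = Φ₀.symm (Sum.elim a b) := ⟨_, fun a b => rfl⟩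
  have hrP : ∀ a b, (r : Matrix (Fin 8) (Fin 8) F) *ᵥ P a b = P a (-b) := fun a b => by
    rw [hP, hP, symm_mulVec, coe_coordGL, h1, bd_mulVec_elim, one_mulVec, neg_mulVec, one_mulVec]
  have hxP : ∀ a b, (x : Matrix (Fin 8) (Fin 8) F) *ᵥ P a b = P b a := fun a b => by
    rw [hP, hP, symm_mulVec, coe_coordGL, h2, od_mulVec_elim, one_mulVec, one_mulVec]
  have hadd : ∀ a b c d, P (a + c) (b + d) = P a b + P c d := fun a b c d => by
    rw [hP, hP, hP, ← map_add]; congr 1; funext i; cases i <;> simp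
  have hPn : ∀ b, P 0 (-b) = -(P 0 b) := fun b => by
    rw [hP, hP, ← map_neg]; congr 1; funext i; cases i <;> simp
  have hrR : ∀ u v, f₈ ((r : Matrix (Fin 8) (Fin 8) F) *ᵥ u) ((r : Matrix (Fin 8) (Fin 8) F) *ᵥ v) = f₈ u v :=
    fun u v => hRU hr u v
  have hxR : ∀ u v, f₈ ((x : Matrix (Fin 8) (Fin 8) F) *ᵥ u) ((x : Matrix (Fin 8) (Fin 8) F) *ᵥ v) = f₈ u v :=
    fun u v => hRU hx u v
  have hcross : ∀ a b, f₈ (P a 0) (P 0 b) = 0 := fun a b => by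
    have h := hrR (P a 0) (P 0 b)
    rw [hrP, hrP, neg_zero, hPn, ← neg_one_smul F, herm_smul_right hf, map_neg, map_one, neg_one_mul] at h
    have h' : (2 : F) * f₈ (P a 0) (P 0 b) = 0 := by linear_combination -h
    exact (mul_eq_zero.1 h').resolve_left hR.two
  obtain ⟨g, hg⟩ : ∃ g : Matrix (Fin 4) (Fin 4) F, ∀ i j,
      g i j = f₈ (P (Pi.single i 1) 0) (P (Pi.single j 1) 0) :=
    ⟨Matrix.of fun i j => f₈ (P (Pi.single i 1) 0) (P (Pi.single j 1) 0), fun i j => rfl⟩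
  have hGram : ∀ a c, f₈ (P a 0) (P c 0) = a ⬝ᵥ g *ᵥ fun i => qConj hF (c i) := by
    intro a c
    have e : ∀ u : Fin 4 → F, P u 0 = ∑ i, u i • P (Pi.single i 1) 0 := fun u => by
      let L : (Fin 4 → F) →ₗ[F] (Fin 8 → F) :=
        Φ₀.symm.toLinearMap.comp
          ((LinearEquiv.sumArrowLequivProdArrow (Fin 4) (Fin 4) F F).symm.toLinearMap.comp
            (LinearMap.inl F (Fin 4 → F) (Fin 4 → F)))
      have hL : ∀ u, P u 0 = L u := fun u => (hP u 0).trans rfl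
      simp only [hL, ← map_smul, ← map_sum]
      congr 1
      funext j; simp [Finset.sum_apply, Pi.single_apply]
    rw [e a, e c, UFrame.f_sum_sum hF]
    simp only [dotProduct, mulVec, hg, Finset.mul_sum]
    exact Finset.sum_congr rfl fun i _ => Finset.sum_congr rfl fun j _ => by ring
  have hsum : ∀ a b c d, f₈ (P a b) (P c d) = f₈ (P a 0) (P c 0) + f₈ (P b 0) (P d 0) := by
    intro a b c d
    have e : ∀ u v, P u v = P u 0 + P 0 v := fun u v => by rw [← hadd, add_zero, zero_add]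
    rw [e a b, e c d, hf.add_left, herm_add_right hf, herm_add_right hf, hcross,
      herm_eq_zero_comm hf (hcross c b), add_zero, zero_add, ← hxR (P 0 b), hxP, hxP]
  have hunit : IsUnit g := Matrix.mulVec_injective_iff_isUnit.1 fun u v huv => by
    obtain ⟨w, hw⟩ : ∃ w : Fin 4 → F, w = fun i => qConj hF (u i - v i) := ⟨_, rfl⟩
    have hzero : ∀ a, f₈ (P a 0) (P w 0) = 0 := fun a => by
      rw [hGram, hw]
      simp only [qConj_qConj]
      rw [show (fun i => u i - v i) = u - v from rfl, mulVec_sub, show g *ᵥ u = g *ᵥ v from huv, sub_self,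
        dotProduct_zero]
    have hall : P w 0 = 0 := by
      by_contra hne
      obtain ⟨⟨z, hz⟩, -⟩ := hf.nondegenerate _ hne
      obtain ⟨s, rfl⟩ := Φ₀.symm.surjective z
      apply hz
      rw [← Sum.elim_comp_inl_inr s, ← hP, hsum, hzero, zero_add, hGram, show (fun i => qConj hF ((0 : Fin 4 → F) i)) = 0
        from funext fun i => map_zero _, mulVec_zero, dotProduct_zero]
    rw [hP, LinearEquiv.map_eq_zero_iff] at hall
    funext i
    have := congrFun hall (Sum.inl i)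
    simp only [Sum.elim_inl, Pi.zero_apply, hw, map_eq_zero] at this
    exact sub_eq_zero.1 this
  obtain ⟨G, hG⟩ := hunit
  have hherm : (G.1.map (qConj hF))ᵀ = G.1 := by
    rw [hG]; ext i j
    rw [transpose_apply, Matrix.map_apply, hg, hg, ← hf.herm]
  obtain ⟨h, hh⟩ := CfsgLib.KnownC.exists_congr_one (qConj hF) (UFrame.orderOf_qConj hF) G hherm
  obtain ⟨H, hH⟩ : ∃ H : GL (Fin 4) F, ∀ v, (H : M4) *ᵥ v = v ᵥ* (h : M4) := by
    refine ⟨⟨(h : M4)ᵀ, ((h⁻¹ : GL (Fin 4) F) : M4)ᵀ, ?_, ?_⟩, fun v => mulVec_transpose _ _⟩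
    · rw [← transpose_mul, Units.inv_mul, transpose_one]
    · rw [← transpose_mul, Units.mul_inv, transpose_one]
  have hform : ∀ a c, f₈ (P a 0) (P c 0) = f₄ ((H : M4) *ᵥ a) ((H : M4) *ᵥ c) := by
    intro a c
    rw [hGram, ← hG, hh, dotProduct_mulVec, ← vecMul_vecMul, ← dotProduct_mulVec, hH, hH, mulVec_transpose,
      UFrame.f_apply hF]
    simp [dotProduct, vecMul, map_sum]
  let T : (Fin 4 ⊕ Fin 4 → F) ≃ₗ[F] (Fin 4 ⊕ Fin 4 → F) :=
    LinearEquiv.ofLinear (Matrix.toLin' (bd (H : M4) H))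
      (Matrix.toLin' (bd ((H⁻¹ : GL (Fin 4) F) : M4) ((H⁻¹ : GL (Fin 4) F) : M4)))
      (by rw [← Matrix.toLin'_mul, bd_mul, Units.mul_inv, bd_one, Matrix.toLin'_one])
      (by rw [← Matrix.toLin'_mul, bd_mul, Units.inv_mul, bd_one, Matrix.toLin'_one])
  have hT : ∀ a b, T (Sum.elim a b) = Sum.elim ((H : M4) *ᵥ a) ((H : M4) *ᵥ b) := fun a b => bd_mulVec_elim _ _ _ _
  have hcA : ∀ (A : Matrix (Fin 8) (Fin 8) F) (B : M8), cA Φ₀ A = B →
      (∀ a b, B *ᵥ Sum.elim ((H : M4) *ᵥ a) ((H : M4) *ᵥ b) = T (B *ᵥ Sum.elim a b)) →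
      cA (Φ₀.trans T) A = B := fun A B hA hB => cA_ext (Φ₀.trans T) fun v => by
    rw [cA_mulVec, LinearEquiv.trans_apply, LinearEquiv.trans_apply, ← Sum.elim_comp_inl_inr (Φ₀ v), hT,
      hB, Sum.elim_comp_inl_inr, ← hA, cA_mulVec]
  have hr' := hcA _ _ h1 fun a b => by
    rw [bd_mulVec_elim, bd_mulVec_elim, hT, one_mulVec, one_mulVec, neg_mulVec, neg_mulVec, one_mulVec, one_mulVec,
      mulVec_neg]
  have hx' := hcA _ _ h2 fun a b => by
    rw [od_mulVec_elim, od_mulVec_elim, hT, one_mulVec, one_mulVec, one_mulVec, one_mulVec]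
  refine ⟨Φ₀.trans T, fun a b c d => ?_, hr', hx', hR.map _, ⟨_, ⟨r, hr, rfl⟩, hr'⟩, ⟨_, ⟨x, hx, rfl⟩, hx'⟩⟩
  have e : ∀ a b, (Φ₀.trans T).symm (Sum.elim a b) =
      P (((H⁻¹ : GL (Fin 4) F) : M4) *ᵥ a) (((H⁻¹ : GL (Fin 4) F) : M4) *ᵥ b) := fun a b => by
    rw [hP, LinearEquiv.symm_trans_apply]
    exact congrArg Φ₀.symm (bd_mulVec_elim _ _ _ _)
  rw [e, e, hsum, hform, hform, mulVec_mulVec, mulVec_mulVec, mulVec_mulVec, mulVec_mulVec, Units.mul_inv,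
    one_mulVec, one_mulVec, one_mulVec, one_mulVec]

/-- The dichotomy. -/
theorem unitary_blocks {R M : Subgroup (GL (Fin 8) F)} {I : F} (hq : q.Prime) (hq4 : q % 4 = 3) (hR : Frame R I)
    (hI : qConj hF I = -I) (hRS : R ≤ S₈) (hMS : M ≤ S₈) (hN : ∀ g ∈ subgroupNormalizer R, g ∈ S₈ → g ∈ M)
    (hne : ¬ S₈ ≤ M) {Φ : (Fin 8 → F) ≃ₗ[F] (Fin 4 ⊕ Fin 4 → F)} (hΦ : SplitsForm q Φ)
    (hB : BlockFrame (R.map (coordGL Φ).toMonoidHom) I) :
    BlocksNormalise (R.map (coordGL Φ).toMonoidHom) (M.map (coordGL Φ).toMonoidHom) := by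
  classical
  obtain ⟨R', hR'⟩ : ∃ R', R' = R.map (coordGL Φ).toMonoidHom := ⟨_, rfl⟩
  obtain ⟨M', hM'⟩ : ∃ M', M' = M.map (coordGL Φ).toMonoidHom := ⟨_, rfl⟩
  rw [← hR', ← hM']; rw [← hR'] at hB
  obtain ⟨K', hK'⟩ : ∃ K', K' = (S₈).map (coordGL Φ).toMonoidHom := ⟨_, rfl⟩
  have hMK : M' ≤ K' := hM' ▸ hK' ▸ Subgroup.map_mono hMS
  have hRK : R' ≤ K' := hR' ▸ hK' ▸ Subgroup.map_mono hRS
  have hN' : ∀ g ∈ subgroupNormalizer R', g ∈ K' → g ∈ M' := by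
    intro g hg hgK
    obtain ⟨a, ha, rfl⟩ := hK' ▸ hgK
    refine hM' ▸ Subgroup.mem_map_of_mem _ (hN a (mem_normalizer_of_conj fun w hw => ?_) ha)
    obtain ⟨u, hu, hue⟩ := hR' ▸ conj_mem hg (hR' ▸ Subgroup.mem_map_of_mem (coordGL Φ).toMonoidHom hw)
    rw [← map_inv, ← map_mul, ← map_mul] at hue
    rwa [← (coordGL Φ).injective hue]
  have hpairU : ∀ {a b : GL (Fin 4) F}, pairGL (a, b) ∈ K' → a ∈ Cfsg.GU 4 F q ∧ b ∈ Cfsg.GU 4 F q :=
    fun {a b} h => gu_of_pair_mem hF hΦ (hK' ▸ h)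
  have hpairK : ∀ {a b : GL (Fin 4) F}, a ∈ Cfsg.GU 4 F q → b ∈ Cfsg.GU 4 F q →
      (a : M4).det * (b : M4).det = 1 → pairGL (a, b) ∈ K' := fun {a b} ha hb hd => hK' ▸ pair_mem hF hΦ ha hb hd
  have hHF := hB.half_frame
  have hHS : half R' ≤ S₄ := fun a ha => ⟨(hpairU (hRK ha)).1, hHF.le_sl (k := 1) (by simp) ha⟩
  obtain ⟨hs, hz4, hcard⟩ := hHF.sympType (m := 2) (by simp)
  have hmax := CfsgLib.MaxSub.SuFour.sympType_maximal_four q hF q (half R') hq rfl hq4 hs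
    (CfsgLib.Aschbacher.absIrred_of_alg_top hHF.alg) (fun a ha => (hHS ha).1) (by rw [hcard]; norm_num) hz4
  obtain ⟨x, hx, hxm⟩ := hB.memX
  have hxx : x * x = 1 := Units.ext (by rw [Units.val_mul, hxm, od_mul, Matrix.mul_one, bd_one, Units.val_one])
  have hRM : ∀ y ∈ R', y ∈ M' := fun y hy =>
    hN' y (mem_normalizer_of_conj fun w hw => R'.mul_mem (R'.mul_mem hy hw) (R'.inv_mem hy)) (hRK hy)
  have hswap : ∀ a b : GL (Fin 4) F, pairGL (a, b) ∈ M' → pairGL (b, a) ∈ M' := fun a b h => by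
    have e : x * pairGL (a, b) * x = pairGL (b, a) := Units.ext (by
      rw [Units.val_mul, Units.val_mul, hxm, coe_pairGL, coe_pairGL, od_mul_bd, od_mul]
      simp)
    exact e ▸ M'.mul_mem (M'.mul_mem (hRM x hx) h) (hRM x hx)
  obtain ⟨P, hP⟩ : ∃ P : Subgroup (GL (Fin 4) F), P = (M'.comap pairGL).map (MonoidHom.fst _ _) := ⟨_, rfl⟩
  have hPm : ∀ a, a ∈ P ↔ ∃ b, pairGL (a, b) ∈ M' := fun a => by
    rw [hP]
    exact ⟨fun ⟨⟨a', b⟩, hab, e⟩ => ⟨b, by cases e; exact hab⟩, fun ⟨b, hb⟩ => ⟨(a, b), hb, rfl⟩⟩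
  have hHP : subgroupNormalizer (half R') ⊓ S₄ ≤ P ⊓ S₄ := fun a ha =>
    ⟨(hPm a).2 ⟨a, hN' _ (hB.dup_mem_normalizer ha.1)
      (hpairK ha.2.1 ha.2.1 (by rw [mem_sl.1 ha.2.2, one_mul]))⟩, ha.2⟩
  intro g hg hc
  obtain ⟨A, B, rfl⟩ := exists_pairGL_of_comm hR.two hc
  rcases hmax.2 _ hHP inf_le_right with h | h
  · have hone : ∀ a b, pairGL (a, b) ∈ M' → a ∈ subgroupNormalizer (half R') := fun a b hab => by
      have haP : a ∈ P := (hPm a).2 ⟨b, hab⟩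
      have haU := (hpairU (hMK hab)).1
      refine hHF.normalizer_of_normalizes (Fintype.card_fin 4) hHS
        (fun v w hv hw hvv hww h1 h2 => ⟨Subgroup.mul_mem _ (gate_mem_gu hF hHF hI (hHS hv).1 hvv)
          (gate_mem_gu hF hHF hI (hHS hw).1 hww), hHF.gates_mem_sl (Fintype.card_fin 4) hv hw hvv hww h1 h2⟩)
        (fun g hg hgd => ?_) fun g hg hgd => ?_
      · have hd : a⁻¹ * g * a ∈ P ⊓ S₄ := by
          refine ⟨P.mul_mem (P.mul_mem (P.inv_mem haP) (hHP ⟨hg, hgd⟩).1) haP,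
            Subgroup.mul_mem _ (Subgroup.mul_mem _ (Subgroup.inv_mem _ haU) hgd.1) haU, ?_⟩
          exact MonoidHom.mem_ker.2 (by rw [map_mul, map_mul, MonoidHom.mem_ker.1 hgd.2, mul_one, map_inv, inv_mul_cancel])
        rw [h] at hd
        exact hd.1
      · have hd : a * g * a⁻¹ ∈ P ⊓ S₄ := by
          refine ⟨P.mul_mem (P.mul_mem haP (hHP ⟨hg, hgd⟩).1) (P.inv_mem haP),
            Subgroup.mul_mem _ (Subgroup.mul_mem _ haU hgd.1) (Subgroup.inv_mem _ haU), ?_⟩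
          exact MonoidHom.mem_ker.2 (by rw [map_mul, map_mul, MonoidHom.mem_ker.1 hgd.2, mul_one, map_inv, mul_inv_cancel])
        rw [h] at hd
        exact hd.1
    exact ⟨A, hone A B hg, B, hone B A (hswap _ _ hg), rfl⟩
  · exfalso
    obtain ⟨ι₄, hι₄⟩ : ∃ ι₄ : Cfsg.SU 4 F q →* GL (Fin 4) F,
        ι₄ = Matrix.SpecialLinearGroup.toGL.comp (Cfsg.SU 4 F q).subtype := ⟨_, rfl⟩
    have hιv : ∀ s : Cfsg.SU 4 F q, (ι₄ s : M4) = ((s : Matrix.SpecialLinearGroup (Fin 4) F) : M4) := fun s => by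
      rw [hι₄]; rfl
    have hιS : ∀ s, ι₄ s ∈ S₄ := fun s => ⟨fun u v => by
      show f₄ ((ι₄ s : M4) *ᵥ u) ((ι₄ s : M4) *ᵥ v) = _
      rw [hιv]; exact s.2 u v, mem_sl.2 (by rw [hιv]; exact s.1.2)⟩
    have hall : ∀ s, ∃ b, pairGL (b, ι₄ s) ∈ M' := fun s => by
      obtain ⟨b, hb⟩ := (hPm _).1 (h.ge (hιS s)).1
      exact ⟨b, hswap _ _ hb⟩
    obtain ⟨K, hK⟩ : ∃ K : Subgroup (Cfsg.SU 4 F q), K = M'.comap
        (pairGL.comp ((MonoidHom.inr (GL (Fin 4) F) (GL (Fin 4) F)).comp ι₄)) := ⟨_, rfl⟩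
    have hKm : ∀ s, s ∈ K ↔ pairGL (1, ι₄ s) ∈ M' := fun s => by rw [hK]; rfl
    have hKn : K.Normal := ⟨fun k hk s => by
      obtain ⟨b, hb⟩ := hall s
      rw [hKm] at hk ⊢
      have e : pairGL (b, ι₄ s) * pairGL (1, ι₄ k) * (pairGL (b, ι₄ s))⁻¹ = pairGL (1, ι₄ (s * k * s⁻¹)) := by
        rw [← map_inv, ← map_mul, ← map_mul]
        congr 1
        simp [Prod.ext_iff, map_mul]
      exact e ▸ M'.mul_mem (M'.mul_mem hb hk) (M'.inv_mem hb)⟩
    obtain ⟨z, hz, hzns⟩ := hHF.exists_ns (by simp)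
    obtain ⟨hzU, hzD⟩ := hHS hz
    obtain ⟨zS, hzS⟩ : ∃ zS : Cfsg.SU 4 F q, ι₄ zS = z :=
      ⟨⟨⟨(z : M4), mem_sl.1 hzD⟩, fun u v => hzU u v⟩, Units.ext (hιv _)⟩
    have hzK : zS ∈ K := by
      rw [hKm, hzS]
      exact hN' _ (hB.controlled_mem_normalizer hz) (hpairK (one_mem _) hzU (by
        rw [Units.val_one, Matrix.det_one, one_mul, mem_sl.1 hzD]))
    have htop := su_normal_eq_top hF K hHF hHS hzK (by rw [← hιv, hzS]; exact hzns)
    have hr : ∀ a ∈ S₄, pairGL (1, a) ∈ M' := fun a ha => by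
      have := (hKm ⟨⟨(a : M4), mem_sl.1 ha.2⟩, fun u v => ha.1 u v⟩).1 (htop ▸ Subgroup.mem_top _)
      rwa [show ι₄ ⟨⟨(a : M4), mem_sl.1 ha.2⟩, fun u v => ha.1 u v⟩ = a from Units.ext (hιv _)] at this
    apply hne
    let Q : ((Fin 4 → F) × (Fin 4 → F)) ≃ₗ[F] (Fin 8 → F) :=
      (LinearEquiv.sumArrowLequivProdArrow (Fin 4) (Fin 4) F F).symm.trans Φ.symm
    have hQe : ∀ a b, Q (a, b) = Φ.symm (Sum.elim a b) := fun a b => rfl
    have hlift : ∀ y ∈ M', ∃ g ∈ M, ∀ a b,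
        (g : Matrix (Fin 8) (Fin 8) F) *ᵥ Q (a, b) = Φ.symm ((y : M8) *ᵥ Sum.elim a b) := fun y hy => by
      obtain ⟨g, hgM, rfl⟩ := hM' ▸ hy
      exact ⟨g, hgM, fun a b => by rw [hQe, symm_mulVec]; rfl⟩
    have hxM : ∀ {w : GL (Fin 4 ⊕ Fin 4) F}, w ∈ R' → w ∈ M' := fun hw => hRM _ hw
    have hxx' : (x : M8) * (x : M8) = 1 := by rw [← Units.val_mul, hxx, Units.val_one]
    obtain ⟨G, hG, hGQ⟩ := hlift (hB.frame.gate hxx') (by
      obtain ⟨x₀, hx₀, hxe⟩ : x ∈ R.map (coordGL Φ).toMonoidHom := hR' ▸ hx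
      have hxe' : cA Φ (x₀ : Matrix (Fin 8) (Fin 8) F) = (x : M8) := by rw [← hxe]; rfl
      have hx₀x₀ : (x₀ : Matrix (Fin 8) (Fin 8) F) * x₀ = 1 := (cA Φ).injective (by
        rw [map_mul, map_one, hxe', hxx'])
      have hns : Ns (x₀ : Matrix (Fin 8) (Fin 8) F) := fun c hc => by
        have h3 := hxe'
        rw [hc, map_smul, map_one, hxm] at h3
        have := congrFun (congrFun h3 (Sum.inl 0)) (Sum.inr 0)
        simp [od] at this
      have hgate := hN _ (hR.gate_mem_normalizer hx₀ hx₀x₀)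
        ⟨gate_mem_gu hF hR hI (hRS hx₀).1 hx₀x₀, mem_sl.2 (by
          rw [(hR.det_invol hx₀ hx₀x₀ hns (k := 2) (by simp)).2, neg_one_sq])⟩
      refine hM' ▸ ⟨_, hgate, Units.ext ?_⟩
      show cA Φ (hR.gate hx₀x₀ : Matrix (Fin 8) (Fin 8) F) = _
      rw [hR.coe_gate, hB.frame.coe_gate, map_smul, map_add, map_one, map_smul, hxe'])
    refine su_le_of_split hF hMS Q (fun a b c d => hΦ a b c d) (fun a ha => ?_) (fun a ha => ?_) hR.two hG
      (left_ne_zero_of_mul (left_ne_zero_of_mul_eq_one hR.coeff)) hR.I_sq fun a b => ?_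
    · obtain ⟨g, hgM, hgQ⟩ := hlift _ (hswap 1 a (hr a ha))
      exact ⟨g, hgM, fun u v => by rw [hgQ, hQe, coe_pairGL, bd_mulVec_elim, Units.val_one, one_mulVec]⟩
    · obtain ⟨g, hgM, hgQ⟩ := hlift _ (hr a ha)
      exact ⟨g, hgM, fun u v => by rw [hgQ, hQe, coe_pairGL, bd_mulVec_elim, Units.val_one, one_mulVec]⟩
    · rw [hGQ, hQe, hB.frame.coe_gate, hxm, smul_mulVec, add_mulVec, one_mulVec, smul_mulVec, od_mulVec_elim,
        one_mulVec, one_mulVec, map_smul]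
      congr 2
      funext i; cases i <;> simp [add_comm]

end CfsgLib.MaxSub.SymEight
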