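import Cfsg.Agent.Lib.MaxSub.SymEight.Main
import Cfsg.Agent.Lib.MaxSub.SymEight.UnitaryProj

/-!
The normaliser of a group of symplectic type of order `2^8` is maximal in `SU_8(p)`, `p` congruent to three
modulo four.
-/

set_option autoImplicit false
set_option linter.unusedSectionVars false
set_option linter.style.haveILetI false

namespace CfsgLib.MaxSub.SymEight

open scoped MatrixGroups
open Cfsg.Geo Matrix CfsgLib.MaxSub CfsgLib.MaxSub.DecompMax

variable {F : Type*} [Field F] [Fintype F] {q : ℕ} (hF : Fintype.card F = q ^ 2)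
include hF

local notation "M4" => Matrix (Fin 4) (Fin 4) F
local notation "f₄" => Cfsg.hermForm 4 F q
local notation "S₈" => Cfsg.GU 8 F q ⊓ specialLinear (Fin 8) F

/-- Conjugation by `x ↦ x ^ q` negates a square root of `-1` when `q ≡ 3 (mod 4)`. -/
theorem qConj_sqrt_neg_one (hq4 : q % 4 = 3) {I : F} (hI : I * I = -1) : qConj hF I = -I := by
  obtain ⟨k, hk⟩ : ∃ k, q = 2 * (2 * k + 1) + 1 := ⟨q / 4, by omega⟩
  rw [qConj_apply, hk, pow_succ, pow_mul, pow_two, hI, Odd.neg_one_pow ⟨k, rfl⟩, neg_one_mul]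

/-- An overgroup of the normaliser in `SU_8` not containing `SU_8`. -/
theorem Over.of_su (hq : q.Prime) (hq4 : q % 4 = 3) {R M : Subgroup (GL (Fin 8) F)} {I : F} (hR : Frame R I)
    (hRS : R ≤ S₈) (hMS : M ≤ S₈) (hN : ∀ g ∈ subgroupNormalizer R, g ∈ S₈ → g ∈ M) (hne : ¬ S₈ ≤ M) :
    Over R M I := by
  have hI := qConj_sqrt_neg_one hF hq4 hR.I_sq
  have hk : Fintype.card (Fin 8) = 4 * 2 := by simp
  refine ⟨hR, Fintype.card_fin 8, fun hy => hN _ (mem_normalizer_of_conj fun w hw =>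
      R.mul_mem (R.mul_mem hy hw) (R.inv_mem hy)) (hRS hy), fun hy hyy hns => hN _ (hR.gate_mem_normalizer hy hyy)
      ⟨gate_mem_gu hF hR hI (hRS hy).1 hyy, mem_sl.2 (by rw [(hR.det_invol hy hyy hns hk).2, neg_one_sq])⟩,
    fun {r x} hr hx hrr hxx hrx => ?_⟩
  obtain ⟨Φ, hΦ, h1, h2, hB⟩ := exists_splitting hF hR (fun y hy => (hRS hy).1) hr hx hrr hxx hrx
  exact ⟨Φ, h1, h2, hB, unitary_blocks hF hq hq4 hR hI hRS hMS hN hne hΦ hB⟩

/-- The normaliser of a frame of degree eight does not contain `SU_8`. -/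
theorem not_su_le {R : Subgroup (GL (Fin 8) F)} {I : F} (hR : Frame R I) (hRU : R ≤ Cfsg.GU 8 F q) :
    ¬ S₈ ≤ subgroupNormalizer R := by
  classical
  intro hle
  haveI := hR.nonempty
  obtain ⟨a, ha, hans⟩ := hR.exists_ns (by simp)
  obtain ⟨r, hr, c, hc, hrm, hrr⟩ := hR.exists_invol ha
  obtain ⟨x, hx, hxx, hrx⟩ := hR.exists_pair hr fun e he => hans (c⁻¹ * e) (by
    rw [← smul_smul, ← he, hrm, smul_smul, inv_mul_cancel₀ hc, one_smul])
  obtain ⟨Φ, hΦ, -, h1, hB⟩ := exists_splitting hF hR hRU hr hx hrr hxx hrx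
  have hf := isUnitaryForm_hermForm hF 4
  obtain ⟨t, ht⟩ := exists_norm_eq hf (e := (-1 : F)) (by rw [map_neg, map_one])
  obtain ⟨k, hk0, hk⟩ := exists_trace_zero hf
  obtain ⟨e, he⟩ : ∃ e : Fin 4 → F, e = ![1, t, 0, 0] := ⟨_, rfl⟩
  have hee : f₄ e e = 0 := by
    simp [Cfsg.hermForm, ← qConj_apply hF, Fin.sum_univ_four, he, ht]
  have h0 : (k • hDual f₄ e) ⬝ᵥ e = 0 := by rw [smul_dotProduct, hDual_dot hf, hee, smul_zero]
  obtain ⟨B, hBdef⟩ : ∃ B, B = tvGL e (k • hDual f₄ e) h0 := ⟨_, rfl⟩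
  have hBS := uTv_mem_su hF hee hk h0
  rw [← hBdef] at hBS
  have hB2 : ∀ v, ((B : M4) * (B : M4)) *ᵥ v = v + (2 * k * f₄ v e) • e := fun v => by
    rw [← mulVec_mulVec, hBdef, coe_tvGL, uTv_mulVec hf, uTv_mulVec hf, hf.add_left, hf.smul_left, hee,
      mul_zero, add_zero, add_assoc, ← add_smul]
    congr 2; ring
  obtain ⟨g, hgS, hge⟩ := pair_mem hF hΦ (one_mem _) hBS.1 (by
    rw [Units.val_one, Matrix.det_one, one_mul]; exact mem_sl.1 hBS.2)
  obtain ⟨b, hb, e'⟩ := hB.decomp (Subgroup.mem_map_of_mem (coordGL Φ).toMonoidHom (conj_mem (hle hgS) hx))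
  simp only [MulEquiv.coe_toMonoidHom, map_mul, map_inv] at e'
  rw [show coordGL Φ g = pairGL (1, B) from hge] at e'
  simp only [Units.val_mul, coe_coordGL, h1, ← map_inv pairGL, Prod.inv_mk, inv_one, coe_pairGL, Units.val_one,
    bd_mul_od, od_mul_bd, Matrix.one_mul, Matrix.mul_one] at e'
  have hbb : ∀ s : F, (B : M4) = s • ((B⁻¹ : GL (Fin 4) F) : M4) → (B : M4) * (B : M4) = s • 1 := fun s hs => by
    nth_rewrite 2 [hs]
    rw [Matrix.mul_smul, Units.mul_inv]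
  rcases e' with e' | e' | e' | e'
  · exact b.ne_zero ((Matrix.fromBlocks_inj).1 e').1.symm
  · exact b.ne_zero ((Matrix.fromBlocks_inj).1 e').1.symm
  · obtain ⟨e1, e2⟩ := od_inj e'
    have h := congrFun (hB2 (Pi.single 0 1)) 0
    rw [hbb 1 (by rw [e2, e1, one_smul]), one_smul, one_mulVec] at h
    simp [Cfsg.hermForm, Fin.sum_univ_four, he] at h
    exact h.elim (fun h' => hR.two h') hk0
  · obtain ⟨e1, e2⟩ := od_inj e'
    have h := congrFun (hB2 (Pi.single 2 1)) 2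
    rw [hbb (-1) (by rw [e2, e1, neg_one_smul])] at h
    simp [he] at h
    exact hR.two (by linear_combination -h)

/-- The class-6 clause for `SU_8(p)`. -/
theorem sympType_maximal_eight_unitary (p : ℕ) (R : Subgroup (GL (Fin 8) F)) (hp : p.Prime) (hqp : q = p)
    (hp4 : p % 4 = 3) (hs : IsSymplecticTypeGroup 2 R) (hirr : ActsAbsolutelyIrreducibly (matrixSet R))
    (hRU : R ≤ Cfsg.GU 8 F q) (hz : Nat.card (Subgroup.center R) = 4) :
    IsMaximalIn S₈ (subgroupNormalizer R ⊓ S₈) := by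
  subst hqp
  haveI : Fact q.Prime := ⟨hp⟩
  haveI hchar : CharP F q := by
    obtain ⟨r, hr⟩ := CharP.exists F
    haveI := hr
    obtain ⟨n, hrp, hn⟩ := FiniteField.card F r
    have : r = q := (Nat.prime_dvd_prime_iff_eq hrp hp).1
      (hrp.dvd_of_dvd_pow (n := 2) (by rw [← hF, hn]; exact dvd_pow_self r n.ne_zero))
    exact this ▸ hr
  have hq2 : q ≠ 2 := by omega
  have h2 : (2 : F) ≠ 0 := Ring.two_ne_zero (by rwa [ringChar.eq F q])
  have h8 : ((Fintype.card (Fin 8) : ℕ) : F) ≠ 0 := by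
    rw [Fintype.card_fin, show ((8 : ℕ) : F) = (2 : F) * 2 * 2 by norm_num]
    exact mul_ne_zero (mul_ne_zero h2 h2) h2
  obtain ⟨I, hI⟩ := Frame.of_sympType h8 h2 hs hirr hz
  have hRS : R ≤ S₈ := le_inf hRU (hI.le_sl (k := 2) (by simp))
  refine ⟨lt_of_le_not_ge inf_le_right fun hle => not_su_le hF hI hRU fun g hg => (hle hg).1,
    fun M hHM hMK => ?_⟩
  by_cases hne : S₈ ≤ M
  · exact Or.inr (le_antisymm hMK hne)
  · have ho := Over.of_su hF hp hp4 hI hRS hMK (fun g hg hgd => hHM ⟨hg, hgd⟩) hne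
    exact Or.inl (le_antisymm (le_inf ho.le_normalizer hMK) hHM)

end CfsgLib.MaxSub.SymEight
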